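import Cfsg.Agent.Co3TwoM12.Parity
import Cfsg.Agent.Co3TwoM12.Data.Alpha

/-!
An element interchanging the two involutions may be taken to be an involution inducing one of four
listed automorphisms on their common centraliser.
-/

set_option autoImplicit false
set_option maxRecDepth 100000

namespace Cfsg.Agent.Co3TwoM12

open Cfsg Cfsg.Agent.Compute Cfsg.Agent.StemCert
open Cfsg.Agent.Co3Rec (R Ctx ltB ltB_iff)

/-- The list index of a letter. -/
noncomputable abbrev dLet (s : ℕ) : ℕ := Data.dLet.getD s 0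

/-- The image of a letter under the `k`th automorphism. -/
noncomputable abbrev aImg (k s : ℕ) : ℕ := Data.aImg (Nat.add (Nat.mul k 6) s)

/-- The automorphism on the list. -/
noncomputable abbrev aMap (k i : ℕ) : ℕ := Data.aMap (Nat.add (Nat.mul k 384) i)

/-- The image of a word. -/
noncomputable def aWord (k : ℕ) (l : List ℕ) : List ℕ := l.flatMap fun s => dW (aImg k s)

theorem dLet_ok : allBelow 6 (fun s => Nat.blt (dLet s) 384 && same (dW (dLet s)) [s]) = true := by
  decide +kernel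

theorem dEl_let {s : ℕ} (hs : s < 6) : dLet s < 384 ∧ dEl (dLet s) = ctx.gen s := by
  have h := allBelow_eq_true.mp dLet_ok s hs
  simp only [Bool.and_eq_true, Nat.blt_eq] at h
  exact ⟨h.1, by rw [dEl, eq_of_same h.2, ctx.ev_single]⟩

theorem aImg_ok : allBelow 8 (fun k => allBelow 6 (fun s => Nat.blt (aImg k s) 384) &&
    Nat.beq (aImg k 0) 7 && Nat.beq (aImg k 1) 2 &&
    Nat.beq (aImg k 3) (Data.dInv (aImg k 2)) && Nat.beq (aImg k 5) (Data.dInv (aImg k 4))) = true := by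
  decide +kernel

theorem aMap_ok : allBelow 4 (fun k => allBelow 384 fun i => Nat.blt (aMap k i) 384 &&
    Nat.beq (dApp 0 (aWord k (dW i))) (aMap k i) && Nat.beq (aMap k (aMap k i)) i) = true := by
  decide +kernel

theorem rel_idx : Nat.beq (dApp 0 [2, 4, 2, 4, 2, 4, 2, 4]) 2 = true ∧
    Nat.beq (dApp 0 [2, 2, 2, 2]) 0 = true ∧ Nat.beq (dApp 0 [2, 2]) 0 = false ∧
    Nat.beq (dApp 0 [4, 4, 4]) 0 = true ∧ Nat.beq (dApp 0 [4]) 0 = false ∧
    Nat.beq (dApp 0 [2, 3]) 0 = true ∧ Nat.beq (dApp 0 [4, 5]) 0 = true := by decide +kernel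

/-- The witness for a pair of images. -/
noncomputable abbrev aWitN (p q : ℕ) : ℕ :=
  Data.aWit (Nat.add (Nat.mul (Data.pPos p) Data.qN) (Data.qPos q))

/-- The product in a conjugation. -/
noncomputable def dConj (d p : ℕ) : ℕ := dMul (dMul d p) (Data.dInv d)

theorem cand_ok : allBelow 384 (fun p => forceN (dMul p p) fun p2 =>
    !(Nat.beq (dMul p2 p2) 0) || Nat.beq p2 0 || allBelow 384 (fun q =>
      Nat.beq q 0 || !(Nat.beq (dMul (dMul q q) q) 0) || forceN (dMul p q) (fun x => forceN (dMul x x) fun x2 =>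
        !(Nat.beq (dMul x2 x2) 2) || forceN (aWitN p q) (fun w =>
          forceN (Nat.div w 384) fun k => forceN (Nat.mod w 384) fun d => Nat.blt k 8 &&
            Nat.beq (dConj d (aImg k 2)) p && Nat.beq (dConj d (aImg k 4)) q)))) = true := by
  decide +kernel

theorem outer_ok : allBelow 4 (fun j => forceN (Nat.add j 4) fun k =>
    forceN (dApp 0 (aWord k (dW (aImg k 2)))) fun p => forceN (dApp 0 (aWord k (dW (aImg k 4)))) fun q =>
      allBelow 384 fun d => !(Nat.beq (dMul d (dLet 2)) (dMul p d)) || !(Nat.beq (dMul d (dLet 4)) (dMul q d))) =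
    true := by decide +kernel

theorem b_central_ok : allBelow 384 (fun i => Nat.beq (dMul 1 i) (dMul i 1)) = true := by decide +kernel

variable {G : Type*} [Group G] (Φ : CBs →* G)

/-- A listed element in the centraliser. -/
noncomputable def dC (i : ℕ) : CBs :=
  if h : i < 384 then ⟨dEl i, Subgroup.mem_centralizer_singleton_iff.mpr (dEl_comm h).1⟩ else 1

theorem dC_coe {i : ℕ} (hi : i < 384) : (dC i : R) = dEl i := by rw [dC, dif_pos hi]

theorem dC_mul {i j : ℕ} (hi : i < 384) (hj : j < 384) : dC i * dC j = dC (dMul i j) :=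
  Subtype.ext (by
    rw [Subgroup.coe_mul, dC_coe hi, dC_coe hj, dC_coe (dMul_spec hi hj).1, (dMul_spec hi hj).2])

theorem dC_inv {i : ℕ} (hi : i < 384) : (dC i)⁻¹ = dC (Data.dInv i) := by
  have h := allBelow_eq_true.mp dW_ok i hi
  simp only [Bool.and_eq_true, Nat.blt_eq] at h
  exact Subtype.ext (by rw [InvMemClass.coe_inv, dC_coe hi, dC_coe h.1.1.2, dEl_inv hi])

theorem dC_zero : dC 0 = 1 := Subtype.ext (by rw [dC_coe (by norm_num), dEl_zero]; rfl)

theorem dC_one : dC 1 = ⟨_, bE_memC⟩ := Subtype.ext (by rw [dC_coe (by norm_num), dEl_one])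

theorem dC_two : dC 2 = ⟨_, tE_memC⟩ := Subtype.ext (by rw [dC_coe (by norm_num), dEl_two])

theorem dC_seven : dC 7 = ⟨_, bE_memC⟩ * ⟨_, tE_memC⟩ :=
  Subtype.ext (by rw [dC_coe (by norm_num), dEl_seven]; rfl)

/-- Images of the letters determine the image of the list. -/
theorem conj_word {n : G} {k : ℕ} (hk : k < 8)
    (hg : ∀ s < 6, n * Φ (dC (dLet s)) * n⁻¹ = Φ (dC (aImg k s))) : ∀ l : List ℕ, (∀ s ∈ l, s < 6) →
    n * Φ (dC (dApp 0 l)) * n⁻¹ = Φ (dC (dApp 0 (aWord k l))) := by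
  have hI := allBelow_eq_true.mp aImg_ok k hk
  simp only [Bool.and_eq_true] at hI
  have hi : ∀ s < 6, aImg k s < 384 := fun s hs =>
    Nat.blt_eq.mp (allBelow_eq_true.mp hI.1.1.1.1 s hs)
  have key : ∀ (l : List ℕ), (∀ s ∈ l, s < 6) → ∀ i < 384, dC (dApp i l) = dC i * dC (dApp 0 l) := by
    intro l hl i hi'
    obtain ⟨a1, a2⟩ := dApp_spec l hl i hi'
    obtain ⟨b1, b2⟩ := dApp_spec l hl 0 (by norm_num)
    refine Subtype.ext ?_
    rw [Subgroup.coe_mul, dC_coe a1, dC_coe hi', dC_coe b1, ← a2, ← b2, dEl_zero, one_mul]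
  intro l
  induction l with
  | nil =>
    intro _
    show n * Φ (dC 0) * n⁻¹ = Φ (dC 0)
    rw [dC_zero, map_one, mul_one, mul_inv_cancel]
  | cons s l ih =>
    intro h
    have hs := h s (by simp)
    have hl : ∀ r ∈ l, r < 6 := fun r hr => h r (List.mem_cons_of_mem _ hr)
    have hw : ∀ r ∈ aWord k l, r < 6 := fun r hr => by
      obtain ⟨x, hx, hr⟩ := List.mem_flatMap.mp hr
      exact dW_lt (hi x (hl x hx)) r hr
    have e1 : dC (dApp 0 (s :: l)) = dC (dLet s) * dC (dApp 0 l) := by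
      have hd := dEl_let hs
      have : dApp 0 (s :: l) = dApp (dStep s 0) l := by
        show forceN (dStep s 0) _ = _
        rw [forceN_eq]; rfl
      obtain ⟨c1, c2⟩ := dEl_mul_gen (i := 0) (by norm_num) hs
      rw [this, key l hl _ c1]
      congr 1
      exact Subtype.ext (by rw [dC_coe c1, dC_coe hd.1, hd.2, ← c2, dEl_zero, one_mul])
    have e2 : dC (dApp 0 (aWord k (s :: l))) = dC (aImg k s) * dC (dApp 0 (aWord k l)) := by
      obtain ⟨b1, b2⟩ := dApp_spec (dW (aImg k s)) (dW_lt (hi s hs)) 0 (by norm_num)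
      have e : aWord k (s :: l) = dW (aImg k s) ++ aWord k l := List.flatMap_cons
      have happ : ∀ (a b : List ℕ) (i : ℕ), dApp i (a ++ b) = dApp (dApp i a) b := by
        intro a
        induction a with
        | nil => intro b i; rfl
        | cons x a iha =>
          intro b i
          show forceN (dStep x i) _ = dApp (forceN (dStep x i) _) b
          rw [forceN_eq, forceN_eq]
          exact iha b (dStep x i)
      rw [e, happ, key _ hw _ b1]
      congr 1
      refine Subtype.ext ?_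
      rw [dC_coe b1, dC_coe (hi s hs), ← b2, dEl_zero, one_mul]
      rfl
    rw [e1, e2, map_mul, map_mul, ← hg s hs, ← ih hl]
    group

open scoped _root_.Classical in
/-- The normalised interchanging element. -/
theorem exists_normal_swap [Finite G] (hinj : Function.Injective Φ)
    (hrange : ∀ y, y * Φ ⟨_, bE_memC⟩ = Φ ⟨_, bE_memC⟩ * y → y ∈ Φ.range)
    (hcard : Nat.card CBs = 190080) {n : G}
    (h1 : n * Φ ⟨_, bE_memC⟩ * n⁻¹ = Φ (⟨_, bE_memC⟩ * ⟨_, tE_memC⟩))
    (h2 : n * Φ (⟨_, bE_memC⟩ * ⟨_, tE_memC⟩) * n⁻¹ = Φ ⟨_, bE_memC⟩) :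
    ∃ (x : G) (k : ℕ), k < 4 ∧ x * x = 1 ∧ ∀ i < 384, x * Φ (dC i) * x⁻¹ = Φ (dC (aMap k i)) := by
  rw [← dC_seven, ← dC_one] at h1 h2
  rw [← dC_one] at hrange
  have hb7 : dC 1 * dC 7 = dC 2 := by
    rw [dC_one, dC_seven, dC_two]
    exact Subtype.ext (by simp [← mul_assoc, bE_sq])
  have hz : n * Φ (dC 2) * n⁻¹ = Φ (dC 2) := by
    rw [← hb7, map_mul]
    calc n * (Φ (dC 1) * Φ (dC 7)) * n⁻¹ = (n * Φ (dC 1) * n⁻¹) * (n * Φ (dC 7) * n⁻¹) := by group
      _ = Φ (dC 7) * Φ (dC 1) := by rw [h1, h2]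
      _ = _ := by
        rw [← map_mul, ← map_mul]
        refine congrArg _ ?_
        rw [dC_seven, dC_one]
        exact Subtype.ext (show Co3Rec.bE * Co3Rec.tE * Co3Rec.bE = Co3Rec.bE * (Co3Rec.bE * Co3Rec.tE) by
          rw [mul_assoc Co3Rec.bE Co3Rec.tE, (T0_comm tE_mem_T0).1])
  -- the images of the two generators
  have himg : ∀ i < 384, ∃ j < 384, n * Φ (dC i) * n⁻¹ = Φ (dC j) := by
    intro i hi
    have c1 : Commute (dC i) (dC 1) := Subtype.ext (by
      simp only [Subgroup.coe_mul, dC_coe hi, dC_coe (show 1 < 384 by norm_num), dEl_one]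
      exact (dEl_comm hi).1)
    have c2 : Commute (dC i) (dC 2) := Subtype.ext (by
      simp only [Subgroup.coe_mul, dC_coe hi, dC_coe (show 2 < 384 by norm_num), dEl_two]
      exact (dEl_comm hi).2)
    have c7 : Commute (dC i) (dC 7) := by
      rw [dC_seven, ← dC_one, ← dC_two]; exact c1.mul_right c2
    have hy : n * Φ (dC i) * n⁻¹ * Φ (dC 1) = Φ (dC 1) * (n * Φ (dC i) * n⁻¹) := by
      conv_lhs => rw [← h2]
      conv_rhs => rw [← h2]
      calc n * Φ (dC i) * n⁻¹ * (n * Φ (dC 7) * n⁻¹) = n * (Φ (dC i) * Φ (dC 7)) * n⁻¹ := by group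
        _ = n * (Φ (dC 7) * Φ (dC i)) * n⁻¹ := by rw [(c7.map Φ).eq]
        _ = _ := by group
    obtain ⟨y, hy'⟩ := hrange _ hy
    have hyz : y * dC 2 = dC 2 * y := hinj (by
      rw [map_mul, map_mul, hy', ← hz]
      calc n * Φ (dC i) * n⁻¹ * (n * Φ (dC 2) * n⁻¹) = n * (Φ (dC i) * Φ (dC 2)) * n⁻¹ := by group
        _ = n * (Φ (dC 2) * Φ (dC i)) * n⁻¹ := by rw [(c2.map Φ).eq]
        _ = _ := by group)
    obtain ⟨j, hj, e⟩ := exists_dEl hcard (Subgroup.mem_centralizer_singleton_iff.mp y.2) (by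
      have := congrArg Subtype.val hyz
      simpa [dC_coe (show 2 < 384 by norm_num), dEl_two] using this)
    exact ⟨j, hj, by rw [← hy', show y = dC j from Subtype.ext (by rw [e, dC_coe hj])]⟩
  obtain ⟨p, hp, hpe⟩ := himg _ (dEl_let (s := 2) (by norm_num)).1
  obtain ⟨q, hq, hqe⟩ := himg _ (dEl_let (s := 4) (by norm_num)).1
  let conjn : G →* G := (MulAut.conj n).toMonoidHom
  let F : CBs →* G := conjn.comp Φ
  have hF : ∀ c, F c = n * Φ c * n⁻¹ := fun c => rfl
  have hFinj : Function.Injective F := (MulAut.conj n).injective.comp hinj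
  have hword : ∀ l : List ℕ, (∀ s ∈ l, s = 2 ∨ s = 4) →
      F (dC (dApp 0 l)) = (l.map fun s => if s = 2 then Φ (dC p) else Φ (dC q)).prod := by
    intro l hl
    have hlt : ∀ s ∈ l, s < 6 := fun s hs => by rcases hl s hs with rfl | rfl <;> norm_num
    obtain ⟨a1, a2⟩ := dApp_spec l hlt 0 (by norm_num)
    have e : dC (dApp 0 l) = (l.map fun s => if s = 2 then dC (dLet 2) else dC (dLet 4)).prod := by
      refine Subtype.ext ?_
      rw [dC_coe a1, ← a2, dEl_zero, one_mul, SubmonoidClass.coe_list_prod, List.map_map]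
      refine congrArg List.prod (List.map_congr_left fun s hs => ?_)
      rcases hl s hs with rfl | rfl
      · show ctx.gen 2 = (dC (dLet 2) : R)
        rw [dC_coe (dEl_let (s := 2) (by norm_num)).1, (dEl_let (s := 2) (by norm_num)).2]
      · show ctx.gen 4 = (dC (dLet 4) : R)
        rw [dC_coe (dEl_let (s := 4) (by norm_num)).1, (dEl_let (s := 4) (by norm_num)).2]
    rw [e, map_list_prod, List.map_map]
    refine congrArg List.prod (List.map_congr_left fun s _ => ?_)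
    simp only [Function.comp_apply]
    split_ifs
    · exact hpe
    · exact hqe
  obtain ⟨r1, r2, r3, r4, r5, -, -⟩ := rel_idx
  simp only [Nat.beq_eq] at r1 r2 r4
  have h24 : ∀ {a : List ℕ}, (a.all fun s => Nat.beq s 2 || Nat.beq s 4) = true →
      ∀ s ∈ a, s = 2 ∨ s = 4 := fun h s hs => by simpa using List.all_eq_true.mp h s hs
  have w1 := hword [2, 4, 2, 4, 2, 4, 2, 4] (h24 rfl)
  have w2 := hword [2, 2, 2, 2] (h24 rfl)
  have w3 := hword [2, 2] (h24 rfl)
  have w4 := hword [4, 4, 4] (h24 rfl)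
  have w5 := hword [4] (h24 rfl)
  rw [r1, hF, hz] at w1
  rw [r2, dC_zero, map_one] at w2
  rw [r4, dC_zero, map_one] at w4
  simp only [List.map_cons, List.map_nil, List.prod_cons, List.prod_nil, mul_one, if_true,
    show (4 : ℕ) = 2 ↔ False by norm_num, if_false, ← map_mul] at w1 w2 w3 w4 w5
  rw [← map_one Φ] at w2 w4
  replace w2 := congrArg Subtype.val (hinj w2)
  replace w4 := congrArg Subtype.val (hinj w4)
  replace w1 := congrArg Subtype.val (hinj w1)
  obtain ⟨pp, hpp⟩ := dMul_spec hp hp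
  obtain ⟨pq, hpq⟩ := dMul_spec hp hq
  obtain ⟨qq, hqq⟩ := dMul_spec hq hq
  simp only [Subgroup.coe_mul, OneMemClass.coe_one, dC_coe hp, dC_coe hq, dC_coe (show 2 < 384 by norm_num)] at w1 w2 w4
  have x1 : dMul (dMul p p) (dMul p p) = 0 := dEl_inj (dMul_spec pp pp).1 (by norm_num) (by
    rw [← (dMul_spec pp pp).2, ← hpp, dEl_zero, w2]; simp [mul_assoc])
  have x2 : dMul p p ≠ 0 := fun h => by
    have : F (dC (dApp 0 [2, 2])) = F (dC 0) := by
      rw [w3, dC_mul hp hp, h, dC_zero, map_one, map_one]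
    have e := congrArg Subtype.val (hFinj this)
    obtain ⟨a1, -⟩ := dApp_spec [2, 2] (by decide) 0 (by norm_num)
    rw [dC_coe a1, dC_coe (by norm_num)] at e
    rw [dEl_inj a1 (by norm_num) e] at r3
    simp at r3
  have y1 : q ≠ 0 := fun h => by
    have : F (dC (dApp 0 [4])) = F (dC 0) := by rw [w5, h, dC_zero, map_one, map_one]
    have e := congrArg Subtype.val (hFinj this)
    obtain ⟨a1, -⟩ := dApp_spec [4] (by decide) 0 (by norm_num)
    rw [dC_coe a1, dC_coe (by norm_num)] at e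
    rw [dEl_inj a1 (by norm_num) e] at r5
    simp at r5
  have y2 : dMul (dMul q q) q = 0 := dEl_inj (dMul_spec qq hq).1 (by norm_num) (by
    rw [← (dMul_spec qq hq).2, ← hqq, dEl_zero, w4]; simp [mul_assoc])
  have z1 : dMul (dMul (dMul p q) (dMul p q)) (dMul (dMul p q) (dMul p q)) = 2 := by
    obtain ⟨s1, s2⟩ := dMul_spec pq pq
    obtain ⟨u1, u2⟩ := dMul_spec s1 s1
    refine dEl_inj u1 (by norm_num) ?_
    rw [← u2, ← s2, ← hpq, w1]
    simp [mul_assoc]
  have hc := allBelow_eq_true.mp cand_ok p hp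
  simp only [forceN_eq, x1, Bool.or_eq_true, Bool.not_eq_true', Nat.beq_eq, allBelow_eq_true] at hc
  have hc2 := (hc.resolve_left (by rintro (h | h); exacts [absurd h (by simp), x2 h])) q hq
  simp only [forceN_eq, y2, z1, Bool.or_eq_true, Bool.not_eq_true', Nat.beq_eq, Bool.and_eq_true,
    Nat.blt_eq] at hc2
  obtain ⟨⟨hk, hP⟩, hQ⟩ := ((hc2.resolve_left (by rintro (h | h); exacts [y1 h, absurd h (by simp)])).resolve_left
    (by simp))
  have hd : Nat.mod (aWitN p q) 384 < 384 := Nat.mod_lt _ (by norm_num)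
  generalize Nat.div (aWitN p q) 384 = k at hk hP hQ
  generalize Nat.mod (aWitN p q) 384 = d at hd hP hQ
  have hI := allBelow_eq_true.mp aImg_ok k hk
  simp only [Bool.and_eq_true, Nat.beq_eq] at hI
  obtain ⟨⟨⟨⟨hlt, i0⟩, i1⟩, i3⟩, i5⟩ := hI
  have hi : ∀ s < 6, aImg k s < 384 := fun s hs => Nat.blt_eq.mp (allBelow_eq_true.mp hlt s hs)
  have hdi : Data.dInv d < 384 := by
    have h := allBelow_eq_true.mp dW_ok d hd
    simp only [Bool.and_eq_true, Nat.blt_eq] at h
    exact h.1.1.2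
  have hcd : ∀ a < 384, dC (dConj d a) = dC d * dC a * (dC d)⁻¹ := fun a ha => by
    rw [dC_inv hd, dC_mul hd ha, dC_mul (dMul_spec hd ha).1 hdi]; rfl
  have hbc : ∀ i < 384, Commute (dC 1) (dC i) := fun i hi' => by
    have h := Nat.eq_of_beq_eq_true (allBelow_eq_true.mp b_central_ok i hi')
    show _ * _ = _ * _
    rw [dC_mul (by norm_num) hi', dC_mul hi' (by norm_num), h]
  set x0 : G := (Φ (dC d))⁻¹ * n with hx0
  have hx : ∀ c, x0 * c * x0⁻¹ = (Φ (dC d))⁻¹ * (n * c * n⁻¹) * Φ (dC d) := fun c => by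
    rw [hx0]; group
  have hdz : Commute (dC d) (dC 2) := Subtype.ext (by
    simp only [Subgroup.coe_mul, dC_coe hd, dC_coe (show 2 < 384 by norm_num), dEl_two]
    exact (dEl_comm hd).2)
  have hg : ∀ s < 6, x0 * Φ (dC (dLet s)) * x0⁻¹ = Φ (dC (aImg k s)) := by
    have e2 : x0 * Φ (dC (dLet 2)) * x0⁻¹ = Φ (dC (aImg k 2)) := by
      rw [hx, hpe, ← hP, hcd _ (hi 2 (by norm_num)), map_mul, map_mul, map_inv]; group
    have e4 : x0 * Φ (dC (dLet 4)) * x0⁻¹ = Φ (dC (aImg k 4)) := by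
      rw [hx, hqe, ← hQ, hcd _ (hi 4 (by norm_num)), map_mul, map_mul, map_inv]; group
    have hinvl : dC (dLet 3) = (dC (dLet 2))⁻¹ ∧ dC (dLet 5) = (dC (dLet 4))⁻¹ := by
      constructor <;>
      · refine Subtype.ext ?_
        rw [InvMemClass.coe_inv, dC_coe (dEl_let (by norm_num)).1, dC_coe (dEl_let (by norm_num)).1,
          (dEl_let (by norm_num)).2, (dEl_let (by norm_num)).2, ← gen_inv (by decide +kernel)]
        exact congrArg ctx.gen (by decide +kernel)
    intro s hs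
    interval_cases s
    · rw [show dLet 0 = 1 by decide +kernel, i0, hx, h1, ← map_inv, ← map_mul, ← map_mul]
      refine congrArg Φ ?_
      have : Commute (dC d) (dC 7) := by
        rw [dC_seven, ← dC_one, ← dC_two]; exact ((hbc d hd).symm).mul_right hdz
      rw [mul_assoc, ← this.eq, inv_mul_cancel_left]
    · rw [show dLet 1 = 2 by decide +kernel, i1, hx, hz, ← map_inv, ← map_mul, ← map_mul]
      refine congrArg Φ ?_
      rw [mul_assoc, ← hdz.eq, inv_mul_cancel_left]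
    · exact e2
    · rw [hinvl.1, i3, ← dC_inv (hi 2 (by norm_num)), map_inv, map_inv, ← e2]; group
    · exact e4
    · rw [hinvl.2, i5, ← dC_inv (hi 4 (by norm_num)), map_inv, map_inv, ← e4]; group
  have hsq : ∀ s < 6, x0 * x0 * Φ (dC (dLet s)) * (x0 * x0)⁻¹ = Φ (dC (dApp 0 (aWord k (dW (aImg k s))))) := by
    intro s hs
    calc x0 * x0 * Φ (dC (dLet s)) * (x0 * x0)⁻¹ = x0 * (x0 * Φ (dC (dLet s)) * x0⁻¹) * x0⁻¹ := by group
      _ = x0 * Φ (dC (aImg k s)) * x0⁻¹ := by rw [hg s hs]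
      _ = x0 * Φ (dC (dApp 0 (dW (aImg k s)))) * x0⁻¹ := by
        obtain ⟨a1, a2⟩ := dApp_spec _ (dW_lt (hi s hs)) 0 (by norm_num)
        rw [show dApp 0 (dW (aImg k s)) = aImg k s from dEl_inj a1 (hi s hs) (by
          rw [← a2, dEl_zero, one_mul]; rfl)]
      _ = _ := conj_word Φ hk hg _ (dW_lt (hi s hs))
  have hxb : x0 * Φ (dC 1) * x0⁻¹ = Φ (dC 7) := by
    have := hg 0 (by norm_num)
    rwa [show dLet 0 = 1 by decide +kernel, i0] at this
  have hxz : x0 * Φ (dC 2) * x0⁻¹ = Φ (dC 2) := by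
    have := hg 1 (by norm_num)
    rwa [show dLet 1 = 2 by decide +kernel, i1] at this
  have hx7 : x0 * Φ (dC 7) * x0⁻¹ = Φ (dC 1) := by
    rw [hx, h2, ← map_inv, ← map_mul, ← map_mul]
    refine congrArg Φ ?_
    rw [mul_assoc, (hbc d hd).eq, inv_mul_cancel_left]
  -- the square is in the common centraliser
  obtain ⟨δC, hδ⟩ : x0 * x0 ∈ Φ.range := hrange _ (by
    calc x0 * x0 * Φ (dC 1) = (x0 * (x0 * Φ (dC 1) * x0⁻¹) * x0⁻¹) * (x0 * x0) := by group
      _ = (x0 * Φ (dC 7) * x0⁻¹) * (x0 * x0) := by rw [hxb]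
      _ = Φ (dC 1) * (x0 * x0) := by rw [hx7])
  obtain ⟨δ, hδl, hδe⟩ := exists_dEl hcard (Subgroup.mem_centralizer_singleton_iff.mp δC.2) (by
    have e : δC * dC 2 = dC 2 * δC := hinj (by
      rw [map_mul, map_mul, hδ]
      calc x0 * x0 * Φ (dC 2) = x0 * (x0 * Φ (dC 2) * x0⁻¹) * x0⁻¹ * (x0 * x0) := by group
        _ = _ := by rw [hxz, hxz])
    have := congrArg Subtype.val e
    simpa [dC_coe (show 2 < 384 by norm_num), dEl_two] using this)
  have hδC : δC = dC δ := Subtype.ext (by rw [hδe, dC_coe hδl])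
  rw [hδC] at hδ
  by_cases hk4 : k < 4
  swap
  · exfalso
    obtain ⟨j, rfl⟩ : ∃ j, k = j + 4 := ⟨k - 4, by omega⟩
    have h := allBelow_eq_true.mp outer_ok j (by omega)
    simp only [forceN_eq, Nat.add_eq, allBelow_eq_true, Bool.or_eq_true, Bool.not_eq_true'] at h
    have key : ∀ s, (s = 2 ∨ s = 4) →
        Nat.beq (dMul δ (dLet s)) (dMul (dApp 0 (aWord (j + 4) (dW (aImg (j + 4) s)))) δ) = true := by
      intro s hs
      have hs6 : s < 6 := by rcases hs with rfl | rfl <;> norm_num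
      have e := hsq s hs6
      rw [← hδ, ← map_inv, ← map_mul, ← map_mul] at e
      have e' := hinj e
      have hlt' : ∀ r ∈ aWord (j + 4) (dW (aImg (j + 4) s)), r < 6 := fun r hr => by
        obtain ⟨v, hv, hr⟩ := List.mem_flatMap.mp hr
        exact dW_lt (hi v (dW_lt (hi s hs6) v hv)) r hr
      have a1 := (dApp_spec _ hlt' 0 (by norm_num)).1
      have e'' : dC δ * dC (dLet s) = dC (dApp 0 (aWord (j + 4) (dW (aImg (j + 4) s)))) * dC δ :=
        mul_inv_eq_iff_eq_mul.mp e'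
      rw [dC_mul hδl (dEl_let hs6).1, dC_mul a1 hδl] at e''
      have := congrArg Subtype.val e''
      rw [dC_coe (dMul_spec hδl (dEl_let hs6).1).1, dC_coe (dMul_spec a1 hδl).1] at this
      exact Nat.beq_eq.mpr (dEl_inj (dMul_spec hδl (dEl_let hs6).1).1 (dMul_spec a1 hδl).1 this)
    rcases h δ hδl with h | h
    · rw [key 2 (Or.inl rfl)] at h; exact Bool.noConfusion h
    · rw [key 4 (Or.inr rfl)] at h; exact Bool.noConfusion h
  have hall : ∀ i < 384, x0 * Φ (dC i) * x0⁻¹ = Φ (dC (aMap k i)) := by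
    intro i hi'
    have h := allBelow_eq_true.mp (allBelow_eq_true.mp aMap_ok k hk4) i hi'
    simp only [Bool.and_eq_true, Nat.beq_eq] at h
    obtain ⟨a1, a2⟩ := dApp_spec _ (dW_lt hi') 0 (by norm_num)
    have e := conj_word Φ hk hg _ (dW_lt hi')
    rwa [h.1.2, show dApp 0 (dW i) = i from dEl_inj a1 hi' (by rw [← a2, dEl_zero, one_mul]; rfl)] at e
  have hall2 : ∀ i < 384, x0 * x0 * Φ (dC i) * (x0 * x0)⁻¹ = Φ (dC i) := by
    intro i hi'
    have h := allBelow_eq_true.mp (allBelow_eq_true.mp aMap_ok k hk4) i hi'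
    simp only [Bool.and_eq_true, Nat.beq_eq, Nat.blt_eq] at h
    calc x0 * x0 * Φ (dC i) * (x0 * x0)⁻¹ = x0 * (x0 * Φ (dC i) * x0⁻¹) * x0⁻¹ := by group
      _ = x0 * Φ (dC (aMap k i)) * x0⁻¹ := by rw [hall i hi']
      _ = _ := by rw [hall _ h.1.1, h.2]
  have hcen : ∀ s ∈ T0, s * dEl δ = dEl δ * s := by
    intro s hs
    obtain ⟨j, hj, rfl⟩ := mem_T0.mp hs
    have e := hall2 _ (tEls_lt hj)
    rw [← hδ, ← map_inv, ← map_mul, ← map_mul] at e
    have e' := congrArg Subtype.val (mul_inv_eq_iff_eq_mul.mp (hinj e))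
    simp only [Subgroup.coe_mul, dC_coe hδl, dC_coe (tEls_lt hj)] at e'
    exact e'.symm
  have hfix : x0 * Φ (dC δ) * x0⁻¹ = Φ (dC δ) := by rw [hδ]; group
  rcases centralizer_T0 hcard (dEl_comm hδl).1 hcen with h | h | h | h
  · refine ⟨x0, k, hk4, ?_, hall⟩
    rw [← hδ, show dC δ = 1 from Subtype.ext (by rw [dC_coe hδl, h]; rfl), map_one]
  · exfalso
    rw [show dC δ = dC 1 from Subtype.ext (by rw [dC_coe hδl, dC_coe (by norm_num), h, dEl_one]), hxb] at hfix
    have := congrArg Subtype.val (hinj hfix)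
    rw [dC_coe (by norm_num), dC_coe (by norm_num)] at this
    exact dEl_ne (by norm_num) (by norm_num) (by norm_num) this
  · refine ⟨x0 * Φ (dC 1), k, hk4, ?_, fun i hi' => ?_⟩
    · calc x0 * Φ (dC 1) * (x0 * Φ (dC 1)) = (x0 * Φ (dC 1) * x0⁻¹) * (x0 * x0) * Φ (dC 1) := by group
        _ = Φ (dC 7) * Φ (dC δ) * Φ (dC 1) := by rw [hxb, hδ]
        _ = Φ 1 := by
          rw [← map_mul, ← map_mul]
          refine congrArg Φ (Subtype.ext ?_)
          show (dC 7 : R) * (dC δ : R) * (dC 1 : R) = 1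
          rw [dC_coe (by norm_num), dC_coe hδl, dC_coe (by norm_num), dEl_seven, h, dEl_one,
            mul_assoc Co3Rec.bE Co3Rec.tE, tE_ne.2.1, mul_one, bE_sq]
        _ = 1 := map_one Φ
    · calc x0 * Φ (dC 1) * Φ (dC i) * (x0 * Φ (dC 1))⁻¹
          = x0 * (Φ (dC 1) * Φ (dC i)) * (Φ (dC 1))⁻¹ * x0⁻¹ := by group
        _ = x0 * (Φ (dC i) * Φ (dC 1)) * (Φ (dC 1))⁻¹ * x0⁻¹ := by rw [((hbc i hi').map Φ).eq]
        _ = x0 * Φ (dC i) * x0⁻¹ := by group
        _ = _ := hall i hi'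
  · exfalso
    rw [show dC δ = dC 7 from Subtype.ext (by rw [dC_coe hδl, dC_coe (by norm_num), h, dEl_seven]), hx7] at hfix
    have := congrArg Subtype.val (hinj hfix)
    rw [dC_coe (by norm_num), dC_coe (by norm_num)] at this
    exact dEl_ne (by norm_num) (by norm_num) (by norm_num) this

end Cfsg.Agent.Co3TwoM12
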