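import Mathlib.GroupTheory.Coset.Card
import Mathlib.GroupTheory.Index
import Mathlib.Algebra.BigOperators.Fin
import Mathlib.Algebra.Order.BigOperators.Group.Finset
import Mathlib.GroupTheory.Subgroup.Center
import Mathlib.Tactic

/-!
Two general facts: a subgroup outside another one has a coset of their intersection rich in
conjugates of given involutions, and a subgroup with more than three quarters of its elements
inverted by one element is commutative.
-/

set_option autoImplicit false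

namespace Cfsg.Agent.Co3TwoM12

variable {G : Type*} [Group G]

/-- If involutions of `L ⊓ M` only move into `M` by elements of `M`, and `L` is not in `M`, some
involution of `L` outside `M` inverts at least as many elements of `L ⊓ M` as there are such
involutions. -/
theorem exists_inverting [Finite G] {M L : Subgroup G} (hnot : ¬ L ≤ M) (U : Set G)
    (hU : ∀ u ∈ U, u ∈ L ∧ u ∈ M ∧ u * u = 1)
    (htr : ∀ g ∈ L, ∀ u ∈ U, g * u * g⁻¹ ∈ M → g ∈ M ∧ g * u * g⁻¹ ∈ U) :
    ∃ v ∈ L, v ∉ M ∧ Nat.card U ≤ Nat.card {y : G // y ∈ L ∧ y ∈ M ∧ v * y * v⁻¹ = y⁻¹} := by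
  classical
  have : Fintype U := Fintype.ofFinite _
  let X : Subgroup L := M.subgroupOf L
  have : Fintype (L ⧸ X) := Fintype.ofFinite _
  let Φ : (L ⧸ X) × U → G := fun p => (p.1.out : G) * p.2 * (p.1.out : G)⁻¹
  have hΦL : ∀ p, Φ p ∈ L := fun p => mul_mem (mul_mem p.1.out.2 (hU _ p.2.2).1) (inv_mem p.1.out.2)
  have hΦ2 : ∀ p, Φ p * Φ p = 1 := fun p => by
    show (p.1.out : G) * p.2 * (p.1.out : G)⁻¹ * ((p.1.out : G) * p.2 * (p.1.out : G)⁻¹) = 1
    calc _ = (p.1.out : G) * ((p.2 : G) * p.2) * (p.1.out : G)⁻¹ := by group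
      _ = 1 := by rw [(hU _ p.2.2).2.2]; group
  have hinj : Function.Injective Φ := by
    intro p p' e
    set h : G := (p'.1.out : G)⁻¹ * p.1.out with hh
    have e' : h * p.2 * h⁻¹ = p'.2 := by
      calc h * p.2 * h⁻¹ = (p'.1.out : G)⁻¹ * Φ p * p'.1.out := by simp only [hh, Φ]; group
        _ = _ := by rw [e]; simp only [Φ]; group
    have hm := (htr h (mul_mem (inv_mem p'.1.out.2) p.1.out.2) p.2 p.2.2
      (by rw [e']; exact (hU _ p'.2.2).2.1)).1
    have h1 : p'.1 = p.1 := by
      rw [← QuotientGroup.out_eq' p'.1, ← QuotientGroup.out_eq' p.1]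
      exact QuotientGroup.eq.mpr (Subgroup.mem_subgroupOf.mpr (by simpa [hh] using hm))
    rw [hh, h1, inv_mul_cancel, one_mul, inv_one, mul_one] at e'
    exact Prod.ext h1.symm (Subtype.ext e')
  let cl : (L ⧸ X) × U → L ⧸ X := fun p => QuotientGroup.mk ⟨Φ p, hΦL p⟩
  let fib : (L ⧸ X) → Finset ((L ⧸ X) × U) := fun c => Finset.univ.filter fun p => cl p = c
  have memfib : ∀ {c p}, p ∈ fib c ↔ cl p = c := fun {c p} => by simp [fib]
  have hfib1 : (fib (QuotientGroup.mk 1)).card ≤ Fintype.card U := by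
    have hk : ∀ p ∈ fib (QuotientGroup.mk 1), Φ p ∈ U := fun p hp => by
      have hX := QuotientGroup.eq.mp (memfib.mp hp)
      have hM : Φ p ∈ M := by simpa using inv_mem (Subgroup.mem_subgroupOf.mp hX)
      exact (htr _ p.1.out.2 p.2 p.2.2 hM).2
    refine le_trans (le_of_eq ?_) (Finset.card_le_univ ((fib (QuotientGroup.mk 1)).attach.image
      fun p => (⟨Φ p.1, hk p.1 p.2⟩ : U)))
    rw [Finset.card_image_of_injective _ fun p q e => Subtype.ext (hinj (congrArg Subtype.val e)),
      Finset.card_attach]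
  obtain ⟨g, hgL, hgM⟩ := SetLike.not_le_iff_exists.mp hnot
  obtain ⟨c, hc1, hc⟩ : ∃ c, c ≠ QuotientGroup.mk 1 ∧ Fintype.card U ≤ (fib c).card := by
    by_contra hno
    push Not at hno
    have hne : (QuotientGroup.mk ⟨g, hgL⟩ : L ⧸ X) ≠ QuotientGroup.mk 1 := fun e => hgM (by
      simpa using Subgroup.mem_subgroupOf.mp (QuotientGroup.eq.mp e.symm))
    have hsum : ∑ c, (fib c).card = Fintype.card U * Fintype.card (L ⧸ X) := by
      rw [← Finset.card_eq_sum_card_fiberwise (f := cl) (fun _ _ => Finset.mem_univ _), Finset.card_univ,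
        Fintype.card_prod, mul_comm]
    have hlt : ∑ c, (fib c).card < ∑ _c : L ⧸ X, Fintype.card U := by
      refine Finset.sum_lt_sum (fun c _ => ?_) ⟨_, Finset.mem_univ (QuotientGroup.mk ⟨g, hgL⟩), hno _ hne⟩
      by_cases h : c = QuotientGroup.mk 1
      · exact h ▸ hfib1
      · exact (hno c h).le
    rw [hsum, Finset.sum_const, Finset.card_univ, smul_eq_mul, mul_comm] at hlt
    exact lt_irrefl _ hlt
  rcases Nat.eq_zero_or_pos (Fintype.card U) with h0 | h0
  · exact ⟨g, hgL, hgM, by rw [Nat.card_eq_fintype_card, h0]; exact Nat.zero_le _⟩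
  obtain ⟨p₀, hp₀⟩ := Finset.card_pos.mp (h0.trans_le hc)
  refine ⟨Φ p₀, hΦL p₀, fun hm => hc1 ?_, ?_⟩
  · rw [← memfib.mp hp₀]
    exact QuotientGroup.eq.mpr (Subgroup.mem_subgroupOf.mpr (by simpa using inv_mem hm))
  rw [Nat.card_eq_fintype_card]
  refine hc.trans ?_
  have hv : (Φ p₀)⁻¹ = Φ p₀ := inv_eq_of_mul_eq_one_right (hΦ2 p₀)
  rw [← Nat.card_eq_finsetCard]
  refine Nat.card_le_card_of_injective (fun p => ⟨Φ p₀ * Φ p.1, mul_mem (hΦL p₀) (hΦL p.1), ?_, ?_⟩)
    fun p q e => Subtype.ext (hinj (mul_left_cancel (congrArg Subtype.val e)))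
  · have hX := Subgroup.mem_subgroupOf.mp
      (QuotientGroup.eq.mp ((memfib.mp hp₀).trans (memfib.mp p.2).symm))
    rw [Subgroup.coe_mul, InvMemClass.coe_inv] at hX
    rwa [hv] at hX
  · have hp : (Φ p.1)⁻¹ = Φ p.1 := inv_eq_of_mul_eq_one_right (hΦ2 p.1)
    rw [hv, ← mul_assoc (Φ p₀), hΦ2 p₀, one_mul]
    refine (inv_eq_of_mul_eq_one_right ?_).symm
    rw [mul_assoc, ← mul_assoc (Φ p.1), hΦ2 p.1, one_mul, hΦ2 p₀]

/-- A subgroup with more than three quarters of its elements inverted by one element is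
commutative. -/
theorem comm_of_inverted [Finite G] (I : Subgroup G) (v : G)
    (h : 3 * Nat.card I < 4 * Nat.card {y : G // y ∈ I ∧ v * y * v⁻¹ = y⁻¹}) :
    ∀ a ∈ I, ∀ b ∈ I, a * b = b * a := by
  classical
  have : Fintype I := Fintype.ofFinite _
  let J : Finset I := Finset.univ.filter fun y => v * (y : G) * v⁻¹ = (y : G)⁻¹
  have memJ : ∀ {y : I}, y ∈ J ↔ v * (y : G) * v⁻¹ = (y : G)⁻¹ := fun {y} => by simp [J]
  have hJ : Nat.card {y : G // y ∈ I ∧ v * y * v⁻¹ = y⁻¹} = J.card := by
    rw [← Nat.card_eq_finsetCard]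
    exact Nat.card_congr ⟨fun y => ⟨⟨y.1, y.2.1⟩, memJ.mpr y.2.2⟩, fun y => ⟨y.1, y.1.2, memJ.mp y.2⟩,
      fun _ => rfl, fun _ => rfl⟩
  rw [hJ, Nat.card_eq_fintype_card] at h
  have big : ∀ (H : Subgroup I) (S : Finset I), (∀ y ∈ S, y ∈ H) → Fintype.card I < 2 * S.card →
      H = ⊤ := by
    intro H S hS hlt
    refine Subgroup.eq_top_of_le_card _ ?_
    have h1 : S.card ≤ Nat.card H := by
      rw [← Nat.card_eq_finsetCard]
      exact Nat.card_le_card_of_injective (fun y => (⟨y.1, hS _ y.2⟩ : H)) fun a b e => by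
        injection e with e
        exact Subtype.ext e
    obtain ⟨k, hk⟩ := Subgroup.card_subgroup_dvd_card H
    rw [Nat.card_eq_fintype_card (α := I)] at hk ⊢
    have hpos : 0 < Fintype.card I := Fintype.card_pos
    have : k < 2 := by nlinarith
    interval_cases k <;> omega
  have hcen : ∀ a ∈ J, a ∈ Subgroup.center I := by
    intro a ha
    let S := J.filter fun y => a * y ∈ J
    have h1 : (J.filter fun y => ¬ a * y ∈ J).card ≤ Fintype.card I - J.card := by
      rw [← Finset.card_compl]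
      refine Finset.card_le_card_of_injOn (a * ·) (fun y hy => ?_) fun y _ z _ e => mul_left_cancel e
      simp only [Finset.coe_filter, Set.mem_setOf_eq, Finset.mem_coe, Finset.mem_compl] at hy ⊢
      exact hy.2
    have h2 := Finset.card_filter_add_card_filter_not (s := J) fun y => a * y ∈ J
    have h3 : J.card ≤ Fintype.card I := Finset.card_le_univ _
    have hS : Fintype.card I < 2 * S.card := by
      simp only [S]
      omega
    have hc : ∀ y ∈ S, y ∈ Subgroup.centralizer {a} := by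
      intro y hy
      simp only [S, Finset.mem_filter] at hy
      have e1 := memJ.mp ha
      have e2 := memJ.mp hy.1
      have e3 := memJ.mp hy.2
      rw [Subgroup.coe_mul, mul_inv_rev,
        show v * ((a : G) * y) * v⁻¹ = (v * (a : G) * v⁻¹) * (v * y * v⁻¹) by group, e1, e2] at e3
      refine Subgroup.mem_centralizer_singleton_iff.mpr (Subtype.ext ?_)
      have := congrArg (fun z : G => z⁻¹) e3
      simp only [mul_inv_rev, inv_inv] at this
      exact this
    rw [Subgroup.mem_center_iff]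
    intro y
    have := big _ S hc hS
    exact Subgroup.mem_centralizer_singleton_iff.mp (this ▸ Subgroup.mem_top y)
  have hZ := big (Subgroup.center I) J hcen (by omega)
  intro a ha b hb
  exact congrArg Subtype.val (Subgroup.mem_center_iff.mp (hZ ▸ Subgroup.mem_top (⟨b, hb⟩ : I)) ⟨a, ha⟩)

end Cfsg.Agent.Co3TwoM12
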