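import Cfsg.Agent.Co3Rec.Kit
import Cfsg.Agent.Co3TwoM12.Data.Letters

/-!
The letters used for the centraliser `2 × M12` inside the model of the third Conway group.
-/

set_option autoImplicit false
set_option maxRecDepth 100000

namespace Cfsg.Agent.Co3TwoM12

open Cfsg Cfsg.Agent.Compute Cfsg.Agent.StemCert
open Cfsg.Agent.OutTab (ivB)
open Cfsg.Agent.Co3Rec (R Ctx ltB sameB ltB_iff unW)

theorem defs_ok : LeechModel.wordsB 276 9 Co3Out.Data.k Co3Out.Data.codes Data.defs Data.codes Data.k = true := by
  decide +kernel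

theorem inv_ok : ivB 9 Data.k Data.codes Co3Out.Data.mainBase Data.ivs = true := by decide +kernel

/-- The letters. -/
noncomputable def ctx : Ctx where
  k := Data.k
  cs := Data.codes
  iv := Data.ivs
  gen s := evalW Co3Out.gen (Data.defs.getD s [])
  coded := LeechModel.coded_of_wordsB Co3Out.coded defs_ok
  inv_ok := inv_ok
  iv_lt := by decide +kernel

/-- Equality of words in the letters. -/
noncomputable abbrev same (a b : List ℕ) : Bool := sameB Data.k Data.codes a b

theorem eq_of_same {a b : List ℕ} (h : same a b = true) : ctx.ev a = ctx.ev b := ctx.eq_of_same h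

/-- Words evaluating equally agree on the base. -/
theorem same_of_eq {a b : List ℕ} (ha : ∀ s ∈ a, s < ctx.k) (hb : ∀ s ∈ b, s < ctx.k)
    (h : ctx.ev a = ctx.ev b) : same a b = true := by
  simp only [same, sameB, Bool.and_eq_true]
  refine ⟨⟨ltB_iff.mpr ha, ltB_iff.mpr hb⟩, ?_⟩
  have key : ∀ (L : List ℕ), (∀ x ∈ L, x < 276) → allB (fun x =>
      Nat.beq (appW 9 Data.codes a x) (appW 9 Data.codes b x)) L = true := by
    intro L
    induction L with
    | nil => intro _; rfl
    | cons x L ih =>
      intro hL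
      have hx := hL x (by simp)
      show (Nat.beq (appW 9 Data.codes a x) (appW 9 Data.codes b x) && allB _ L) = true
      rw [Bool.and_eq_true, Nat.beq_eq, show Data.codes = ctx.cs from rfl,
        ← appW_spec ctx.coded a ha ⟨x, hx⟩, ← appW_spec ctx.coded b hb ⟨x, hx⟩]
      exact ⟨congrArg (fun g => ((Co3Out.ι g) ⟨x, hx⟩ : ℕ)) h, ih fun y hy => hL y (List.mem_cons_of_mem _ hy)⟩
  exact key _ Co3Out.base_isBase.1

/-- The first two letters are the two involutions of the recognition from the other centraliser. -/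
theorem gen_zero : ctx.gen 0 = Co3Rec.bE :=
  show evalW Co3Out.gen (Data.defs.getD 0 []) = evalW Co3Out.gen (Co3Rec.Data.defs.getD Co3Rec.Data.bL []) by
    rw [show Data.defs.getD 0 [] = Co3Rec.Data.defs.getD Co3Rec.Data.bL [] by decide +kernel]

theorem gen_one : ctx.gen 1 = Co3Rec.tE :=
  show evalW Co3Out.gen (Data.defs.getD 1 []) = evalW Co3Out.gen (Co3Rec.Data.defs.getD Co3Rec.Data.tL []) by
    rw [show Data.defs.getD 1 [] = Co3Rec.Data.defs.getD Co3Rec.Data.tL [] by decide +kernel]

theorem gen_inv {s : ℕ} (hs : s < Data.k) : ctx.gen (Data.ivs.getD s 0) = (ctx.gen s)⁻¹ := by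
  have h := ctx.ev_inv (l := [s]) (fun x hx => (List.mem_singleton.mp hx) ▸ hs)
  rw [show ctx.inv [s] = [Data.ivs.getD s 0] from rfl, ctx.ev_single, ctx.ev_single] at h
  exact h

end Cfsg.Agent.Co3TwoM12
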