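import Cfsg.Agent.Co3TwoM12.Cert.Collapse.R0_0_1_9
import Cfsg.Agent.Co3TwoM12.Cert.Collapse.R0_1
import Cfsg.Agent.Co3TwoM12.Cert.Collapse.R0_2
import Cfsg.Agent.Co3TwoM12.Cert.Collapse.R0_3
import Cfsg.Agent.Co3TwoM12.Cert.Collapse.R0_4
import Cfsg.Agent.Co3TwoM12.Cert.Collapse.R0_5
import Cfsg.Agent.Co3TwoM12.Cert.Collapse.R0_7
import Cfsg.Agent.Co3TwoM12.Cert.Collapse.R1_0
import Cfsg.Agent.Co3TwoM12.Cert.Collapse.R1_1
import Cfsg.Agent.Co3TwoM12.Cert.Collapse.R1_2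
import Cfsg.Agent.Co3TwoM12.Cert.Collapse.R1_3
import Cfsg.Agent.Co3TwoM12.Cert.Collapse.R1_4
import Cfsg.Agent.Co3TwoM12.Cert.Collapse.R1_5
import Cfsg.Agent.Co3TwoM12.Cert.Collapse.R1_6
import Cfsg.Agent.Co3TwoM12.Cert.Collapse.R1_7
import Cfsg.Agent.Co3TwoM12.Cert.Collapse.R1_8
import Cfsg.Agent.Co3TwoM12.Cert.Collapse.R1_10
import Cfsg.Agent.Co3TwoM12.Cert.Collapse.R1_11
import Cfsg.Agent.Co3TwoM12.Cert.Collapse.R1_12
import Cfsg.Agent.Co3TwoM12.Cert.Collapse.R1_13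
import Cfsg.Agent.Co3TwoM12.Cert.Collapse.R1_14
import Cfsg.Agent.Co3TwoM12.Cert.Collapse.R1_15
import Cfsg.Agent.Co3TwoM12.Cert.Collapse.R3_0
import Cfsg.Agent.Co3TwoM12.Cert.Collapse.R3_2
import Cfsg.Agent.Co3TwoM12.Cert.Collapse.R3_3
import Cfsg.Agent.Co3TwoM12.Cert.Collapse.R3_4
import Cfsg.Agent.Co3TwoM12.Cert.Collapse.R3_5
import Cfsg.Agent.Co3TwoM12.Cert.Collapse.R3_6
import Cfsg.Agent.Co3TwoM12.Cert.Collapse.R3_7_4_1
import Cfsg.Agent.Co3TwoM12.Cert.Collapse.R3_7_4_7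
import Cfsg.Agent.Co3TwoM12.Cert.Collapse.R4_0
import Cfsg.Agent.Co3TwoM12.Cert.Collapse.R4_2
import Cfsg.Agent.Co3TwoM12.Cert.Collapse.R4_3
import Cfsg.Agent.Co3TwoM12.Cert.Collapse.R4_4
import Cfsg.Agent.Co3TwoM12.Cert.Collapse.R4_5
import Cfsg.Agent.Co3TwoM12.Cert.Collapse.R4_6
import Cfsg.Agent.Co3TwoM12.Cert.Collapse.R4_8
import Cfsg.Agent.Co3TwoM12.Cert.Collapse.R4_9
import Cfsg.Agent.Co3TwoM12.Cert.Collapse.R4_10
import Cfsg.Agent.Co3TwoM12.Cert.Collapse.R4_11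
import Cfsg.Agent.Co3TwoM12.Cert.Collapse.R4_12
import Cfsg.Agent.Co3TwoM12.Cert.Collapse.R4_13
import Cfsg.Agent.Co3TwoM12.Cert.Collapse.R4_14
import Cfsg.Agent.Co3TwoM12.Cert.Collapse.R4_15
import Cfsg.Agent.Co3TwoM12.Cert.RModel
import Cfsg.Agent.Co3TwoM12.Cert.Wreath.RuleData

/-!
The remaining choices of relators: only the wreathed product and two choices for the third Conway
group do not collapse.
-/

set_option autoImplicit false
set_option maxRecDepth 100000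

namespace Cfsg.Agent.Co3TwoM12.Cert

open Cfsg Cfsg.Agent.Compute Cfsg.Agent.StemCert
open Cfsg.Agent.Co3Rec (R)

/-- The relators of the second certificate. -/
def relsB : List (ℕ × ℕ) := [(3, 1), (4, 7)]

theorem case_data : rK 0 = 0 ∧ rK 1 = 0 ∧ rK 3 = 2 ∧ rK 4 = 2 ∧
    (Data.relYs.getD 0 []).length = 8 ∧ (Data.relYs.getD 1 []).length = 16 ∧
    (Data.relYs.getD 3 []).length = 8 ∧ (Data.relYs.getD 4 []).length = 16 := by decide +kernel

variable {G : Type*} [Group G] {Φ : CBs →* G} {x : G}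

/-- The relators hold for some position in the list. -/
theorem exists_pos [Finite G] (hinj : Function.Injective Φ)
    (hrange : ∀ y, y * Φ ⟨_, bE_memC⟩ = Φ ⟨_, bE_memC⟩ * y → y ∈ Φ.range)
    (hcard : Nat.card CBs = 190080) {c : ℕ} (hc : c < 6) (hx2 : x * x = 1)
    (hx : ∀ i < 384, x * Φ (dC i) * x⁻¹ = Φ (dC (aMap (rK c) i))) :
    ∃ i < (Data.relYs.getD c []).length, triV Φ x c = Φ (wC (rY c) * dC (relYd c i)) := by
  obtain ⟨d, hd, -, e⟩ := triV_mem Φ hinj hrange hcard hc hx2 hx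
  obtain ⟨i, hi, rfl⟩ := List.getElem_of_mem hd
  exact ⟨i, hi, by rw [relYd, List.getD_eq_getElem _ _ hi]; exact e⟩

/-- The first automorphism leads to the wreathed product. -/
theorem cases_0 [Finite G] (hinj : Function.Injective Φ)
    (hrange : ∀ y, y * Φ ⟨_, bE_memC⟩ = Φ ⟨_, bE_memC⟩ * y → y ∈ Φ.range)
    (hcard : Nat.card CBs = 190080) (hx2 : x * x = 1)
    (hx : ∀ i < 384, x * Φ (dC i) * x⁻¹ = Φ (dC (aMap 0 i))) :
    Rel Φ x 0 Wreath.rels := by
  obtain ⟨k0, k1, k3, k4, n0, n1, n3, n4⟩ := case_data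
  obtain ⟨i, hi, ea⟩ := exists_pos (x := x) hinj hrange hcard (c := 0) (by norm_num) hx2
    (by rw [k0]; exact hx)
  obtain ⟨j, hj, eb⟩ := exists_pos (x := x) hinj hrange hcard (c := 1) (by norm_num) hx2
    (by rw [k1]; exact hx)
  rw [n0] at hi
  rw [n1] at hj
  have ha : Rel Φ x 0 [(0, i)] := ⟨hx2, hx, by simpa using ea⟩
  have hb : Rel Φ x 0 [(1, j)] := ⟨hx2, hx, by simpa using eb⟩
  have hab : Rel Φ x 0 [(0, i), (1, j)] :=
    ⟨hx2, hx, by simp only [List.forall_mem_cons]; exact ⟨ea, eb, by simp⟩⟩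
  have hi' : i = 0 ∨ i = 6 := by
    interval_cases i
    · simp
    · exact (Collapse.R0_1.no Φ hinj x ha).elim
    · exact (Collapse.R0_2.no Φ hinj x ha).elim
    · exact (Collapse.R0_3.no Φ hinj x ha).elim
    · exact (Collapse.R0_4.no Φ hinj x ha).elim
    · exact (Collapse.R0_5.no Φ hinj x ha).elim
    · simp
    · exact (Collapse.R0_7.no Φ hinj x ha).elim
  have hj' : j = 9 := by
    interval_cases j
    · exact (Collapse.R1_0.no Φ hinj x hb).elim
    · exact (Collapse.R1_1.no Φ hinj x hb).elim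
    · exact (Collapse.R1_2.no Φ hinj x hb).elim
    · exact (Collapse.R1_3.no Φ hinj x hb).elim
    · exact (Collapse.R1_4.no Φ hinj x hb).elim
    · exact (Collapse.R1_5.no Φ hinj x hb).elim
    · exact (Collapse.R1_6.no Φ hinj x hb).elim
    · exact (Collapse.R1_7.no Φ hinj x hb).elim
    · exact (Collapse.R1_8.no Φ hinj x hb).elim
    · simp
    · exact (Collapse.R1_10.no Φ hinj x hb).elim
    · exact (Collapse.R1_11.no Φ hinj x hb).elim
    · exact (Collapse.R1_12.no Φ hinj x hb).elim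
    · exact (Collapse.R1_13.no Φ hinj x hb).elim
    · exact (Collapse.R1_14.no Φ hinj x hb).elim
    · exact (Collapse.R1_15.no Φ hinj x hb).elim
  rcases hi' with rfl | rfl <;> rcases hj' with rfl
  · exact (Collapse.R0_0_1_9.no Φ hinj x hab).elim
  · exact hab

/-- The second leads to one of two choices. -/
theorem cases_2 [Finite G] (hinj : Function.Injective Φ)
    (hrange : ∀ y, y * Φ ⟨_, bE_memC⟩ = Φ ⟨_, bE_memC⟩ * y → y ∈ Φ.range)
    (hcard : Nat.card CBs = 190080) (hx2 : x * x = 1)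
    (hx : ∀ i < 384, x * Φ (dC i) * x⁻¹ = Φ (dC (aMap 2 i))) :
    Rel Φ x 2 relsA ∨ Rel Φ x 2 relsB := by
  obtain ⟨k0, k1, k3, k4, n0, n1, n3, n4⟩ := case_data
  obtain ⟨i, hi, ea⟩ := exists_pos (x := x) hinj hrange hcard (c := 3) (by norm_num) hx2
    (by rw [k3]; exact hx)
  obtain ⟨j, hj, eb⟩ := exists_pos (x := x) hinj hrange hcard (c := 4) (by norm_num) hx2
    (by rw [k4]; exact hx)
  rw [n3] at hi
  rw [n4] at hj
  have ha : Rel Φ x 2 [(3, i)] := ⟨hx2, hx, by simpa using ea⟩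
  have hb : Rel Φ x 2 [(4, j)] := ⟨hx2, hx, by simpa using eb⟩
  have hab : Rel Φ x 2 [(3, i), (4, j)] :=
    ⟨hx2, hx, by simp only [List.forall_mem_cons]; exact ⟨ea, eb, by simp⟩⟩
  have hi' : i = 1 ∨ i = 7 := by
    interval_cases i
    · exact (Collapse.R3_0.no Φ hinj x ha).elim
    · simp
    · exact (Collapse.R3_2.no Φ hinj x ha).elim
    · exact (Collapse.R3_3.no Φ hinj x ha).elim
    · exact (Collapse.R3_4.no Φ hinj x ha).elim
    · exact (Collapse.R3_5.no Φ hinj x ha).elim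
    · exact (Collapse.R3_6.no Φ hinj x ha).elim
    · simp
  have hj' : j = 1 ∨ j = 7 := by
    interval_cases j
    · exact (Collapse.R4_0.no Φ hinj x hb).elim
    · simp
    · exact (Collapse.R4_2.no Φ hinj x hb).elim
    · exact (Collapse.R4_3.no Φ hinj x hb).elim
    · exact (Collapse.R4_4.no Φ hinj x hb).elim
    · exact (Collapse.R4_5.no Φ hinj x hb).elim
    · exact (Collapse.R4_6.no Φ hinj x hb).elim
    · simp
    · exact (Collapse.R4_8.no Φ hinj x hb).elim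
    · exact (Collapse.R4_9.no Φ hinj x hb).elim
    · exact (Collapse.R4_10.no Φ hinj x hb).elim
    · exact (Collapse.R4_11.no Φ hinj x hb).elim
    · exact (Collapse.R4_12.no Φ hinj x hb).elim
    · exact (Collapse.R4_13.no Φ hinj x hb).elim
    · exact (Collapse.R4_14.no Φ hinj x hb).elim
    · exact (Collapse.R4_15.no Φ hinj x hb).elim
  rcases hi' with rfl | rfl <;> rcases hj' with rfl | rfl
  · exact Or.inl hab
  · exact Or.inr hab
  · exact (Collapse.R3_7_4_1.no Φ hinj x hab).elim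
  · exact (Collapse.R3_7_4_7.no Φ hinj x hab).elim

end Cfsg.Agent.Co3TwoM12.Cert
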