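import Cfsg.Agent.Co3TwoM12.CentCert
import Cfsg.Agent.Compute.Mathieu

/-!
The centraliser of the involution with twelve fixed points is `2 × M12`; settings from the
hypothesis on the centraliser of an involution.
-/

set_option autoImplicit false

namespace Cfsg.Agent.Co3TwoM12

open Cfsg
open Cfsg.Agent.Co3Rec (R)

/-- The centraliser is generated by two letters. -/
theorem CB_eq_closure : CB = Subgroup.closure {ctx.gen 6, ctx.gen 7} := by
  refine le_antisymm (fun g hg => ?_) CentCert.L_le
  show g ∈ CentCert.L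
  obtain ⟨m, hm, h | h⟩ := CentCert.decompose hg <;> rw [h]
  · exact CentCert.M_le_L hm
  · exact mul_mem (CentCert.M_le_L hm) CentCert.bE_mem_L

theorem bC_mul_self : bC * bC = 1 := Subtype.ext (by
  have h := CentCert.eq_of_same (a := [0, 0]) (b := []) (by decide +kernel)
  simp only [Co3Rec.Ctx.ev_cons, Co3Rec.Ctx.ev_nil, mul_one, CentCert.gen_b] at h
  exact h)

/-- The group of order two on the central involution. -/
noncomputable def twoHom : Multiplicative (ZMod 2) →* CB :=
  MonoidHom.mk' (fun a => if a = 1 then 1 else bC) fun a b => by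
    have key : ∀ x : Multiplicative (ZMod 2), x = 1 ∨ x = Multiplicative.ofAdd 1 := by decide
    rcases key a with rfl | rfl <;> rcases key b with rfl | rfl
    all_goals simp [bC_mul_self, ← ofAdd_add, show (1 : ZMod 2) + 1 = 0 by decide]

theorem twoHom_of_ne {a : Multiplicative (ZMod 2)} (ha : a ≠ 1) : twoHom a = bC := by
  show (if a = 1 then (1 : CB) else bC) = bC
  exact if_neg ha

/-- The complement inside the centraliser. -/
noncomputable def compHom : CentCert.M →* CB := Subgroup.inclusion CentCert.M_le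

theorem commute_two (a : Multiplicative (ZMod 2)) (m : CentCert.M) :
    Commute (twoHom a) (compHom m) := by
  unfold Commute SemiconjBy
  show (if a = 1 then (1 : CB) else bC) * _ = _ * (if a = 1 then (1 : CB) else bC)
  split
  · rw [one_mul, mul_one]
  · exact Subtype.ext (mem_CB.mp (CentCert.M_le m.2)).symm

/-- The product map. -/
noncomputable def prodHom : Multiplicative (ZMod 2) × CentCert.M →* CB :=
  MonoidHom.noncommCoprod twoHom compHom commute_two

theorem prodHom_bijective : Function.Bijective prodHom := by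
  refine ⟨(injective_iff_map_eq_one _).mpr ?_, fun g => ?_⟩
  · rintro ⟨a, m⟩ h
    rw [prodHom, MonoidHom.noncommCoprod_apply] at h
    have h' : ((twoHom a : CB) : R) * (m : R) = 1 := congrArg Subtype.val h
    by_cases ha : a = 1
    · subst ha
      rw [map_one, OneMemClass.coe_one, one_mul] at h'
      exact Prod.ext rfl (Subtype.ext h')
    · exfalso
      rw [twoHom_of_ne ha] at h'
      have h2 : Co3Rec.bE = (m : R)⁻¹ := eq_inv_of_mul_eq_one_left h'
      exact CentCert.bE_not_mem_M (h2 ▸ inv_mem m.2)
  · obtain ⟨m, hm, h | h⟩ := CentCert.decompose g.2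
    · refine ⟨(1, ⟨m, hm⟩), Subtype.ext ?_⟩
      rw [prodHom, MonoidHom.noncommCoprod_apply, map_one, one_mul]
      exact h.symm
    · refine ⟨(Multiplicative.ofAdd 1, ⟨m, hm⟩), ?_⟩
      apply Subtype.ext
      rw [prodHom, MonoidHom.noncommCoprod_apply,
        twoHom_of_ne (a := Multiplicative.ofAdd 1) (by decide), h]
      exact (mem_CB.mp (CentCert.M_le hm)).symm

/-- The centraliser is `2 × M12`. -/
theorem cb_iso : Nonempty (CB ≃* Multiplicative (ZMod 2) × ↥Cfsg.Spor.M12) := by
  obtain ⟨e⟩ := CentCert.M_iso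
  exact ⟨(MulEquiv.ofBijective prodHom prodHom_bijective).symm.trans
    (MulEquiv.prodCongr (MulEquiv.refl _) e)⟩

theorem card_CB : Nat.card CB = 190080 := by
  rw [Nat.card_congr cb_iso.some.toEquiv, Nat.card_prod, Compute.card_m12, Nat.card_eq_fintype_card,
    Fintype.card_multiplicative, ZMod.card]

theorem center_m12 : Subgroup.center ↥Cfsg.Spor.M12 = ⊥ := by
  have : IsSimpleGroup ↥Cfsg.Spor.M12 := Compute.isSimpleGroup_m12
  refine (Subgroup.normal_of_characteristic _).eq_bot_or_eq_top.resolve_right fun h => ?_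
  let : CommGroup ↥Cfsg.Spor.M12 := Group.commGroupOfCenterEqTop h
  have : Finite ↥Cfsg.Spor.M12 := Nat.finite_of_card_ne_zero (by rw [Compute.card_m12]; norm_num)
  have hp := IsSimpleGroup.prime_card (α := ↥Cfsg.Spor.M12)
  rw [Compute.card_m12] at hp
  norm_num at hp

theorem bE_ne_one : Co3Rec.bE ≠ 1 := fun h => CentCert.bE_not_mem_M (h ▸ one_mem _)

/-- A setting from the hypothesis on the centraliser. -/
theorem exists_setting {G : Type*} [Group G] [Finite G] (t : G) (ht : orderOf t = 2)
    (hC : Nonempty (↥(Subgroup.centralizer ({t} : Set G)) ≃*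
      Multiplicative (ZMod 2) × ↥Cfsg.Spor.M12)) : ∃ S : Setting G, S.Φ bC = t := by
  obtain ⟨e⟩ := hC
  obtain ⟨f⟩ := cb_iso
  set C := Subgroup.centralizer ({t} : Set G) with hCdef
  let E : CB ≃* C := f.trans e.symm
  let t' : C := ⟨t, Subgroup.mem_centralizer_singleton_iff.mpr rfl⟩
  have hcentral : ∀ z : C, z ∈ Subgroup.center C → (e z).2 = 1 := fun z hz => by
    have h : (e z).2 ∈ Subgroup.center ↥Cfsg.Spor.M12 := Subgroup.mem_center_iff.mpr fun g => by
      obtain ⟨y, hy⟩ := e.surjective (1, g)
      have h' := congrArg Prod.snd (congrArg e (Subgroup.mem_center_iff.mp hz y))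
      rw [map_mul, map_mul, hy] at h'
      exact h'
    rwa [center_m12, Subgroup.mem_bot] at h
  have h1 : (e t').2 = 1 := hcentral t' (Subgroup.mem_center_iff.mpr fun g => Subtype.ext
    (Subgroup.mem_centralizer_singleton_iff.mp g.2))
  have h2 : (e (E bC)).2 = 1 := hcentral _ (Subgroup.mem_center_iff.mpr fun g => by
    obtain ⟨x, rfl⟩ := E.surjective g
    rw [← map_mul, ← map_mul]
    exact congrArg E (Subtype.ext (mem_CB.mp x.2)))
  have hne : e t' ≠ 1 := fun h => by
    have h1 : t = 1 := congrArg Subtype.val (e.map_eq_one_iff.mp h)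
    rw [h1, orderOf_one] at ht
    norm_num at ht
  have hne' : e (E bC) ≠ 1 := fun h => bE_ne_one
    (congrArg Subtype.val (E.map_eq_one_iff.mp (e.map_eq_one_iff.mp h)))
  have key : ∀ a b : Multiplicative (ZMod 2), a ≠ 1 → b ≠ 1 → a = b := by decide
  have heq : E bC = t' := e.injective (Prod.ext
    (key _ _ (fun h => hne' (Prod.ext h h2)) (fun h => hne (Prod.ext h h1))) (h2.trans h1.symm))
  refine ⟨⟨C.subtype.comp E.toMonoidHom, C.subtype_injective.comp E.injective, fun y hy => ?_⟩, ?_⟩
  · have ht2 : ((E bC : C) : G) = t := congrArg Subtype.val heq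
    have hy' : y ∈ C := by
      rw [hCdef, Subgroup.mem_centralizer_singleton_iff]
      simpa [ht2] using hy
    exact ⟨E.symm ⟨y, hy'⟩, by simp⟩
  · exact congrArg Subtype.val heq

end Cfsg.Agent.Co3TwoM12
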