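import Cfsg.Agent.Co3Rec.Base

/-!
The centraliser `2 × M12` inside the model of the third Conway group, and copies of it as the
centraliser of an involution.
-/

set_option autoImplicit false

namespace Cfsg.Agent.Co3TwoM12

open Cfsg.Agent.Co3Rec (R)

/-- The centraliser of the involution with twelve fixed points. -/
noncomputable def CB : Subgroup R := Subgroup.centralizer {Co3Rec.bE}

theorem mem_CB {x : R} : x ∈ CB ↔ x * Co3Rec.bE = Co3Rec.bE * x :=
  Subgroup.mem_centralizer_singleton_iff

theorem bE_mem_CB : Co3Rec.bE ∈ CB := mem_CB.mpr rfl

/-- The involution, in the centraliser. -/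
noncomputable def bC : CB := ⟨Co3Rec.bE, bE_mem_CB⟩

/-- A copy of the model as the centraliser of an involution. -/
structure Setting (G : Type*) [Group G] where
  /-- the map from the model -/
  Φ : CB →* G
  inj : Function.Injective Φ
  mem_range : ∀ y, y * Φ bC = Φ bC * y → y ∈ Φ.range

end Cfsg.Agent.Co3TwoM12
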