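import Cfsg.Agent.Co3TwoM12.Base
import Cfsg.Agent.Co3TwoM12.Defs
import Cfsg.Agent.Co3TwoM12.Data.Cent
import Cfsg.Agent.SporMult.M12
import Cfsg.Agent.OutTab.CentSift

/-!
The certificate for the centraliser `2 × M12`: a complement on twelve fixed points, its forms, and
the stabiliser of five of the points.
-/

set_option autoImplicit false
set_option maxRecDepth 100000

namespace Cfsg.Agent.Co3TwoM12.CentCert

open Cfsg Cfsg.Agent.Compute Cfsg.Agent.StemCert
open Cfsg.Agent.OutTab (ivB)
open Cfsg.Agent.Co3Rec (R Ctx ltB sameB ltB_iff)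

theorem defs_ok : LeechModel.wordsB 276 9 Co3Out.Data.k Co3Out.Data.codes CentData.defs CentData.codes
    CentData.k = true := by
  decide +kernel

theorem inv_ok : ivB 9 CentData.k CentData.codes Co3Out.Data.mainBase CentData.ivs = true := by
  decide +kernel

/-- The letters. -/
noncomputable def cctx : Ctx where
  k := CentData.k
  cs := CentData.codes
  iv := CentData.ivs
  gen s := evalW Co3Out.gen (CentData.defs.getD s [])
  coded := LeechModel.coded_of_wordsB Co3Out.coded defs_ok
  inv_ok := inv_ok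
  iv_lt := by decide +kernel

/-- Equality of words. -/
noncomputable abbrev same (a b : List ℕ) : Bool := sameB CentData.k CentData.codes a b

theorem eq_of_same {a b : List ℕ} (h : same a b = true) : cctx.ev a = cctx.ev b := cctx.eq_of_same h

theorem same_of_eq {a b : List ℕ} (ha : ∀ s ∈ a, s < cctx.k) (hb : ∀ s ∈ b, s < cctx.k)
    (h : cctx.ev a = cctx.ev b) : same a b = true := by
  simp only [same, sameB, Bool.and_eq_true]
  exact ⟨⟨ltB_iff.mpr ha, ltB_iff.mpr hb⟩,
    OutTab.eqOn_of_eq cctx.coded Co3Out.base_isBase.1 ha hb h⟩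

theorem gen_b : cctx.gen 0 = Co3Rec.bE := by
  rw [← Co3TwoM12.gen_zero]
  exact congrArg (evalW Co3Out.gen) (by decide +kernel)

theorem gen_c0 : cctx.gen 1 = Co3TwoM12.ctx.gen 6 :=
  congrArg (evalW Co3Out.gen) (show CentData.defs.getD 1 [] = Data.defs.getD 6 [] by decide +kernel)

theorem gen_c1 : cctx.gen 2 = Co3TwoM12.ctx.gen 7 :=
  congrArg (evalW Co3Out.gen) (show CentData.defs.getD 2 [] = Data.defs.getD 7 [] by decide +kernel)

theorem gens_comm : allB (fun s => same [s, 0] [0, s]) [1, 2, CentData.mL] = true := by decide +kernel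

theorem gen_mem_CB {s : ℕ} (hs : s ∈ [1, 2, CentData.mL]) : cctx.gen s ∈ CB := by
  have h := eq_of_same (allB_spec gens_comm s hs)
  simp only [Ctx.ev_cons, Ctx.ev_nil, mul_one, gen_b] at h
  exact mem_CB.mpr h

/-- The complement. -/
noncomputable def M : Subgroup R := Subgroup.closure {cctx.gen 1, cctx.gen CentData.mL}

theorem M_le : M ≤ CB := by
  rw [M, Subgroup.closure_le]
  rintro x (rfl | rfl) <;> exact gen_mem_CB (by simp)

/-- The group of the two given generators. -/
noncomputable def L : Subgroup R := Subgroup.closure {Co3TwoM12.ctx.gen 6, Co3TwoM12.ctx.gen 7}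

theorem L_le : L ≤ CB := by
  rw [L, Subgroup.closure_le, ← gen_c0, ← gen_c1]
  rintro x (rfl | rfl) <;> exact gen_mem_CB (by simp)

theorem small_mem_L {s : ℕ} (hs : s = 1 ∨ s = 2) : cctx.gen s ∈ L := by
  rcases hs with rfl | rfl
  · rw [gen_c0]; exact Subgroup.subset_closure (by simp)
  · rw [gen_c1]; exact Subgroup.subset_closure (by simp)

theorem bWords_ok : same (0 :: CentData.bWords.2) CentData.bWords.1 = true ∧
    allB (fun s => Nat.beq s 1 || Nat.beq s 2) (CentData.bWords.1 ++ CentData.bWords.2) = true ∧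
    same [CentData.mL] [2, 0] = true := by
  refine ⟨?_, ?_, ?_⟩ <;> decide +kernel

theorem bE_mem_L : Co3Rec.bE ∈ L := by
  obtain ⟨h1, h2, -⟩ := bWords_ok
  have hm : ∀ l : List ℕ, (∀ s ∈ l, s ∈ CentData.bWords.1 ++ CentData.bWords.2) → cctx.ev l ∈ L :=
    fun l hl => list_prod_mem fun y hy => by
      obtain ⟨s, hs, rfl⟩ := List.mem_map.mp hy
      have := allB_spec h2 s (hl s hs)
      simp only [Bool.or_eq_true, Nat.beq_eq] at this
      exact small_mem_L this
  have h := eq_of_same h1
  rw [Ctx.ev_cons, gen_b] at h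
  rw [eq_mul_inv_of_mul_eq h]
  exact mul_mem (hm _ fun s hs => List.mem_append_left _ hs)
    (inv_mem (hm _ fun s hs => List.mem_append_right _ hs))

theorem M_le_L : M ≤ L := by
  rw [M, Subgroup.closure_le]
  rintro x (rfl | rfl)
  · exact small_mem_L (.inl rfl)
  · have h := eq_of_same bWords_ok.2.2
    simp only [Ctx.ev_cons, Ctx.ev_nil, mul_one, gen_b] at h
    rw [SetLike.mem_coe, h]
    exact mul_mem (small_mem_L (.inr rfl)) bE_mem_L

/-- The letter is one of the complement. -/
noncomputable def mB (s : ℕ) : Bool := CentData.mWords.any fun e => Nat.beq e.1 s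

theorem mWords_ok : allB (fun e : ℕ × List ℕ => same [e.1] e.2 &&
    allB (fun t => Nat.beq t 1 || Nat.beq t CentData.mL) e.2) CentData.mWords = true := by decide +kernel

theorem ev_mem_M {l : List ℕ} (h : allB mB l = true) : cctx.ev l ∈ M := by
  refine list_prod_mem fun y hy => ?_
  obtain ⟨s, hs, rfl⟩ := List.mem_map.mp hy
  obtain ⟨e, he, hes⟩ := List.any_eq_true.mp (allB_spec h s hs)
  obtain ⟨s', w⟩ := e
  obtain rfl : s' = s := Nat.beq_eq.mp hes
  have h' := allB_spec mWords_ok _ he
  simp only [Bool.and_eq_true] at h'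
  rw [← cctx.ev_single, eq_of_same h'.1]
  refine list_prod_mem fun y hy => ?_
  obtain ⟨t, ht, rfl⟩ := List.mem_map.mp hy
  have := allB_spec h'.2 t ht
  simp only [Bool.or_eq_true, Nat.beq_eq] at this
  rcases this with rfl | rfl <;> exact Subgroup.subset_closure (by simp)

/-- A fixed point, as a number. -/
noncomputable abbrev ptN (i : ℕ) : ℕ := CentData.pts.getD i 0

theorem pts_ok : allBelow 12 (fun i => Nat.blt (ptN i) 276 &&
    Nat.beq (appW 9 CentData.codes [0] (ptN i)) (ptN i) &&
    allBelow i (fun j => !Nat.beq (ptN i) (ptN j))) = true := by decide +kernel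

theorem pts_all : allBelow 276 (fun p => !Nat.beq (appW 9 CentData.codes [0] p) p ||
    (List.range 12).any (fun i => Nat.beq (ptN i) p)) = true := by decide +kernel

theorem pts_spec {i : ℕ} (hi : i < 12) : ptN i < 276 ∧ appW 9 CentData.codes [0] (ptN i) = ptN i ∧
    ∀ j < i, ptN i ≠ ptN j := by
  have h := allBelow_eq_true.mp pts_ok i hi
  simp only [Bool.and_eq_true, Nat.blt_eq, Nat.beq_eq] at h
  refine ⟨h.1.1, h.1.2, fun j hj he => ?_⟩
  have h2 := allBelow_eq_true.mp h.2 j hj
  rw [he] at h2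
  simp at h2

/-- A fixed point. -/
noncomputable def pF (i : Fin 12) : Fin 276 := ⟨ptN i, (pts_spec i.2).1⟩

theorem pF_injective : Function.Injective pF := by
  intro a b h
  have h' : ptN a = ptN b := congrArg Fin.val h
  rcases Nat.lt_trichotomy (a : ℕ) b with hlt | heq | hgt
  · exact absurd h'.symm ((pts_spec b.2).2.2 a hlt)
  · exact Fin.ext heq
  · exact absurd h' ((pts_spec a.2).2.2 b hgt)

theorem ι_bE (p : Fin 276) : (Co3Out.ι Co3Rec.bE p : ℕ) = appW 9 CentData.codes [0] p := by
  rw [← gen_b, ← cctx.ev_single]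
  exact appW_spec cctx.coded _ (by decide +kernel) p

theorem pF_fix (i : Fin 12) : Co3Out.ι Co3Rec.bE (pF i) = pF i :=
  Fin.ext ((ι_bE _).trans (pts_spec i.2).2.1)

theorem exists_pF {p : Fin 276} (h : Co3Out.ι Co3Rec.bE p = p) : ∃ i, pF i = p := by
  have h' := allBelow_eq_true.mp pts_all p p.2
  rw [← ι_bE, h] at h'
  simp only [show Nat.beq (p : ℕ) p = true from Nat.beq_eq.mpr rfl, Bool.not_true, Bool.false_or,
    List.any_eq_true, List.mem_range, Nat.beq_eq] at h'
  obtain ⟨i, hi, he⟩ := h'
  exact ⟨⟨i, hi⟩, Fin.ext he⟩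

theorem exists_image {g : R} (hg : g ∈ CB) (i : Fin 12) : ∃ j, Co3Out.ι g (pF i) = pF j := by
  obtain ⟨j, hj⟩ := exists_pF (p := Co3Out.ι g (pF i)) (by
    rw [← Equiv.Perm.mul_apply, ← map_mul, ← mem_CB.mp hg, map_mul, Equiv.Perm.mul_apply, pF_fix])
  exact ⟨j, hj.symm⟩

/-- The image of a point. -/
noncomputable def σf (g : CB) (i : Fin 12) : Fin 12 := (exists_image g.2 i).choose

theorem σf_spec (g : CB) (i : Fin 12) : Co3Out.ι (g : R) (pF i) = pF (σf g i) :=
  (exists_image g.2 i).choose_spec

theorem σf_mul (g h : CB) (i : Fin 12) : σf (g * h) i = σf g (σf h i) := by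
  apply pF_injective
  rw [← σf_spec, ← σf_spec, ← σf_spec, Subgroup.coe_mul, map_mul, Equiv.Perm.mul_apply]

theorem σf_one (i : Fin 12) : σf 1 i = i := by
  apply pF_injective
  rw [← σf_spec, OneMemClass.coe_one, map_one, Equiv.Perm.one_apply]

/-- The action on the fixed points. -/
noncomputable def σ : CB →* Equiv.Perm (Fin 12) where
  toFun g :=
    { toFun := σf g
      invFun := σf g⁻¹
      left_inv := fun i => by rw [← σf_mul, inv_mul_cancel, σf_one]
      right_inv := fun i => by rw [← σf_mul, mul_inv_cancel, σf_one] }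
  map_one' := Equiv.ext σf_one
  map_mul' g h := Equiv.ext (σf_mul g h)

theorem σ_spec (g : CB) (i : Fin 12) : Co3Out.ι (g : R) (pF i) = pF (σ g i) := σf_spec g i

/-- The number of a base point. -/
noncomputable def qI (t : ℕ) : Fin 12 := ⟨CentData.qi.getD t 0 % 12, Nat.mod_lt _ (by norm_num)⟩

/-- A base point, as a number. -/
noncomputable abbrev qN (t : ℕ) : ℕ := ptN (CentData.qi.getD t 0 % 12)

/-- A base point. -/
noncomputable def qF (t : ℕ) : Fin 276 := pF (qI t)

/-- The five points. -/
noncomputable abbrev qs : List ℕ := (List.range 5).map qN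

theorem fix_qs {h : R} (hh : ∀ t < 5, Co3Out.ι h (qF t) = qF t) (p : Fin 276) (hp : (p : ℕ) ∈ qs) :
    Co3Out.ι h p = p := by
  obtain ⟨t, ht, he⟩ := List.mem_map.mp hp
  rw [show p = qF t from Fin.ext he.symm]
  exact hh t (List.mem_range.mp ht)

/-- A level of the complement. -/
noncomputable abbrev mLv (i : ℕ) : Lv := CentData.mLevels.getD i noLv

theorem cover_ok : allBelow 5 (fun i => allBelow 12 fun p =>
    (List.range i).any (fun t => Nat.beq (qN t) (ptN p)) ||
      (List.range (mLv i).size).any (fun j => allB mB ((mLv i).word j) &&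
        ltB CentData.k ((mLv i).word j) &&
        Nat.beq (appW 9 CentData.codes ((mLv i).word j) (qN i)) (ptN p) &&
        allBelow i (fun t => Nat.beq (appW 9 CentData.codes ((mLv i).word j) (qN t)) (qN t)))) = true := by
  decide +kernel

theorem qN_inj : allBelow 5 (fun i => allBelow i fun t => !Nat.beq (qN i) (qN t)) = true := by
  decide +kernel

/-- The complement covers the five-tuples. -/
theorem exists_match {g : R} (hg : g ∈ CB) :
    ∀ i ≤ 5, ∃ m ∈ M, ∀ t < i, Co3Out.ι g (qF t) = Co3Out.ι m (qF t)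
  | 0, _ => ⟨1, one_mem _, fun t ht => absurd ht t.not_lt_zero⟩
  | i + 1, hi => by
    obtain ⟨m, hm, hmt⟩ := exists_match hg i (by omega)
    have hh : m⁻¹ * g ∈ CB := mul_mem (inv_mem (M_le hm)) hg
    have hfix : ∀ t < i, Co3Out.ι (m⁻¹ * g) (qF t) = qF t := fun t ht => by
      rw [map_mul, Equiv.Perm.mul_apply, hmt t ht, ← Equiv.Perm.mul_apply, ← map_mul, inv_mul_cancel,
        map_one, Equiv.Perm.one_apply]
    obtain ⟨p, hp⟩ := exists_image hh (qI i)
    have h := allBelow_eq_true.mp (allBelow_eq_true.mp cover_ok i (by omega)) p p.2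
    simp only [Bool.or_eq_true, List.any_eq_true, List.mem_range, Bool.and_eq_true, Nat.beq_eq] at h
    rcases h with ⟨t, ht, he⟩ | ⟨j, -, ⟨⟨h1, h2⟩, h3⟩, h4⟩
    · exfalso
      have hq : qF t = pF p := Fin.ext he
      rw [← hp, show pF (qI i) = qF i from rfl] at hq
      have : qF t = qF i := (Co3Out.ι (m⁻¹ * g)).injective (by rw [hfix t ht]; exact hq)
      have h5 := allBelow_eq_true.mp (allBelow_eq_true.mp qN_inj i (by omega)) t ht
      rw [show qN i = qN t from congrArg Fin.val this.symm] at h5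
      simp at h5
    · refine ⟨m * cctx.ev ((mLv i).word j), mul_mem hm (ev_mem_M h1), fun t ht => ?_⟩
      rw [map_mul, Equiv.Perm.mul_apply]
      have hl : ∀ s ∈ (mLv i).word j, s < cctx.k := ltB_iff.mp h2
      rcases Nat.lt_succ_iff_lt_or_eq.mp ht with ht' | rfl
      · have : Co3Out.ι (cctx.ev ((mLv i).word j)) (qF t) = qF t :=
          Fin.ext ((appW_spec cctx.coded _ hl _).trans
            (Nat.beq_eq.mp (allBelow_eq_true.mp h4 t ht')))
        rw [this, hmt t ht']
      · have : Co3Out.ι (cctx.ev ((mLv t).word j)) (qF t) = pF p :=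
          Fin.ext ((appW_spec cctx.coded _ hl _).trans h3)
        rw [this, ← hp, show pF (qI t) = qF t from rfl, ← Equiv.Perm.mul_apply, ← map_mul,
          mul_inv_cancel_left]

/-- Forms fixing the first base points have trivial first entries. -/
theorem tail_of_fix {n w k : ℕ} {G : Type*} [Group G] {ι : G →* Equiv.Perm (Fin n)} {g : ℕ → G}
    {cs : List ℕ} (hc : Coded (w := w) (k := k) ι g cs) :
    ∀ (m : ℕ) {Ls : List Lv} {bs : List ℕ}, wfB Ls = true → gensBelow k Ls = true →
      (∀ b ∈ bs, b < n) → distinctB w cs Ls bs = true → ∀ x, Valid Ls x →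
      (∀ p : Fin n, (p : ℕ) ∈ bs.take m → ι (nf g Lv.word Ls x) p = p) →
      ∃ y, Valid (Ls.drop m) y ∧ nf g Lv.word Ls x = nf g Lv.word (Ls.drop m) y
  | 0, _, _, _, _, _, _ => fun x hx _ => ⟨x, hx, rfl⟩
  | _ + 1, [], _, _, _, _, _ => fun x hx _ => ⟨x, by simpa using hx, by simp⟩
  | _ + 1, _ :: _, [], _, _, _, h => by simp [distinctB] at h
  | m + 1, L :: Ls, b :: bs, hw, hg, hlt, h => by
    obtain ⟨hpos, hw0, hword, -, hw'⟩ := wfB_cons hw
    have hg' : (allB (fun s => Nat.blt s k) L.gens && gensBelow k Ls) = true := hg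
    have h' : (fixBelow w cs Ls b &&
      allBelow L.size (fun j =>
        allBelow j (fun j' => !Nat.beq (appW w cs (L.word j) b) (appW w cs (L.word j') b))) &&
      distinctB w cs Ls bs) = true := h
    simp only [Bool.and_eq_true] at hg' h'
    rintro x ⟨j, r, rfl, hj, hr⟩ hfix
    simp only [nf, List.headD_cons, List.tail_cons] at hfix ⊢
    have hbn : b < n := hlt b (by simp)
    have hj0 : j = 0 := by
      by_contra hne
      have hh := allBelow_eq_true.mp (allBelow_eq_true.mp h'.1.2 j hj) 0 (Nat.pos_of_ne_zero hne)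
      have he := hfix ⟨b, hbn⟩ (by simp)
      rw [map_mul, Equiv.Perm.mul_apply, nf_fix hc (b := ⟨b, hbn⟩) hw' hg'.2 h'.1.1 hr] at he
      have hv := appW_spec hc (L.word j)
        (fun t ht => gens_lt hg (by simp) (hword j hj t ht)) ⟨b, hbn⟩
      rw [he] at hv
      rw [hw0] at hh
      rw [← hv] at hh
      simp [appW] at hh
    subst hj0
    have h0 : evalW g (L.word 0) = 1 := by rw [hw0]; rfl
    rw [h0, one_mul] at hfix ⊢
    exact tail_of_fix hc m hw' hg'.2 (fun c hc' => hlt c (List.mem_cons_of_mem _ hc')) h'.2 r hr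
      fun p hp => hfix p (by rw [List.take_succ_cons]; exact List.mem_cons_of_mem _ hp)

/-- The base of the chain of the whole group. -/
noncomputable abbrev rBs : List ℕ := qs ++ [0]

theorem r_ok : wfB CentData.rLevels = true ∧ gensBelow CentData.k CentData.rLevels = true ∧
    distinctB 9 CentData.codes CentData.rLevels rBs = true ∧
    numForms CentData.rLevels = 495766656000 ∧ allB (fun b => Nat.blt b 276) rBs = true := by
  refine ⟨?_, ?_, ?_, ?_, ?_⟩ <;> decide +kernel

theorem tail_ok : CentData.rLevels.drop 5 = [CentData.rLv5] ∧ allBelow CentData.rLv5.size (fun j =>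
    ltB CentData.k (CentData.rLv5.word j) &&
      (!same (CentData.rLv5.word j ++ [0]) (0 :: CentData.rLv5.word j) ||
        same (CentData.rLv5.word j) [] || same (CentData.rLv5.word j) [0])) = true := by
  refine ⟨rfl, ?_⟩
  decide +kernel

/-- An element of the centraliser fixing five points is one of the two central ones. -/
theorem eq_of_fix_five {h : R} (hc : h ∈ CB) (hh : ∀ t < 5, Co3Out.ι h (qF t) = qF t) :
    h = 1 ∨ h = Co3Rec.bE := by
  classical
  obtain ⟨hwf, hg, hd, hN, hlt⟩ := r_ok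
  have hlt' : ∀ b ∈ rBs, b < 276 := fun b hb => Nat.blt_eq.mp (allB_spec hlt b hb)
  have hinj := nf_injective_of_check cctx.coded hwf hg hlt' hd
  let f : forms CentData.rLevels → R := fun x => nf cctx.gen Lv.word CentData.rLevels x.1
  have hb : Function.Bijective f := (Nat.bijective_iff_injective_and_card f).mpr
    ⟨fun x y e => Subtype.ext (hinj _ _ (valid_of_mem_forms x.2) (valid_of_mem_forms y.2) e),
      by simp [card_forms, hN, Co3Out.card_co3]⟩
  obtain ⟨⟨x, hx⟩, rfl⟩ := hb.2 h
  obtain ⟨y, hy, he⟩ := tail_of_fix cctx.coded 5 hwf hg hlt' hd x (valid_of_mem_forms hx)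
    fun p hp => fix_qs hh p (by
      rwa [rBs, List.take_append_of_le_length (by simp), List.take_of_length_le (by simp)] at hp)
  rw [tail_ok.1] at hy he
  obtain ⟨j, r, rfl, hj, hr⟩ := hy
  have he' : f ⟨x, hx⟩ = cctx.ev (CentData.rLv5.word j) := by
    show nf cctx.gen Lv.word CentData.rLevels x = _
    rw [he]
    simp [nf, Ctx.ev]
  rw [he'] at hc ⊢
  have h' := allBelow_eq_true.mp tail_ok.2 j hj
  simp only [Bool.and_eq_true, Bool.or_eq_true] at h'
  obtain ⟨h1, (h2 | h2) | h2⟩ := h'
  · exfalso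
    have hl := ltB_iff.mp h1
    rw [same_of_eq (a := CentData.rLv5.word j ++ [0]) (b := 0 :: CentData.rLv5.word j)] at h2
    · simp at h2
    · intro s hs
      rcases List.mem_append.mp hs with hs | hs
      exacts [hl s hs, (List.mem_singleton.mp hs) ▸ (by decide +kernel : (0 : ℕ) < CentData.k)]
    · intro s hs
      rcases List.mem_cons.mp hs with rfl | hs
      exacts [(by decide +kernel : (0 : ℕ) < CentData.k), hl s hs]
    · simp only [Ctx.ev_append, Ctx.ev_cons, Ctx.ev_nil, mul_one, gen_b]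
      exact mem_CB.mp hc
  · exact .inl (eq_of_same h2)
  · exact .inr (by rw [eq_of_same h2, Ctx.ev_single, gen_b])

/-- The table identities of a chain. -/
noncomputable def tableB (D : List Lv) : Bool :=
  allBelow D.length fun i => allB (fun s => allBelow (lvAt D i).size fun j =>
    same (s :: (lvAt D i).word j)
      ((lvAt D i).word ((lvAt D i).ent s j).jp ++ ((lvAt D i).ent s j).hw)) (lvAt D i).gens

theorem tableOK_of_tableB {D : List Lv} (h : tableB D = true) : TableOK cctx.gen D := by
  rintro ⟨i, s, j⟩ ⟨hi, hs, hj⟩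
  have he := allBelow_eq_true.mp (allB_spec (allBelow_eq_true.mp h i hi) s hs) j hj
  have := eq_of_same he
  rwa [Ctx.ev_cons, Ctx.ev_append] at this

/-- Checked forms are closed under left multiplication by words in the generators of the head. -/
theorem mul_nf {G : Type*} [Group G] {g : ℕ → G} {D : List Lv} (hT : TableOK g D) :
    ∀ (Ls : List Lv) (i : ℕ), Ls = D.drop i → wfB Ls = true → ∀ (w x : List ℕ),
      (∀ s ∈ w, s ∈ headGens Ls) → Valid Ls x →
      ∃ y, Valid Ls y ∧ evalW g w * nf g Lv.word Ls x = nf g Lv.word Ls y := by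
  intro Ls
  induction Ls with
  | nil =>
    intro i _ _ w x hw hx
    have hw0 : w = [] := List.eq_nil_iff_forall_not_mem.mpr fun s hs => by
      simpa [headGens] using hw s hs
    subst hw0
    exact ⟨x, hx, by simp [evalW]⟩
  | cons L Ls ih =>
    intro i hi hwf w x hw hx
    obtain ⟨-, -, -, hent, hwf'⟩ := wfB_cons hwf
    have hilt : i < D.length := by
      by_contra hc
      rw [List.drop_eq_nil_of_le (by omega)] at hi
      exact List.cons_ne_nil _ _ hi
    have hL : lvAt D i = L := by
      rw [lvAt, List.getD_eq_getElem _ _ hilt]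
      rw [List.drop_eq_getElem_cons hilt] at hi
      exact (List.cons.inj hi).1.symm
    have hi' : Ls = D.drop (i + 1) := by rw [← List.drop_drop, ← hi]; rfl
    induction w with
    | nil => exact ⟨x, hx, by simp [evalW]⟩
    | cons s w ihw =>
      obtain ⟨y, ⟨j, r, rfl, hj, hr⟩, he⟩ := ihw fun t ht => hw t (List.mem_cons_of_mem _ ht)
      have hs : s ∈ L.gens := hw s (by simp)
      obtain ⟨hjp, hhw⟩ := hent s hs j hj
      obtain ⟨r', hr', he'⟩ := ih (i + 1) hi' hwf' _ r hhw hr
      refine ⟨(L.ent s j).jp :: r', ⟨_, _, rfl, hjp, hr'⟩, ?_⟩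
      have ht := hT (i, s, j) ⟨hilt, by rw [hL]; exact hs, by rw [hL]; exact hj⟩
      simp only [entAt, hL] at ht
      rw [evalW_cons, mul_assoc, he]
      simp only [nf, List.headD_cons, List.tail_cons]
      rw [← mul_assoc, ht, mul_assoc, he']

theorem m_ok : wfB CentData.mLevels = true ∧ gensBelow CentData.k CentData.mLevels = true ∧
    distinctB 9 CentData.codes CentData.mLevels qs = true ∧ tableB CentData.mLevels = true ∧
    headGens CentData.mLevels = [1, CentData.mL] := by
  refine ⟨?_, ?_, ?_, ?_, ?_⟩ <;> decide +kernel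

theorem exists_form {x : R} (hx : x ∈ M) :
    ∃ y, Valid CentData.mLevels y ∧ x = nf cctx.gen Lv.word CentData.mLevels y := by
  obtain ⟨hwf, -, -, ht, hh⟩ := m_ok
  rw [M, ← Subgroup.mem_toSubmonoid, Subgroup.closure_toSubmonoid_of_finite] at hx
  induction hx using Submonoid.closure_induction_left with
  | one => exact ⟨_, valid_zero hwf, (nf_zero _ hwf).symm⟩
  | mul_left a ha b _ ih =>
    obtain ⟨y, hy, rfl⟩ := ih
    obtain ⟨s, hs, rfl⟩ : ∃ s, s ∈ [1, CentData.mL] ∧ a = cctx.gen s := by
      rcases ha with rfl | rfl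
      exacts [⟨1, by simp, rfl⟩, ⟨CentData.mL, by simp, rfl⟩]
    obtain ⟨z, hz, he⟩ := mul_nf (tableOK_of_tableB ht) CentData.mLevels 0 rfl hwf [s] y
      (fun t htm => by rw [hh, List.mem_singleton.mp htm]; exact hs) hy
    exact ⟨z, hz, by rw [← he]; simp [evalW]⟩

/-- The complement meets the stabiliser of five points trivially. -/
theorem eq_one_of_fix_M {m : R} (hm : m ∈ M) (hh : ∀ t < 5, Co3Out.ι m (qF t) = qF t) : m = 1 := by
  obtain ⟨hwf, hg, hd, -, -⟩ := m_ok
  obtain ⟨y, hy, rfl⟩ := exists_form hm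
  have hlt : ∀ b ∈ qs, b < 276 := fun b hb => by
    obtain ⟨t, -, rfl⟩ := List.mem_map.mp hb
    exact (qF t).2
  rw [eq_zero_of_fix cctx.coded hwf hg hlt hd y hy fun p hp => fix_qs hh p hp, nf_zero _ hwf]

/-- Every element of the centraliser is one of the complement times one of the two central ones. -/
theorem decompose {g : R} (hg : g ∈ CB) :
    ∃ m ∈ M, g = m ∨ g = m * Co3Rec.bE := by
  obtain ⟨m, hm, hmt⟩ := exists_match hg 5 le_rfl
  refine ⟨m, hm, ?_⟩
  rcases eq_of_fix_five (h := m⁻¹ * g) (mul_mem (inv_mem (M_le hm)) hg) (fun t ht => by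
      rw [map_mul, Equiv.Perm.mul_apply, hmt t ht, ← Equiv.Perm.mul_apply, ← map_mul, inv_mul_cancel,
        map_one, Equiv.Perm.one_apply]) with h | h
  · exact .inl (inv_mul_eq_one.mp h).symm
  · exact .inr (by rw [← h, mul_inv_cancel_left])

theorem bE_not_mem_M : Co3Rec.bE ∉ M := fun h => by
  have h1 : Co3Rec.bE = 1 := eq_one_of_fix_M h fun t _ => pF_fix (qI t)
  have h2 : Co3Rec.fx Co3Rec.bE = 12 := Co3Rec.fx_special.2.2.1
  rw [h1, Co3Rec.fx_one] at h2
  norm_num at h2

/-- The words for the Mathieu generators and back. -/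
theorem match_ok : allBelow 6 (fun s => allB mB (CentData.fWords.getD s []) &&
      ltB CentData.k (CentData.fWords.getD s []) && allBelow 12 (fun i =>
        Nat.blt (getField 5 (SporMult.M12.codes12.getD s 0) i) 12 &&
        Nat.beq (appW 9 CentData.codes (CentData.fWords.getD s []) (ptN i))
          (ptN (getField 5 (SporMult.M12.codes12.getD s 0) i)))) = true ∧
    allBelow 2 (fun r => ltB 6 (CentData.gWords.getD r []) && allBelow 12 (fun i =>
        Nat.blt (appW 5 SporMult.M12.codes12 (CentData.gWords.getD r []) i) 12 &&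
        Nat.beq (appW 9 CentData.codes [[1, CentData.mL].getD r 0] (ptN i))
          (ptN (appW 5 SporMult.M12.codes12 (CentData.gWords.getD r []) i)))) = true := by
  refine ⟨?_, ?_⟩ <;> decide +kernel

theorem σ_eq {g : CB} {π : Equiv.Perm (Fin 12)} {l : List ℕ} (hl : ∀ s ∈ l, s < cctx.k)
    (hg : (g : R) = cctx.ev l) (h : ∀ i : Fin 12, appW 9 CentData.codes l (ptN i) = ptN (π i)) :
    σ g = π := Equiv.ext fun i => pF_injective (Fin.ext (by
  rw [← σ_spec, hg]
  exact (appW_spec cctx.coded l hl (pF i)).trans (h i)))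

/-- The action restricted to the complement. -/
noncomputable def σM : M →* Equiv.Perm (Fin 12) := σ.comp (Subgroup.inclusion M_le)

theorem σM_injective : Function.Injective σM := by
  rw [injective_iff_map_eq_one]
  intro m hm
  refine Subtype.ext (eq_one_of_fix_M m.2 fun t _ => ?_)
  have h := σ_spec (Subgroup.inclusion M_le m) (qI t)
  rw [show σ (Subgroup.inclusion M_le m) = 1 from hm] at h
  exact h

theorem range_σM : σM.range = SporMult.M12.ι.range := by
  apply le_antisymm
  · rintro _ ⟨⟨x, hx⟩, rfl⟩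
    induction hx using Subgroup.closure_induction with
    | mem y hy =>
      obtain ⟨r, hr, hyr⟩ : ∃ r < 2, y = cctx.gen ([1, CentData.mL].getD r 0) := by
        rcases hy with rfl | rfl
        exacts [⟨0, by norm_num, rfl⟩, ⟨1, by norm_num, rfl⟩]
      have h := allBelow_eq_true.mp match_ok.2 r hr
      simp only [Bool.and_eq_true, allBelow_eq_true, Nat.blt_eq, Nat.beq_eq] at h
      refine ⟨evalW SporMult.M12.g (CentData.gWords.getD r []), (σ_eq (l := [[1, CentData.mL].getD r 0])
        (fun s hs => ?_) (by rw [Ctx.ev_single]; exact hyr) fun i => ?_).symm⟩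
      · rw [List.mem_singleton.mp hs]
        interval_cases r <;> decide +kernel
      · rw [(h.2 i i.2).2, appW_spec SporMult.M12.g_coded _ (ltB_iff.mp h.1) i]
    | one => exact (show σM 1 = 1 from map_one _) ▸ one_mem _
    | mul a b ha hb iha ihb =>
      rw [show (⟨a * b, mul_mem ha hb⟩ : M) = ⟨a, ha⟩ * ⟨b, hb⟩ from rfl, map_mul]
      exact mul_mem iha ihb
    | inv a ha iha =>
      rw [show (⟨a⁻¹, inv_mem ha⟩ : M) = (⟨a, ha⟩ : M)⁻¹ from rfl, map_inv]
      exact inv_mem iha
  · rw [MonoidHom.range_eq_map SporMult.M12.ι, ← SporMult.M12.g_gen, MonoidHom.map_closure,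
      Subgroup.closure_le]
    rintro _ ⟨_, ⟨s, hs, rfl⟩, rfl⟩
    have h := allBelow_eq_true.mp match_ok.1 s hs
    simp only [Bool.and_eq_true, allBelow_eq_true, Nat.blt_eq, Nat.beq_eq] at h
    refine ⟨⟨cctx.ev (CentData.fWords.getD s []), ev_mem_M h.1.1⟩,
      σ_eq (l := CentData.fWords.getD s []) (ltB_iff.mp h.1.2) rfl fun i => ?_⟩
    rw [(h.2 i i.2).2, SporMult.M12.g_coded s hs i]

/-- The complement is the Mathieu group. -/
theorem M_iso : Nonempty (M ≃* ↥Spor.M12) :=
  ⟨(MonoidHom.ofInjective σM_injective).trans ((MulEquiv.subgroupCongr range_σM).trans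
    (MonoidHom.ofInjective SporMult.M12.ι_injective).symm)⟩

end Cfsg.Agent.Co3TwoM12.CentCert
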