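import Cfsg.Agent.DCoset.Emit

/-! Conjugates of the involution under the stabiliser of two points, by transversal indices (generated). -/

set_option autoImplicit false
set_option maxRecDepth 100000
set_option linter.all false

namespace Cfsg.Agent.Co3TwoM12.GData

open Cfsg.Agent.CosetCert

def tCls_1 : Store := (.node 14 (.node 7 (.node 3 (.node 1 (.leaf 0x150) (.node 2 (.leaf 0x8c6) (.leaf 0x846))) (.node 5 (.node 4 (.leaf 0x833) (.leaf 0x6b4)) (.node 6 (.leaf 0x1ab) (.leaf 0x7c0)))) (.node 10 (.node 8 (.leaf 0xaf) (.node 9 (.leaf 0x635) (.leaf 0x43c))) (.node 12 (.node 11 (.leaf 0x2cb) (.leaf 0x88c)) (.node 13 (.leaf 0x41) (.leaf 0x410))))) (.node 21 (.node 17 (.node 15 (.leaf 0xcb) (.node 16 (.leaf 0x349) (.leaf 0x44d))) (.node 19 (.node 18 (.leaf 0x7ca) (.leaf 0x29b)) (.node 20 (.leaf 0x11e) (.leaf 0x90c)))) (.node 25 (.node 23 (.node 22 (.leaf 0x84d) (.leaf 0x3ca)) (.node 24 (.leaf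 0x915) (.leaf 0x74c))) (.node 27 (.node 26 (.leaf 0x4be) (.leaf 0x12f)) (.node 28 (.leaf 0x3cc) (.leaf 0x1be))))))

def tCls_2 : Store := (.node 44 (.node 36 (.node 32 (.node 30 (.leaf 0x9a8) (.node 31 (.leaf 0x4f) (.leaf 0x796))) (.node 34 (.node 33 (.leaf 0x336) (.leaf 0x7ba)) (.node 35 (.leaf 0x5a4) (.leaf 0x5cf)))) (.node 40 (.node 38 (.node 37 (.leaf 0x2bf) (.leaf 0x185)) (.node 39 (.leaf 0x795) (.leaf 0x51d))) (.node 42 (.node 41 (.leaf 0x8cb) (.leaf 0x312)) (.node 43 (.leaf 0x12) (.leaf 0x9cb))))) (.node 51 (.node 47 (.node 45 (.leaf 0x32f) (.node 46 (.leaf 0x28b) (.leaf 0x92e))) (.node 49 (.node 48 (.leaf 0x7b1) (.leaf 0x621)) (.node 50 (.leaf 0x41c) (.leaf 0x9ca)))) (.node 55 (.node 53 (.node 52 (.leaf 0x9cf) (.leaf 0x128)) (.node 54 (.leaf 0x306) (.leaf 0x71f))) (.node 57 (.node 56 (.leaf 0x9c7) (.leaf 0x137)) (.node 58 (.leaf 0x4c1) (.leaf 0x14c))))))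

def tCls_3 : Store := (.node 73 (.node 66 (.node 62 (.node 60 (.leaf 0xb2) (.node 61 (.leaf 0x407) (.leaf 0x103))) (.node 64 (.node 63 (.leaf 0x598) (.leaf 0x61e)) (.node 65 (.leaf 0x121) (.leaf 0x2c)))) (.node 69 (.node 67 (.leaf 0x20) (.node 68 (.leaf 0x115) (.leaf 0x991))) (.node 71 (.node 70 (.leaf 0x7c2) (.leaf 0x1a1)) (.node 72 (.leaf 0x184) (.leaf 0x643))))) (.node 80 (.node 76 (.node 74 (.leaf 0x8b5) (.node 75 (.leaf 0xab) (.leaf 0x938))) (.node 78 (.node 77 (.leaf 0x3ce) (.leaf 0x88a)) (.node 79 (.leaf 0x10c) (.leaf 0x7c7)))) (.node 84 (.node 82 (.node 81 (.leaf 0x208) (.leaf 0x1a2)) (.node 83 (.leaf 0x287) (.leaf 0x20d))) (.node 86 (.node 85 (.leaf 0x742) (.leaf 0x5a8)) (.node 87 (.leaf 0x8b4) (.leaf 0x124))))))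

def tCls_4 : Store := (.node 103 (.node 95 (.node 91 (.node 89 (.leaf 0x596) (.node 90 (.leaf 0x39b) (.leaf 0x32b))) (.node 93 (.node 92 (.leaf 0x29e) (.leaf 0x134)) (.node 94 (.leaf 0x810) (.leaf 0x5a9)))) (.node 99 (.node 97 (.node 96 (.leaf 0x186) (.leaf 0x148)) (.node 98 (.leaf 0x94e) (.leaf 0x4b))) (.node 101 (.node 100 (.leaf 0x891) (.leaf 0x3c9)) (.node 102 (.leaf 0x303) (.leaf 0x71b))))) (.node 110 (.node 106 (.node 104 (.leaf 0x382) (.node 105 (.leaf 0x61d) (.leaf 0x2a1))) (.node 108 (.node 107 (.leaf 0x39d) (.leaf 0x514)) (.node 109 (.leaf 0x696) (.leaf 0x6a9)))) (.node 114 (.node 112 (.node 111 (.leaf 0x14a) (.leaf 0x59d)) (.node 113 (.leaf 0x19f) (.leaf 0x199))) (.node 116 (.node 115 (.leaf 0xba) (.leaf 0x212)) (.node 117 (.leaf 0x923) (.leaf 0x58f))))))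

def tCls_5 : Store := (.node 132 (.node 125 (.node 121 (.node 119 (.leaf 0x8cc) (.node 120 (.leaf 0x6bb) (.leaf 0x34e))) (.node 123 (.node 122 (.leaf 0xa19) (.leaf 0x5bf)) (.node 124 (.leaf 0x538) (.leaf 0x1c3)))) (.node 128 (.node 126 (.leaf 0x64b) (.node 127 (.leaf 0x587) (.leaf 0x32c))) (.node 130 (.node 129 (.leaf 0x994) (.leaf 0x535)) (.node 131 (.leaf 0x126) (.leaf 0x20b))))) (.node 139 (.node 135 (.node 133 (.leaf 0x69b) (.node 134 (.leaf 0x81) (.leaf 0x9bc))) (.node 137 (.node 136 (.leaf 0x3a7) (.leaf 0x92a)) (.node 138 (.leaf 0x229) (.leaf 0x9f)))) (.node 143 (.node 141 (.node 140 (.leaf 0xd0) (.leaf 0x586)) (.node 142 (.leaf 0xa38) (.leaf 0xa35))) (.node 145 (.node 144 (.leaf 0x5ae) (.leaf 0x710)) (.node 146 (.leaf 0x73c) (.leaf 0x2b4))))))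

def tCls_6 : Store := (.node 162 (.node 154 (.node 150 (.node 148 (.leaf 0xa13) (.node 149 (.leaf 0x1c) (.leaf 0x216))) (.node 152 (.node 151 (.leaf 0x58b) (.leaf 0x790)) (.node 153 (.leaf 0x744) (.leaf 0x648)))) (.node 158 (.node 156 (.node 155 (.leaf 0x5be) (.leaf 0x434)) (.node 157 (.leaf 0x1ac) (.leaf 0x609))) (.node 160 (.node 159 (.leaf 0x4a) (.leaf 0xa3e)) (.node 161 (.leaf 0x324) (.leaf 0x28d))))) (.node 169 (.node 165 (.node 163 (.leaf 0x438) (.node 164 (.leaf 0x9d) (.leaf 0x435))) (.node 167 (.node 166 (.leaf 0x747) (.leaf 0x201)) (.node 168 (.leaf 0x1c4) (.leaf 0x41f)))) (.node 173 (.node 171 (.node 170 (.leaf 0x450) (.leaf 0x88d)) (.node 172 (.leaf 0x395) (.leaf 0x3b1))) (.node 175 (.node 174 (.leaf 0x82a) (.leaf 0x191)) (.node 176 (.leaf 0x823) (.leaf 0x716))))))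

def tCls_7 : Store := (.node 191 (.node 184 (.node 180 (.node 178 (.leaf 0x887) (.node 179 (.leaf 0x539) (.leaf 0x728))) (.node 182 (.node 181 (.leaf 0x2a) (.leaf 0x724)) (.node 183 (.leaf 0x781) (.leaf 0x14e)))) (.node 187 (.node 185 (.leaf 0x102) (.node 186 (.leaf 0x39e) (.leaf 0x6cc))) (.node 189 (.node 188 (.leaf 0x149) (.leaf 0x5b5)) (.node 190 (.leaf 0x30c) (.leaf 0x42b))))) (.node 198 (.node 194 (.node 192 (.leaf 0x8d0) (.node 193 (.leaf 0x636) (.leaf 0x136))) (.node 196 (.node 195 (.leaf 0xc9) (.leaf 0x789)) (.node 197 (.leaf 0x333) (.leaf 0x1b)))) (.node 202 (.node 200 (.node 199 (.leaf 0x996) (.leaf 0x222)) (.node 201 (.leaf 0x223) (.leaf 0x38f))) (.node 204 (.node 203 (.leaf 0x22) (.leaf 0x305)) (.node 205 (.leaf 0x113) (.leaf 0x141))))))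

def tCls_8 : Store := (.node 221 (.node 213 (.node 209 (.node 207 (.leaf 0x59f) (.node 208 (.leaf 0x6c2) (.leaf 0x2d0))) (.node 211 (.node 210 (.leaf 0x704) (.leaf 0x12b)) (.node 212 (.leaf 0x18c) (.leaf 0x20f)))) (.node 217 (.node 215 (.node 214 (.leaf 0xa1) (.leaf 0x40c)) (.node 216 (.leaf 0x6a1) (.leaf 0x695))) (.node 219 (.node 218 (.leaf 0x231) (.leaf 0x1aa)) (.node 220 (.leaf 0x808) (.leaf 0x4c0))))) (.node 228 (.node 224 (.node 222 (.leaf 0x8c0) (.node 223 (.leaf 0x436) (.leaf 0x1a0))) (.node 226 (.node 225 (.leaf 0x106) (.leaf 0x46)) (.node 227 (.leaf 0x12d) (.leaf 0x984)))) (.node 232 (.node 230 (.node 229 (.leaf 0x42c) (.leaf 0x2cc)) (.node 231 (.leaf 0x549) (.leaf 0x12e))) (.node 234 (.node 233 (.leaf 0x30b) (.leaf 0x44a)) (.node 235 (.leaf 0x19d) (.leaf 0x2b2))))))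

def tCls_9 : Store := (.node 250 (.node 243 (.node 239 (.node 237 (.leaf 0x28) (.node 238 (.leaf 0x112) (.leaf 0x99))) (.node 241 (.node 240 (.leaf 0x821) (.leaf 0x14f)) (.node 242 (.leaf 0x2c4) (.leaf 0x2b3)))) (.node 246 (.node 244 (.leaf 0x998) (.node 245 (.leaf 0x6a0) (.leaf 0x80e))) (.node 248 (.node 247 (.leaf 0x22c) (.leaf 0x326)) (.node 249 (.leaf 0x3b) (.leaf 0x313))))) (.node 257 (.node 253 (.node 251 (.leaf 0x1cb) (.node 252 (.leaf 0x738) (.leaf 0x290))) (.node 255 (.node 254 (.leaf 0x43a) (.leaf 0x4bf)) (.node 256 (.leaf 0x416) (.leaf 0x532)))) (.node 261 (.node 259 (.node 258 (.leaf 0x547) (.leaf 0x8c9)) (.node 260 (.leaf 0x34d) (.leaf 0x600))) (.node 263 (.node 262 (.leaf 0x8ce) (.leaf 0x4)) (.node 264 (.leaf 0x70a) (.leaf 0x82))))))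

def tCls_10 : Store := (.node 280 (.node 272 (.node 268 (.node 266 (.leaf 0x71e) (.node 267 (.leaf 0x62d) (.leaf 0x132))) (.node 270 (.node 269 (.leaf 0x1a6) (.leaf 0x688)) (.node 271 (.leaf 0x2ba) (.leaf 0x49d)))) (.node 276 (.node 274 (.node 273 (.leaf 0x296) (.leaf 0xa0)) (.node 275 (.leaf 0x396) (.leaf 0xbc))) (.node 278 (.node 277 (.leaf 0x14b) (.leaf 0x4c2)) (.node 279 (.leaf 0x31e) (.leaf 0x22f))))) (.node 287 (.node 283 (.node 281 (.leaf 0x5ad) (.node 282 (.leaf 0x18) (.leaf 0x23))) (.node 285 (.node 284 (.leaf 0x1c0) (.leaf 0x11a)) (.node 286 (.leaf 0x43b) (.leaf 0x7ce)))) (.node 291 (.node 289 (.node 288 (.leaf 0x13b) (.leaf 0x515)) (.node 290 (.leaf 0x19a) (.leaf 0x394))) (.node 293 (.node 292 (.leaf 0x214) (.leaf 0x63c)) (.node 294 (.leaf 0x590) (.leaf 0x31b))))))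

def tCls_11 : Store := (.node 309 (.node 302 (.node 298 (.node 296 (.leaf 0x828) (.node 297 (.leaf 0x7ac) (.leaf 0x14))) (.node 300 (.node 299 (.leaf 0x89b) (.leaf 0xc)) (.node 301 (.leaf 0x20a) (.leaf 0x122)))) (.node 305 (.node 303 (.leaf 0x6af) (.node 304 (.leaf 0x544) (.leaf 0x111))) (.node 307 (.node 306 (.leaf 0x5c6) (.leaf 0x22e)) (.node 308 (.leaf 0x8cf) (.leaf 0x946))))) (.node 316 (.node 312 (.node 310 (.leaf 0x4ad) (.node 311 (.leaf 0x218) (.leaf 0x58c))) (.node 314 (.node 313 (.leaf 0x694) (.leaf 0xe)) (.node 315 (.leaf 0xcf) (.leaf 0x411)))) (.node 320 (.node 318 (.node 317 (.leaf 0xa47) (.leaf 0x741)) (.node 319 (.leaf 0x70f) (.leaf 0xb))) (.node 322 (.node 321 (.leaf 0x59e) (.leaf 0x39)) (.node 323 (.leaf 0x2a2) (.leaf 0x7c3))))))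

def tCls_12 : Store := (.node 339 (.node 331 (.node 327 (.node 325 (.leaf 0x213) (.node 326 (.leaf 0x928) (.leaf 0x206))) (.node 329 (.node 328 (.leaf 0x824) (.leaf 0x183)) (.node 330 (.leaf 0x8a7) (.leaf 0x805)))) (.node 335 (.node 333 (.node 332 (.leaf 0x31d) (.leaf 0x18a)) (.node 334 (.leaf 0x693) (.leaf 0x8a4))) (.node 337 (.node 336 (.leaf 0x81a) (.leaf 0x791)) (.node 338 (.leaf 0x3d0) (.leaf 0x44))))) (.node 346 (.node 342 (.node 340 (.leaf 0x335) (.node 341 (.leaf 0x389) (.leaf 0x921))) (.node 344 (.node 343 (.leaf 0x444) (.leaf 0x2ca)) (.node 345 (.leaf 0x72e) (.leaf 0x1d0)))) (.node 350 (.node 348 (.node 347 (.leaf 0x1) (.leaf 0x285)) (.node 349 (.leaf 0x90f) (.leaf 0x1ce))) (.node 352 (.node 351 (.leaf 0x202) (.leaf 0x2c6)) (.node 353 (.leaf 0x2c8) (.leaf 0x649))))))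

def tCls_13 : Store := (.node 368 (.node 361 (.node 357 (.node 355 (.leaf 0x38) (.node 356 (.leaf 0x93e) (.leaf 0x24e))) (.node 359 (.node 358 (.leaf 0x239) (.leaf 0x1b8)) (.node 360 (.leaf 0x8b3) (.leaf 0x48)))) (.node 364 (.node 362 (.leaf 0x3a8) (.node 363 (.leaf 0x948) (.leaf 0x238))) (.node 366 (.node 365 (.leaf 0x1b5) (.leaf 0x37)) (.node 367 (.leaf 0x73f) (.leaf 0x308))))) (.node 375 (.node 371 (.node 369 (.leaf 0x599) (.node 370 (.leaf 0x812) (.leaf 0x329))) (.node 373 (.node 372 (.leaf 0x387) (.leaf 0x43f)) (.node 374 (.leaf 0x391) (.leaf 0x909)))) (.node 379 (.node 377 (.node 376 (.leaf 0x1bc) (.leaf 0xa42)) (.node 378 (.leaf 0x820) (.leaf 0x496))) (.node 381 (.node 380 (.leaf 0x89) (.leaf 0x491)) (.node 382 (.leaf 0x86) (.leaf 0x383))))))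

def tCls_14 : Store := (.node 398 (.node 390 (.node 386 (.node 384 (.leaf 0x129) (.node 385 (.leaf 0x493) (.leaf 0x7c8))) (.node 388 (.node 387 (.leaf 0x1af) (.leaf 0x3aa)) (.node 389 (.leaf 0x82d) (.leaf 0x844)))) (.node 394 (.node 392 (.node 391 (.leaf 0x6c6) (.leaf 0x623)) (.node 393 (.leaf 0x1a7) (.leaf 0x7))) (.node 396 (.node 395 (.leaf 0x227) (.leaf 0x5aa)) (.node 397 (.leaf 0x7b4) (.leaf 0xd))))) (.node 405 (.node 401 (.node 399 (.leaf 0xb3) (.node 400 (.leaf 0xc4) (.leaf 0x737))) (.node 403 (.node 402 (.leaf 0x40e) (.leaf 0x6d0)) (.node 404 (.leaf 0xa2) (.leaf 0x84f)))) (.node 409 (.node 407 (.node 406 (.leaf 0x237) (.leaf 0x990)) (.node 408 (.leaf 0x34) (.leaf 0x104))) (.node 411 (.node 410 (.leaf 0x33b) (.leaf 0x60c)) (.node 412 (.leaf 0x68f) (.leaf 0x1b6))))))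

def tCls_15 : Store := (.node 428 (.node 420 (.node 416 (.node 414 (.leaf 0x78e) (.node 415 (.leaf 0x16) (.leaf 0x4a3))) (.node 418 (.node 417 (.leaf 0x40b) (.leaf 0x5b2)) (.node 419 (.leaf 0x6b2) (.leaf 0x8be)))) (.node 424 (.node 422 (.node 421 (.leaf 0x2bc) (.leaf 0x2b8)) (.node 423 (.leaf 0x718) (.leaf 0x4c))) (.node 426 (.node 425 (.leaf 0x99c) (.leaf 0x215)) (.node 427 (.leaf 0x32a) (.leaf 0x633))))) (.node 435 (.node 431 (.node 429 (.leaf 0x107) (.node 430 (.leaf 0x2cf) (.leaf 0x2cd))) (.node 433 (.node 432 (.leaf 0x88b) (.leaf 0x59c)) (.node 434 (.leaf 0x2f) (.leaf 0x1e)))) (.node 439 (.node 437 (.node 436 (.leaf 0x3c6) (.leaf 0x13a)) (.node 438 (.leaf 0x314) (.leaf 0x7b8))) (.node 441 (.node 440 (.leaf 0x116) (.leaf 0x8cd)) (.node 442 (.leaf 0x5b3) (.leaf 0x8bf))))))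

def tCls_16 : Store := (.node 458 (.node 450 (.node 446 (.node 444 (.leaf 0x733) (.node 445 (.leaf 0x337) (.leaf 0x2ad))) (.node 448 (.node 447 (.leaf 0x2c2) (.leaf 0x34b)) (.node 449 (.leaf 0x950) (.leaf 0x34f)))) (.node 454 (.node 452 (.node 451 (.leaf 0x423) (.leaf 0x3e)) (.node 453 (.leaf 0x8f) (.leaf 0x63b))) (.node 456 (.node 455 (.leaf 0x428) (.leaf 0x8a0)) (.node 457 (.leaf 0x412) (.leaf 0xa1f))))) (.node 465 (.node 461 (.node 459 (.leaf 0x61a) (.node 460 (.leaf 0x4b1) (.leaf 0x681))) (.node 463 (.node 462 (.leaf 0x3a1) (.leaf 0x1a8)) (.node 464 (.leaf 0x40) (.leaf 0x8a9)))) (.node 469 (.node 467 (.node 466 (.leaf 0x5a3) (.leaf 0x9)) (.node 468 (.leaf 0x8aa) (.leaf 0x35))) (.node 471 (.node 470 (.leaf 0x3a) (.leaf 0xa9)) (.node 472 (.leaf 0x91c) (.leaf 0x96))))))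

def tCls_17 : Store := (.node 487 (.node 480 (.node 476 (.node 474 (.leaf 0x1b4) (.node 475 (.leaf 0x81d) (.leaf 0x13e))) (.node 478 (.node 477 (.leaf 0x62a) (.leaf 0x40f)) (.node 479 (.leaf 0x73e) (.leaf 0x1c8)))) (.node 483 (.node 481 (.leaf 0x883) (.node 482 (.leaf 0x220) (.leaf 0x3b7))) (.node 485 (.node 484 (.leaf 0x91a) (.leaf 0x939)) (.node 486 (.leaf 0x540) (.leaf 0x8c4))))) (.node 494 (.node 490 (.node 488 (.leaf 0x835) (.node 489 (.leaf 0x940) (.leaf 0x1cd))) (.node 492 (.node 491 (.leaf 0x589) (.leaf 0x63e)) (.node 493 (.leaf 0x616) (.leaf 0x331)))) (.node 498 (.node 496 (.node 495 (.leaf 0x628) (.leaf 0xa)) (.node 497 (.leaf 0x1b3) (.leaf 0x8a))) (.node 500 (.node 499 (.leaf 0x2a4) (.leaf 0x680)) (.node 501 (.leaf 0x6bc) (.leaf 0x4aa))))))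

def tCls_18 : Store := (.node 517 (.node 509 (.node 505 (.node 503 (.leaf 0xb4) (.node 504 (.leaf 0xa2c) (.leaf 0x4a0))) (.node 507 (.node 506 (.leaf 0x594) (.leaf 0x44f)) (.node 508 (.leaf 0x298) (.leaf 0x1c9)))) (.node 513 (.node 511 (.node 510 (.leaf 0x138) (.leaf 0x614)) (.node 512 (.leaf 0x83) (.leaf 0xc8))) (.node 515 (.node 514 (.leaf 0x408) (.leaf 0x95)) (.node 516 (.leaf 0x2c9) (.leaf 0x893))))) (.node 524 (.node 520 (.node 518 (.leaf 0x332) (.node 519 (.leaf 0x3a4) (.leaf 0x8c))) (.node 522 (.node 521 (.leaf 0x7b7) (.leaf 0x58e)) (.node 523 (.leaf 0x294) (.leaf 0x47)))) (.node 528 (.node 526 (.node 525 (.leaf 0x347) (.leaf 0x4ac)) (.node 527 (.leaf 0x4b6) (.leaf 0x9ab))) (.node 530 (.node 529 (.leaf 0x52c) (.leaf 0x29c)) (.node 531 (.leaf 0x318) (.leaf 0x189))))))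

def tCls_19 : Store := (.node 546 (.node 539 (.node 535 (.node 533 (.leaf 0x33) (.node 534 (.leaf 0x91) (.leaf 0x39c))) (.node 537 (.node 536 (.leaf 0x708) (.leaf 0x79a)) (.node 538 (.leaf 0x54a) (.leaf 0x8c1)))) (.node 542 (.node 540 (.leaf 0x5ab) (.node 541 (.leaf 0x9a9) (.leaf 0x4c7))) (.node 544 (.node 543 (.leaf 0x4ba) (.leaf 0x10)) (.node 545 (.leaf 0x68b) (.leaf 0x42e))))) (.node 553 (.node 549 (.node 547 (.leaf 0x709) (.node 548 (.leaf 0x11d) (.leaf 0x729))) (.node 551 (.node 550 (.leaf 0x807) (.leaf 0x196)) (.node 552 (.leaf 0x10e) (.leaf 0x343)))) (.node 557 (.node 555 (.node 554 (.leaf 0x831) (.leaf 0x4b5)) (.node 556 (.leaf 0x38c) (.leaf 0x4b8))) (.node 559 (.node 558 (.leaf 0x432) (.leaf 0x26)) (.node 560 (.leaf 0x2ce) (.leaf 0x91b))))))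

def tCls_20 : Store := (.node 576 (.node 568 (.node 564 (.node 562 (.leaf 0x71c) (.node 563 (.leaf 0x2c0) (.leaf 0x783))) (.node 566 (.node 565 (.leaf 0xa4) (.leaf 0x7ab)) (.node 567 (.leaf 0x3b2) (.leaf 0x447)))) (.node 572 (.node 570 (.node 569 (.leaf 0x58d) (.leaf 0x9b6)) (.node 571 (.leaf 0x309) (.leaf 0x61f))) (.node 574 (.node 573 (.leaf 0x801) (.leaf 0x683)) (.node 575 (.leaf 0x684) (.leaf 0x8))))) (.node 583 (.node 579 (.node 577 (.leaf 0x288) (.node 578 (.leaf 0x11c) (.leaf 0x3c1))) (.node 581 (.node 580 (.leaf 0x74a) (.leaf 0x320)) (.node 582 (.leaf 0x11) (.leaf 0x54d)))) (.node 587 (.node 585 (.node 584 (.leaf 0x2aa) (.leaf 0x11b)) (.node 586 (.leaf 0x30d) (.leaf 0x101))) (.node 589 (.node 588 (.leaf 0x827) (.leaf 0x889)) (.node 590 (.leaf 0x2b7) (.leaf 0x1cc))))))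

def tCls_21 : Store := (.node 605 (.node 598 (.node 594 (.node 592 (.leaf 0x9e) (.node 593 (.leaf 0x93c) (.leaf 0x49f))) (.node 596 (.node 595 (.leaf 0x307) (.leaf 0x2a3)) (.node 597 (.leaf 0x38a) (.leaf 0x2c7)))) (.node 601 (.node 599 (.leaf 0x283) (.node 600 (.leaf 0x78f) (.leaf 0x15))) (.node 603 (.node 602 (.leaf 0x1b7) (.leaf 0x85)) (.node 604 (.leaf 0x105) (.leaf 0x0))))) (.node 612 (.node 608 (.node 606 (.leaf 0xa41) (.node 607 (.leaf 0x247) (.leaf 0x83a))) (.node 610 (.node 609 (.leaf 0x499) (.leaf 0x9b4)) (.node 611 (.leaf 0x606) (.leaf 0x9b1)))) (.node 616 (.node 614 (.node 613 (.leaf 0x339) (.leaf 0x98)) (.node 615 (.leaf 0x1cf) (.leaf 0x3c3))) (.node 618 (.node 617 (.leaf 0x321) (.leaf 0x7a2)) (.node 619 (.leaf 0x327) (.leaf 0x816))))))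

def tCls_22 : Store := (.node 635 (.node 627 (.node 623 (.node 621 (.leaf 0x33c) (.node 622 (.leaf 0x23e) (.leaf 0x1d))) (.node 625 (.node 624 (.leaf 0x342) (.leaf 0x782)) (.node 626 (.leaf 0xae) (.leaf 0x7c9)))) (.node 631 (.node 629 (.node 628 (.leaf 0x5bb) (.leaf 0x83e)) (.node 630 (.leaf 0xf) (.leaf 0x205))) (.node 633 (.node 632 (.leaf 0x59a) (.leaf 0x28a)) (.node 634 (.leaf 0x422) (.leaf 0x182))))) (.node 642 (.node 638 (.node 636 (.leaf 0x2a0) (.node 637 (.leaf 0x114) (.leaf 0x42))) (.node 640 (.node 639 (.leaf 0x127) (.leaf 0x6c3)) (.node 641 (.leaf 0x3ba) (.leaf 0x804)))) (.node 646 (.node 644 (.node 643 (.leaf 0x23a) (.leaf 0x6cf)) (.node 645 (.leaf 0x340) (.leaf 0x686))) (.node 648 (.node 647 (.leaf 0x234) (.leaf 0x3b4)) (.node 649 (.leaf 0x7cc) (.leaf 0x2ac))))))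

def tCls_23 : Store := (.node 664 (.node 657 (.node 653 (.node 651 (.leaf 0x3a0) (.node 652 (.leaf 0x5af) (.leaf 0x6b3))) (.node 655 (.node 654 (.leaf 0x228) (.leaf 0x3b8)) (.node 656 (.leaf 0x62f) (.leaf 0x13f)))) (.node 660 (.node 658 (.leaf 0x139) (.node 659 (.leaf 0x14d) (.leaf 0xbf))) (.node 662 (.node 661 (.leaf 0x293) (.leaf 0x838)) (.node 663 (.leaf 0x914) (.leaf 0x3a9))))) (.node 671 (.node 667 (.node 665 (.leaf 0x8af) (.node 666 (.leaf 0x3) (.leaf 0x5ce))) (.node 669 (.node 668 (.leaf 0x1c1) (.leaf 0x89f)) (.node 670 (.leaf 0x78b) (.leaf 0xcd)))) (.node 675 (.node 673 (.node 672 (.leaf 0x5cb) (.leaf 0x641)) (.node 674 (.leaf 0x607) (.leaf 0x826))) (.node 677 (.node 676 (.leaf 0x60f) (.leaf 0x7c1)) (.node 678 (.leaf 0x63a) (.leaf 0x63f))))))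

def tCls_24 : Store := (.node 694 (.node 686 (.node 682 (.node 680 (.leaf 0x536) (.node 681 (.leaf 0x64d) (.leaf 0x344))) (.node 684 (.node 683 (.leaf 0x714) (.leaf 0x727)) (.node 685 (.leaf 0x6a7) (.leaf 0x2a6)))) (.node 690 (.node 688 (.node 687 (.leaf 0x19b) (.leaf 0x5b9)) (.node 689 (.leaf 0x4b9) (.leaf 0x8c2))) (.node 692 (.node 691 (.leaf 0x68c) (.leaf 0xc3)) (.node 693 (.leaf 0x8ae) (.leaf 0x80))))) (.node 701 (.node 697 (.node 695 (.leaf 0x583) (.node 696 (.leaf 0x22b) (.leaf 0x6b8))) (.node 699 (.node 698 (.leaf 0x682) (.leaf 0x54c)) (.node 700 (.leaf 0x615) (.leaf 0x993)))) (.node 705 (.node 703 (.node 702 (.leaf 0x292) (.leaf 0x21a)) (.node 704 (.leaf 0x23b) (.leaf 0x108))) (.node 707 (.node 706 (.leaf 0x72a) (.leaf 0x4ae)) (.node 708 (.leaf 0x3b3) (.leaf 0x1a9))))))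

def tCls_25 : Store := (.node 723 (.node 716 (.node 712 (.node 710 (.leaf 0x601) (.node 711 (.leaf 0x703) (.leaf 0x723))) (.node 714 (.node 713 (.leaf 0x240) (.leaf 0x639)) (.node 715 (.leaf 0x5a7) (.leaf 0x603)))) (.node 719 (.node 717 (.leaf 0x109) (.node 718 (.leaf 0x93) (.leaf 0x2c1))) (.node 721 (.node 720 (.leaf 0x99f) (.leaf 0x94d)) (.node 722 (.leaf 0x720) (.leaf 0xa20))))) (.node 730 (.node 726 (.node 724 (.leaf 0x100) (.node 725 (.leaf 0x300) (.leaf 0x70d))) (.node 728 (.node 727 (.leaf 0x927) (.leaf 0x707)) (.node 729 (.leaf 0x6c0) (.leaf 0x2b5)))) (.node 734 (.node 732 (.node 731 (.leaf 0x1f) (.leaf 0x802)) (.node 733 (.leaf 0x82c) (.leaf 0x6ce))) (.node 736 (.node 735 (.leaf 0x650) (.leaf 0x6b9)) (.node 737 (.leaf 0xb6) (.leaf 0x193))))))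

def tCls_26 : Store := (.node 753 (.node 745 (.node 741 (.node 739 (.leaf 0x6bf) (.node 740 (.leaf 0xbb) (.leaf 0x69f))) (.node 743 (.node 742 (.leaf 0x5c2) (.leaf 0x9b5)) (.node 744 (.leaf 0x36) (.leaf 0x631)))) (.node 749 (.node 747 (.node 746 (.leaf 0xa95) (.leaf 0x841)) (.node 748 (.leaf 0x226) (.leaf 0x6a2))) (.node 751 (.node 750 (.leaf 0x4d0) (.leaf 0x888)) (.node 752 (.leaf 0xb8) (.leaf 0x722))))) (.node 760 (.node 756 (.node 754 (.leaf 0x582) (.node 755 (.leaf 0xa3) (.leaf 0x421))) (.node 758 (.node 757 (.leaf 0x404) (.leaf 0x346)) (.node 759 (.leaf 0x392) (.leaf 0x886)))) (.node 764 (.node 762 (.node 761 (.leaf 0x1ba) (.leaf 0x135)) (.node 763 (.leaf 0x987) (.leaf 0x9ba))) (.node 766 (.node 765 (.leaf 0x32) (.leaf 0x611)) (.node 767 (.leaf 0x123) (.leaf 0xa2a))))))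

def tCls_27 : Store := (.node 782 (.node 775 (.node 771 (.node 769 (.leaf 0x8b1) (.node 770 (.leaf 0x3c) (.leaf 0xad))) (.node 773 (.node 772 (.leaf 0x734) (.leaf 0x140)) (.node 774 (.leaf 0x6b6) (.leaf 0x2a7)))) (.node 778 (.node 776 (.leaf 0x84a) (.node 777 (.leaf 0x74b) (.leaf 0x289))) (.node 780 (.node 779 (.leaf 0x79c) (.leaf 0x203)) (.node 781 (.leaf 0x647) (.leaf 0x398))))) (.node 789 (.node 785 (.node 783 (.leaf 0x73a) (.node 784 (.leaf 0x735) (.leaf 0x80d))) (.node 787 (.node 786 (.leaf 0x626) (.leaf 0x299)) (.node 788 (.leaf 0x521) (.leaf 0x19e)))) (.node 793 (.node 791 (.node 790 (.leaf 0x21d) (.leaf 0x187)) (.node 792 (.leaf 0x786) (.leaf 0x7bb))) (.node 795 (.node 794 (.leaf 0x282) (.leaf 0xa46)) (.node 796 (.leaf 0x28e) (.leaf 0x280))))))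

def tCls_28 : Store := (.node 812 (.node 804 (.node 800 (.node 798 (.leaf 0x5b8) (.node 799 (.leaf 0x713) (.leaf 0xaa))) (.node 802 (.node 801 (.leaf 0x2be) (.leaf 0x9b)) (.node 803 (.leaf 0x638) (.leaf 0x33e)))) (.node 808 (.node 806 (.node 805 (.leaf 0xc6) (.leaf 0xbe)) (.node 807 (.leaf 0x6b7) (.leaf 0x881))) (.node 810 (.node 809 (.leaf 0x2bb) (.leaf 0x2ab)) (.node 811 (.leaf 0x10b) (.leaf 0x685))))) (.node 819 (.node 815 (.node 813 (.leaf 0xa3f) (.node 814 (.leaf 0x5ca) (.leaf 0x5c4))) (.node 817 (.node 816 (.leaf 0x700) (.leaf 0x2b6)) (.node 818 (.leaf 0x91d) (.leaf 0xce)))) (.node 823 (.node 821 (.node 820 (.leaf 0x30f) (.leaf 0x524)) (.node 822 (.leaf 0x3c4) (.leaf 0x24d))) (.node 825 (.node 824 (.leaf 0x492) (.leaf 0x32d)) (.node 826 (.leaf 0x746) (.leaf 0x7ae))))))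

def tCls_29 : Store := (.node 841 (.node 834 (.node 830 (.node 828 (.leaf 0x381) (.node 829 (.leaf 0xb1) (.leaf 0xa2e))) (.node 832 (.node 831 (.leaf 0x429) (.leaf 0x424)) (.node 833 (.leaf 0x94c) (.leaf 0x350)))) (.node 837 (.node 835 (.leaf 0x749) (.node 836 (.leaf 0x3bc) (.leaf 0xa23))) (.node 839 (.node 838 (.leaf 0x341) (.leaf 0x58a)) (.node 840 (.leaf 0x143) (.leaf 0x644))))) (.node 848 (.node 844 (.node 842 (.leaf 0x19) (.node 843 (.leaf 0x6c1) (.leaf 0x5a6))) (.node 846 (.node 845 (.leaf 0x198) (.leaf 0xb7)) (.node 847 (.leaf 0x6a4) (.leaf 0x28f)))) (.node 852 (.node 850 (.node 849 (.leaf 0x8a6) (.leaf 0x2b)) (.node 851 (.leaf 0x7a4) (.leaf 0x608))) (.node 854 (.node 853 (.leaf 0xc7) (.leaf 0x21)) (.node 855 (.leaf 0x31) (.leaf 0x413))))))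

def tCls_30 : Store := (.node 871 (.node 863 (.node 859 (.node 857 (.leaf 0x1bb) (.node 858 (.leaf 0x5b1) (.leaf 0x5c7))) (.node 861 (.node 860 (.leaf 0x29a) (.leaf 0x31f)) (.node 862 (.leaf 0x29) (.leaf 0x386)))) (.node 867 (.node 865 (.node 864 (.leaf 0x64a) (.leaf 0x3c8)) (.node 866 (.leaf 0x248) (.leaf 0x1c7))) (.node 869 (.node 868 (.leaf 0xa3b) (.leaf 0x88)) (.node 870 (.leaf 0x4e) (.leaf 0x9cd))))) (.node 878 (.node 874 (.node 872 (.leaf 0x1bf) (.node 873 (.leaf 0x748) (.leaf 0x118))) (.node 876 (.node 875 (.leaf 0x8a1) (.leaf 0xa6)) (.node 877 (.leaf 0x822) (.leaf 0x249)))) (.node 882 (.node 880 (.node 879 (.leaf 0x13) (.leaf 0x338)) (.node 881 (.leaf 0x3bf) (.leaf 0x8b8))) (.node 884 (.node 883 (.leaf 0x12a) (.leaf 0x809)) (.node 885 (.leaf 0x180) (.leaf 0x7c6))))))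

def tCls_31 : Store := (.node 901 (.node 893 (.node 889 (.node 887 (.leaf 0x726) (.node 888 (.leaf 0x3ae) (.leaf 0x591))) (.node 891 (.node 890 (.leaf 0xc1) (.leaf 0x29d)) (.node 892 (.leaf 0x98b) (.leaf 0x794)))) (.node 897 (.node 895 (.node 894 (.leaf 0x885) (.leaf 0x818)) (.node 896 (.leaf 0xa1d) (.leaf 0x194))) (.node 899 (.node 898 (.leaf 0x110) (.leaf 0x3b6)) (.node 900 (.leaf 0x5d0) (.leaf 0x241))))) (.node 908 (.node 904 (.node 902 (.leaf 0x899) (.node 903 (.leaf 0x819) (.leaf 0xb9))) (.node 906 (.node 905 (.leaf 0x10f) (.leaf 0x642)) (.node 907 (.leaf 0x520) (.leaf 0x405)))) (.node 912 (.node 910 (.node 909 (.leaf 0x62e) (.leaf 0x5c8)) (.node 911 (.leaf 0x60b) (.leaf 0x9c4))) (.node 914 (.node 913 (.leaf 0x3a2) (.leaf 0x295)) (.node 915 (.leaf 0x2b1) (.leaf 0x622))))))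

def tCls_32 : Store := (.node 931 (.node 923 (.node 919 (.node 917 (.leaf 0x832) (.node 918 (.leaf 0x88f) (.leaf 0x1ae))) (.node 921 (.node 920 (.leaf 0x3b9) (.leaf 0x495)) (.node 922 (.leaf 0x612) (.leaf 0x901)))) (.node 927 (.node 925 (.node 924 (.leaf 0x10d) (.leaf 0x211)) (.node 926 (.leaf 0x9a2) (.leaf 0x593))) (.node 929 (.node 928 (.leaf 0x7be) (.leaf 0x323)) (.node 930 (.leaf 0x22a) (.leaf 0x18d))))) (.node 938 (.node 934 (.node 932 (.leaf 0xa37) (.node 933 (.leaf 0x188) (.leaf 0x4c6))) (.node 936 (.node 935 (.leaf 0x81e) (.leaf 0x418)) (.node 937 (.leaf 0x5) (.leaf 0x19c)))) (.node 942 (.node 940 (.node 939 (.leaf 0x9a) (.leaf 0x83f)) (.node 941 (.leaf 0x788) (.leaf 0x281))) (.node 944 (.node 943 (.leaf 0x924) (.leaf 0x235)) (.node 945 (.leaf 0xc0) (.leaf 0x20c))))))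

/-- data -/
def tCls : Store := (.node 473 (.node 236 (.node 118 (.node 59 (.node 29 tCls_1 tCls_2) (.node 88 tCls_3 tCls_4)) (.node 177 (.node 147 tCls_5 tCls_6) (.node 206 tCls_7 tCls_8))) (.node 354 (.node 295 (.node 265 tCls_9 tCls_10) (.node 324 tCls_11 tCls_12)) (.node 413 (.node 383 tCls_13 tCls_14) (.node 443 tCls_15 tCls_16)))) (.node 709 (.node 591 (.node 532 (.node 502 tCls_17 tCls_18) (.node 561 tCls_19 tCls_20)) (.node 650 (.node 620 tCls_21 tCls_22) (.node 679 tCls_23 tCls_24))) (.node 827 (.node 768 (.node 738 tCls_25 tCls_26) (.node 797 tCls_27 tCls_28)) (.node 886 (.node 856 tCls_29 tCls_30) (.node 916 tCls_31 tCls_32)))))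

/-- size -/
def tClsN : ℕ := 946

/-- letter -/
def cL : ℕ := 34

end Cfsg.Agent.Co3TwoM12.GData
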