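import Cfsg.Agent.Co3Rec.Sift
import Cfsg.Agent.Co3TwoM12.CentTData

/-!
The elements of the third Conway group commuting with the involution of the first class are those
of the model of its centraliser: two fixed points and a lower bound for a class in their stabiliser.
-/

set_option autoImplicit false
set_option maxRecDepth 100000

namespace Cfsg.Agent.Co3TwoM12

open Cfsg Cfsg.Agent.Compute Cfsg.Agent.StemCert
open Cfsg.Agent.Co3Rec

/-- The word of a conjugate of the involution fixing the two points. -/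
noncomputable def t1W : List ℕ := ctx.inv [GData.cL] ++ [Co3Rec.Data.tL, GData.cL]

/-- The conjugating word of an entry. -/
noncomputable def clW (e : ℕ) : List ℕ := lvW 2 (Nat.div e 128) ++ lvW 3 (Nat.mod e 128)

/-- The word of a conjugate. -/
noncomputable def clC (e : ℕ) : List ℕ := clW e ++ (t1W ++ ctx.inv (clW e))

theorem t1W_ok : (ltB Co3Rec.Data.k t1W && Nat.blt GData.cL Co3Rec.Data.k &&
    Nat.beq (appW 9 Co3Rec.Data.codes t1W (bpN 0)) (bpN 0) &&
    Nat.beq (appW 9 Co3Rec.Data.codes t1W (bpN 1)) (bpN 1) &&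
    !(Nat.beq (bpN 0) (bpN 1))) = true := by decide +kernel

theorem cls_idx : allBelow GData.tClsN (fun i =>
    Nat.blt (Nat.div (GData.tCls.get i) 128) (lvN 2) &&
      Nat.blt (Nat.mod (GData.tCls.get i) 128) (lvN 3)) = true := by decide +kernel

theorem cls_keys : allBelow GData.tClsN (fun i =>
    ltB Co3Rec.Data.k (clC (GData.tCls.get i)) && (Nat.beq (Nat.succ i) GData.tClsN ||
      Nat.blt (keyW Co3Rec.Data.codes (clC (GData.tCls.get i)))
        (keyW Co3Rec.Data.codes (clC (GData.tCls.get (Nat.succ i)))))) = true := by decide +kernel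

theorem cls_count : GData.tClsN = 946 ∧ sufN 2 = 6531840 := by
  refine ⟨?_, ?_⟩ <;> decide +kernel

theorem tL_ltk' : ∀ s ∈ [Co3Rec.Data.tL], s < ctx.k := fun s hs => (List.mem_singleton.mp hs) ▸ tL_ltk

/-- Increasing keys give different values. -/
theorem index_eq_of_keys {N : ℕ} (wd : ℕ → List ℕ)
    (h : allBelow N (fun i => ltB Co3Rec.Data.k (wd i) && (Nat.beq (Nat.succ i) N ||
      Nat.blt (keyW Co3Rec.Data.codes (wd i)) (keyW Co3Rec.Data.codes (wd (Nat.succ i))))) = true)
    {i j : ℕ} (hi : i < N) (hj : j < N) (e : ctx.ev (wd i) = ctx.ev (wd j)) : i = j := by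
  have h' := allBelow_eq_true.mp h
  have hlt : ∀ n < N, ∀ s ∈ wd n, s < ctx.k := fun n hn => by
    have := h' n hn
    simp only [Bool.and_eq_true] at this
    exact ltB_iff.mp this.1
  have hmono : ∀ a b, a < b → b < N →
      keyW Co3Rec.Data.codes (wd a) < keyW Co3Rec.Data.codes (wd b) := by
    intro a b hab
    induction b with
    | zero => omega
    | succ b ih =>
      intro hb
      have := h' b (by omega)
      simp only [Bool.and_eq_true, Bool.or_eq_true, Nat.beq_eq, Nat.blt_eq] at this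
      rcases this.2 with h2 | h2
      · omega
      rcases Nat.lt_succ_iff_lt_or_eq.mp hab with h1 | h1
      · exact (ih h1 (by omega)).trans h2
      · exact h1 ▸ h2
  have k := ctx.key_eq (hlt i hi) (hlt j hj) e
  rcases Nat.lt_trichotomy i j with hl | he | hg
  · exact absurd k (hmono _ _ hl hj).ne
  · exact he
  · exact absurd k (hmono _ _ hg hi).ne'

/-- The elements commuting with the involution. -/
noncomputable def DT : Subgroup R := Subgroup.centralizer {tE}

theorem mem_DT {x : R} : x ∈ DT ↔ x * tE = tE * x := Subgroup.mem_centralizer_singleton_iff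

theorem C0_le_DT : C0 ≤ DT := fun _ hx => mem_DT.mpr (tE_central hx)

theorem card_DT_le : Nat.card DT ≤ 8699040 := by
  classical
  obtain ⟨hN, hS⟩ := cls_count
  have hok := t1W_ok
  simp only [Bool.and_eq_true, Nat.beq_eq, Nat.blt_eq, Bool.not_eq_true'] at hok
  obtain ⟨⟨⟨⟨hlt, hc⟩, h0⟩, h1⟩, h01⟩ := hok
  set c : R := ctx.gen GData.cL with hcdef
  set t1 : R := ctx.ev t1W with ht1
  have ht1' : t1 = c⁻¹ * tE * c := by
    rw [ht1, t1W, Ctx.ev_append, ctx.ev_inv (fun s hs => (List.mem_singleton.mp hs) ▸ hc),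
      mul_assoc]
    simp only [Ctx.ev_cons, Ctx.ev_nil, mul_one]
    rfl
  let D' : Subgroup R := Subgroup.centralizer {t1}
  have memD : ∀ {y : R}, y ∈ D' ↔ y * t1 = t1 * y := fun {y} => Subgroup.mem_centralizer_singleton_iff
  have hDD : Nat.card DT ≤ Nat.card D' := by
    refine Nat.card_le_card_of_injective (fun y : DT => (⟨c⁻¹ * (y : R) * c, memD.mpr ?_⟩ : D'))
      fun y z e => Subtype.ext (mul_left_cancel (mul_right_cancel (congrArg Subtype.val e)))
    rw [ht1']
    calc c⁻¹ * (y : R) * c * (c⁻¹ * tE * c) = c⁻¹ * ((y : R) * tE) * c := by group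
      _ = c⁻¹ * (tE * (y : R)) * c := by rw [mem_DT.mp y.2]
      _ = _ := by group
  have hne : bq 0 ≠ bq 1 := fun e => by
    have := congrArg (fun p : Fin 276 => (p : ℕ)) e
    simp only [bq_val (show 0 < 8 by norm_num), bq_val (show 1 < 8 by norm_num)] at this
    rw [this, Nat.beq_refl] at h01
    exact Bool.noConfusion h01
  let F := {p : Fin 276 // Co3Out.ι t1 p = p}
  have hF : Nat.card F = 36 := by
    show fx t1 = 36
    have := fx_conj c⁻¹ tE
    rw [inv_inv] at this
    rw [ht1', this, fx_special.1]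
  have hfix : ∀ j, j < 2 → Co3Out.ι t1 (bq j) = bq j := fun j hj => Fin.ext (by
    rw [ht1, show ctx.ev t1W = evalW ctx.gen t1W from rfl, appW_spec ctx.coded _ (ltB_iff.mp hlt),
      bq_val (by omega)]
    interval_cases j
    exacts [h0, h1])
  have hmap : ∀ (y : D') (p : Fin 276), Co3Out.ι t1 p = p →
      Co3Out.ι t1 (Co3Out.ι (y : R) p) = Co3Out.ι (y : R) p := fun y p hp => by
    rw [← Equiv.Perm.mul_apply, ← map_mul, ← memD.mp y.2, map_mul, Equiv.Perm.mul_apply, hp]
  let S2 : Subgroup D' := (StabL 2).subgroupOf D'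
  let f : D' → {q : F × F // q.1 ≠ q.2} := fun y =>
    ⟨(⟨Co3Out.ι (y : R) (bq 0), hmap y _ (hfix 0 (by norm_num))⟩,
      ⟨Co3Out.ι (y : R) (bq 1), hmap y _ (hfix 1 (by norm_num))⟩),
      fun e => hne ((Co3Out.ι (y : R)).injective (congrArg Subtype.val e))⟩
  have hidx : Nat.card (D' ⧸ S2) ≤ 1260 := by
    have hcard : Nat.card {q : F × F // q.1 ≠ q.2} = 1260 := by
      have hFc : Fintype.card F = 36 := by rw [← Nat.card_eq_fintype_card]; exact hF
      rw [Nat.card_eq_fintype_card, Fintype.card_subtype_compl, Fintype.card_prod, hFc]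
      have : Fintype.card {q : F × F // q.1 = q.2} = 36 := by
        rw [← hFc]
        exact Fintype.card_congr ⟨fun q => q.1.1, fun p => ⟨(p, p), rfl⟩,
          fun ⟨⟨a, b⟩, (e : a = b)⟩ => by subst e; rfl, fun p => rfl⟩
      rw [this]
    rw [← hcard]
    refine Nat.card_le_card_of_injective (fun q => f q.out) fun q q' e => ?_
    rw [← QuotientGroup.out_eq' q, ← QuotientGroup.out_eq' q']
    refine QuotientGroup.eq.mpr (Subgroup.mem_subgroupOf.mpr fun j hj => ?_)
    have e0 : Co3Out.ι (q.out : R) (bq j) = Co3Out.ι (q'.out : R) (bq j) := by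
      interval_cases j
      · exact congrArg (fun z : {q : F × F // q.1 ≠ q.2} => (z.1.1 : Fin 276)) e
      · exact congrArg (fun z : {q : F × F // q.1 ≠ q.2} => (z.1.2 : Fin 276)) e
    show Co3Out.ι ((q.out : R)⁻¹ * (q'.out : R)) (bq j) = bq j
    rw [map_mul, map_inv, Equiv.Perm.mul_apply, ← e0, Equiv.Perm.inv_def, Equiv.symm_apply_apply]
  have hv : ∀ i < GData.tClsN, ctx.ev (clW (GData.tCls.get i)) ∈ StabL 2 ∧
      ∀ s ∈ clW (GData.tCls.get i), s < ctx.k := by
    intro i hi
    have h := allBelow_eq_true.mp cls_idx i hi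
    simp only [Bool.and_eq_true, Nat.blt_eq] at h
    obtain ⟨m2, l2⟩ := lv_mem (show 2 < 8 by norm_num) h.1
    obtain ⟨m3, l3⟩ := lv_mem (show 3 < 8 by norm_num) h.2
    refine ⟨?_, fun s hs => ?_⟩
    · rw [clW, Ctx.ev_append]
      exact mul_mem m2 fun j hj => m3 j (by omega)
    · rcases List.mem_append.mp hs with hs | hs
      exacts [l2 s hs, l3 s hs]
  have hS2 : 946 * Nat.card S2 ≤ 6531840 := by
    rw [← hN, ← hS, ← card_StabL (show 2 ≤ 8 by norm_num), ← Nat.card_fin GData.tClsN, ← Nat.card_prod]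
    refine Nat.card_le_card_of_injective (fun p : Fin GData.tClsN × S2 =>
      (⟨ctx.ev (clW (GData.tCls.get p.1)) * ((p.2 : D') : R),
        mul_mem (hv _ p.1.2).1 (Subgroup.mem_subgroupOf.mp p.2.2)⟩ : StabL 2)) fun p p' e => ?_
    have e1 : ctx.ev (clW (GData.tCls.get p.1)) * ((p.2 : D') : R) =
        ctx.ev (clW (GData.tCls.get p'.1)) * ((p'.2 : D') : R) := congrArg Subtype.val e
    have hcj : ∀ (n : Fin GData.tClsN), ctx.ev (clC (GData.tCls.get n)) =
        ctx.ev (clW (GData.tCls.get n)) * t1 * (ctx.ev (clW (GData.tCls.get n)))⁻¹ := fun n => by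
      rw [clC, Ctx.ev_append, Ctx.ev_append, ctx.ev_inv (hv _ n.2).2, mul_assoc]
    have hcom : ∀ (v : R) (y : D'), v * (y : R) * t1 * (v * (y : R))⁻¹ = v * t1 * v⁻¹ := fun v y => by
      rw [mul_assoc v, memD.mp y.2]; group
    have he : p.1 = p'.1 := Fin.ext (index_eq_of_keys (fun i => clC (GData.tCls.get i)) cls_keys
      p.1.2 p'.1.2 (by rw [hcj, hcj, ← hcom _ p.2.1, e1, hcom]))
    rw [he] at e1
    exact Prod.ext he (Subtype.ext (Subtype.ext (mul_left_cancel e1)))
  have hL : Nat.card D' = Nat.card (D' ⧸ S2) * Nat.card S2 := Subgroup.card_eq_card_quotient_mul_card_subgroup S2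
  have : Nat.card S2 ≤ 6904 := by omega
  calc Nat.card DT ≤ Nat.card D' := hDD
    _ ≤ 1260 * 6904 := hL ▸ Nat.mul_le_mul hidx this
    _ = 8699040 := by norm_num

theorem card_DT : Nat.card DT = 2903040 := by
  obtain ⟨k, hk⟩ := Subgroup.card_dvd_of_le C0_le_DT
  rw [card_C0] at hk
  have hle := card_DT_le
  have hR : Nat.card DT ∣ 495766656000 := by
    rw [← Co3Out.card_co3]
    exact Subgroup.card_subgroup_dvd_card _
  have hpos : 0 < Nat.card DT := Nat.card_pos
  rw [hk] at hle hR hpos ⊢
  have h3 : k < 3 := by omega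
  interval_cases k
  · simp at hpos
  · rfl
  · norm_num at hR

/-- The elements commuting with the involution lie in the model of the centraliser. -/
theorem mem_C0_of_comm {x : R} (h : x * tE = tE * x) : x ∈ C0 := by
  rw [Subgroup.eq_of_le_of_card_ge C0_le_DT (by rw [card_DT, card_C0])]
  exact mem_DT.mpr h

end Cfsg.Agent.Co3TwoM12
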