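import Cfsg.Agent.Co3Rec.Facts
import Cfsg.Agent.Co3TwoM12.Base
import Cfsg.Agent.Co3TwoM12.Data.Pairs
import Cfsg.Agent.Co3TwoM12.Data.Orbit

/-!
The common centraliser of the two involutions: a list of its 384 elements, its multiplication by the
letters, and its maximality under an order bound for the centraliser of the first involution.
-/

set_option autoImplicit false
set_option maxRecDepth 100000

namespace Cfsg.Agent.Co3TwoM12

open Cfsg Cfsg.Agent.Compute Cfsg.Agent.StemCert
open Cfsg.Agent.Co3Rec (R Ctx ltB keyW ltB_iff unW card_class_mul_centralizer)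

/-- Listed elements with increasing keys are different. -/
theorem card_le_of_keys {N : ℕ} (wd : ℕ → List ℕ) (ord : ℕ → ℕ)
    (h : allBelow N (fun i => Nat.blt (ord i) N && ltB Data.k (wd (ord i)) &&
      (Nat.beq (Nat.succ i) N ||
        Nat.blt (keyW Data.codes (wd (ord i))) (keyW Data.codes (wd (ord (Nat.succ i)))))) = true)
    (S : Set R) (hS : ∀ i < N, ctx.ev (wd i) ∈ S) : N ≤ Nat.card S := by
  have h' := allBelow_eq_true.mp h
  have hord : ∀ i < N, ord i < N ∧ (∀ s ∈ wd (ord i), s < ctx.k) := fun i hi => by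
    have := h' i hi
    simp only [Bool.and_eq_true, Nat.blt_eq] at this
    exact ⟨this.1.1, ltB_iff.mp this.1.2⟩
  have hmono : ∀ a b, a < b → b < N →
      keyW Data.codes (wd (ord a)) < keyW Data.codes (wd (ord b)) := by
    intro a b hab
    induction b with
    | zero => omega
    | succ b ih =>
      intro hb
      have := h' b (by omega)
      simp only [Bool.and_eq_true, Bool.or_eq_true, Nat.beq_eq, Nat.blt_eq] at this
      rcases this.2 with h2 | h2
      · omega
      rcases Nat.lt_succ_iff_lt_or_eq.mp hab with h1 | h1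
      · exact (ih h1 (by omega)).trans h2
      · exact h1 ▸ h2
  let f : Fin N → S := fun i => ⟨ctx.ev (wd (ord i)), hS _ (hord i i.2).1⟩
  have hf : Function.Injective f := by
    intro i j e
    have k := ctx.key_eq (hord i i.2).2 (hord j j.2).2 (congrArg Subtype.val e)
    rcases Nat.lt_trichotomy (i : ℕ) j with hlt | heq | hgt
    · exact absurd k (hmono _ _ hlt j.2).ne
    · exact Fin.ext heq
    · exact absurd k (hmono _ _ hgt i.2).ne'
  simpa using Nat.card_le_card_of_injective f hf

/-- A word of the list. -/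
noncomputable abbrev dW (i : ℕ) : List ℕ := unW (Data.dW.get i)

/-- An element of the list. -/
noncomputable def dEl (i : ℕ) : R := ctx.ev (dW i)

/-- Right multiplication by a letter on the list. -/
noncomputable abbrev dStep (s i : ℕ) : ℕ := Data.dStep (Nat.add (Nat.mul s 384) i)

theorem dW_ok : allBelow 384 (fun i => ltB 6 (dW i) && Nat.blt (Data.dInv i) 384 &&
    same (dW (Data.dInv i) ++ dW i) [] &&
    allBelow 6 (fun s => Nat.blt (dStep s i) 384 && same (dW i ++ [s]) (dW (dStep s i)))) = true := by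
  decide +kernel

theorem dW_zero : dW 0 = [] := by decide +kernel

theorem letters_ok : allBelow 6 (fun s => Nat.blt (Data.ivs.getD s 0) 6 && same [s, 0] [0, s] &&
    same [s, 1] [1, s]) = true := by decide +kernel

theorem dW_lt {i : ℕ} (hi : i < 384) : ∀ s ∈ dW i, s < 6 := by
  have h := allBelow_eq_true.mp dW_ok i hi
  simp only [Bool.and_eq_true] at h
  exact ltB_iff.mp h.1.1.1

theorem dW_ltk {i : ℕ} (hi : i < 384) : ∀ s ∈ dW i, s < ctx.k := fun s hs =>
  lt_of_lt_of_le (dW_lt hi s hs) (show 6 ≤ Data.k by decide +kernel)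

theorem dEl_zero : dEl 0 = 1 := by rw [dEl, dW_zero, Ctx.ev_nil]

theorem dEl_inv {i : ℕ} (hi : i < 384) : (dEl i)⁻¹ = dEl (Data.dInv i) := by
  have h := allBelow_eq_true.mp dW_ok i hi
  simp only [Bool.and_eq_true] at h
  have e := eq_of_same h.1.2
  rw [Ctx.ev_append, Ctx.ev_nil] at e
  exact inv_eq_of_mul_eq_one_left e

theorem dEl_mul_gen {i s : ℕ} (hi : i < 384) (hs : s < 6) :
    dStep s i < 384 ∧ dEl i * ctx.gen s = dEl (dStep s i) := by
  have h := allBelow_eq_true.mp dW_ok i hi
  simp only [Bool.and_eq_true] at h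
  have h2 := allBelow_eq_true.mp h.2 s hs
  simp only [Bool.and_eq_true, Nat.blt_eq] at h2
  refine ⟨h2.1, ?_⟩
  have e := eq_of_same h2.2
  rwa [Ctx.ev_append, ctx.ev_single] at e

/-- The index of the product with a word. -/
noncomputable def dApp (i : ℕ) (l : List ℕ) : ℕ :=
  List.rec (motive := fun _ => ℕ → ℕ) id (fun s _ r i => forceN (dStep s i) r) l i

theorem dApp_spec : ∀ (l : List ℕ), (∀ s ∈ l, s < 6) → ∀ i < 384,
    dApp i l < 384 ∧ dEl i * ctx.ev l = dEl (dApp i l)
  | [], _, i, hi => ⟨hi, by rw [Ctx.ev_nil, mul_one]; rfl⟩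
  | s :: l, h, i, hi => by
    obtain ⟨h1, h2⟩ := dEl_mul_gen hi (h s (by simp))
    obtain ⟨h3, h4⟩ := dApp_spec l (fun r hr => h r (List.mem_cons_of_mem _ hr)) _ h1
    have e : dApp i (s :: l) = dApp (dStep s i) l := by
      show forceN (dStep s i) _ = _
      rw [forceN_eq]
      rfl
    rw [e, Ctx.ev_cons, ← mul_assoc, h2]
    exact ⟨h3, h4⟩

/-- The product on the list. -/
noncomputable def dMul (i j : ℕ) : ℕ := dApp i (dW j)

theorem dMul_spec {i j : ℕ} (hi : i < 384) (hj : j < 384) :
    dMul i j < 384 ∧ dEl i * dEl j = dEl (dMul i j) := dApp_spec _ (dW_lt hj) i hi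

theorem dEl_comm {i : ℕ} (hi : i < 384) :
    dEl i * Co3Rec.bE = Co3Rec.bE * dEl i ∧ dEl i * Co3Rec.tE = Co3Rec.tE * dEl i := by
  have key : ∀ l : List ℕ, (∀ s ∈ l, s < 6) → ctx.ev l * ctx.gen 0 = ctx.gen 0 * ctx.ev l ∧
      ctx.ev l * ctx.gen 1 = ctx.gen 1 * ctx.ev l := by
    intro l
    induction l with
    | nil => intro _; simp
    | cons s l ih =>
      intro h
      obtain ⟨h1, h2⟩ := ih fun r hr => h r (List.mem_cons_of_mem _ hr)
      have hs := allBelow_eq_true.mp letters_ok s (h s (by simp))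
      simp only [Bool.and_eq_true] at hs
      have e1 := eq_of_same hs.1.2
      have e2 := eq_of_same hs.2
      simp only [Ctx.ev_cons, Ctx.ev_nil, mul_one] at e1 e2
      rw [Ctx.ev_cons]
      exact ⟨(Commute.mul_left e1 h1).eq, (Commute.mul_left e2 h2).eq⟩
  have := key _ (dW_lt hi)
  rw [gen_zero, gen_one] at this
  exact this

theorem dOrd_ok : allBelow 384 (fun i => Nat.blt (Data.dOrd i) 384 &&
    ltB Data.k (dW (Data.dOrd i)) && (Nat.beq (Nat.succ i) 384 ||
      Nat.blt (keyW Data.codes (dW (Data.dOrd i))) (keyW Data.codes (dW (Data.dOrd (Nat.succ i)))))) =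
    true := by decide +kernel

theorem dEl_inj {i j : ℕ} (hi : i < 384) (hj : j < 384) (h : dEl i = dEl j) : i = j := by
  classical
  by_contra hne
  let S : Set R := (fun m : Fin 384 => dEl m) '' {m | (m : ℕ) ≠ j}
  have hle : 384 ≤ Nat.card S := card_le_of_keys dW Data.dOrd dOrd_ok S fun m hm => by
    by_cases e : m = j
    · exact ⟨⟨i, hi⟩, hne, by show dEl i = dEl m; rw [e, h]⟩
    · exact ⟨⟨m, hm⟩, e, rfl⟩
  have h2 : Nat.card S ≤ 383 := by
    refine (Nat.card_le_card_of_surjective
      (fun m : {m : Fin 384 // (m : ℕ) ≠ j} => (⟨dEl m.1, m.1, m.2, rfl⟩ : S)) ?_).trans ?_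
    · rintro ⟨_, m, hm, rfl⟩
      exact ⟨⟨m, hm⟩, rfl⟩
    · rw [Nat.card_eq_fintype_card]
      have : Fintype.card {m : Fin 384 // (m : ℕ) ≠ j} < Fintype.card (Fin 384) :=
        Fintype.card_subtype_lt (x := ⟨j, hj⟩) (by simp)
      rw [Fintype.card_fin] at this
      omega
  omega

theorem zW_ok : allBelow 495 (fun i => ltB 9 (unW (Data.zW.get i)) && Nat.blt (Data.zOrd i) 495 &&
    ltB Data.k (unW (Data.zW.get (Data.zOrd i)) ++ 1 :: ctx.inv (unW (Data.zW.get (Data.zOrd i)))) &&
    (Nat.beq (Nat.succ i) 495 ||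
      Nat.blt (keyW Data.codes (unW (Data.zW.get (Data.zOrd i)) ++ 1 :: ctx.inv (unW (Data.zW.get (Data.zOrd i)))))
        (keyW Data.codes (unW (Data.zW.get (Data.zOrd (Nat.succ i))) ++
          1 :: ctx.inv (unW (Data.zW.get (Data.zOrd (Nat.succ i)))))))) = true := by decide +kernel

theorem b_letters_ok : allBelow 9 (fun s => same [s, 0] [0, s]) = true := by decide +kernel

/-- A word in the letters of the centraliser centralises the first involution. -/
theorem ev_comm_b : ∀ {l : List ℕ}, (∀ s ∈ l, s < 9) →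
    ctx.ev l * Co3Rec.bE = Co3Rec.bE * ctx.ev l := by
  intro l
  induction l with
  | nil => intro _; simp
  | cons s l ih =>
    intro h
    have e1 := eq_of_same (allBelow_eq_true.mp b_letters_ok s (h s (by simp)))
    simp only [Ctx.ev_cons, Ctx.ev_nil, mul_one, gen_zero] at e1
    rw [Ctx.ev_cons]
    exact (Commute.mul_left e1 (ih fun r hr => h r (List.mem_cons_of_mem _ hr))).eq

/-- The common centraliser is the list. -/
theorem exists_dEl (hcard : Nat.card (Subgroup.centralizer ({Co3Rec.bE} : Set R)) = 190080) {x : R}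
    (h1 : x * Co3Rec.bE = Co3Rec.bE * x) (h2 : x * Co3Rec.tE = Co3Rec.tE * x) :
    ∃ i < 384, x = dEl i := by
  classical
  set C := Subgroup.centralizer ({Co3Rec.bE} : Set R)
  have hz : Co3Rec.tE ∈ C := Subgroup.mem_centralizer_singleton_iff.mpr (by
    have := eq_of_same (a := [1, 0]) (b := [0, 1]) (by decide +kernel)
    simpa [Ctx.ev_cons, gen_zero, gen_one] using this)
  let zc : C := ⟨_, hz⟩
  have hcls : 495 ≤ Nat.card {g : C // IsConj zc g} := by
    let S : Set R := {y | ∃ g : C, IsConj zc g ∧ (g : R) = y}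
    have h := card_le_of_keys (fun i => unW (Data.zW.get i) ++ 1 :: ctx.inv (unW (Data.zW.get i)))
      Data.zOrd (N := 495) (by
        refine allBelow_eq_true.mpr fun i hi => ?_
        have h := allBelow_eq_true.mp zW_ok i hi
        simp only [Bool.and_eq_true] at h ⊢
        exact ⟨⟨h.1.1.2, h.1.2⟩, h.2⟩) S (fun i hi => by
        have hw := allBelow_eq_true.mp zW_ok i hi
        simp only [Bool.and_eq_true] at hw
        have hl := ltB_iff.mp hw.1.1.1
        let v : C := ⟨_, Subgroup.mem_centralizer_singleton_iff.mpr (ev_comm_b hl)⟩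
        refine ⟨v * zc * v⁻¹, isConj_iff.mpr ⟨v, rfl⟩, ?_⟩
        rw [Ctx.ev_append, Ctx.ev_cons, ctx.ev_inv (fun s hs => lt_of_lt_of_le (hl s hs)
          (show 9 ≤ Data.k by decide +kernel)), gen_one]
        simp [v, zc, mul_assoc])
    refine h.trans ?_
    refine Nat.card_le_card_of_surjective
      (fun g : {g : C // IsConj zc g} => (⟨g.1, g.1, g.2, rfl⟩ : S)) ?_
    rintro ⟨_, g, hg, rfl⟩
    exact ⟨⟨g, hg⟩, rfl⟩
  have h3 := card_class_mul_centralizer zc
  rw [hcard] at h3
  have h4 := Nat.mul_le_mul_right (Nat.card (Subgroup.centralizer ({zc} : Set C))) hcls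
  let f : Fin 384 → Subgroup.centralizer ({zc} : Set C) := fun i =>
    ⟨⟨dEl i, Subgroup.mem_centralizer_singleton_iff.mpr (dEl_comm i.2).1⟩,
      Subgroup.mem_centralizer_singleton_iff.mpr (Subtype.ext (dEl_comm i.2).2)⟩
  have hf : Function.Injective f := fun i j e => Fin.ext (dEl_inj i.2 j.2
    (congrArg (fun w : Subgroup.centralizer ({zc} : Set C) => ((w : C) : R)) e))
  have hb : Function.Bijective f := (Nat.bijective_iff_injective_and_card f).mpr ⟨hf, by
    have := Nat.card_le_card_of_injective f hf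
    simp only [Nat.card_fin] at this ⊢
    omega⟩
  obtain ⟨i, hi⟩ := hb.2 ⟨⟨x, Subgroup.mem_centralizer_singleton_iff.mpr h1⟩,
    Subgroup.mem_centralizer_singleton_iff.mpr (Subtype.ext h2)⟩
  exact ⟨i, i.2, (congrArg (fun w : Subgroup.centralizer ({zc} : Set C) => ((w : C) : R)) hi).symm⟩

end Cfsg.Agent.Co3TwoM12
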