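import Mathlib.Data.Nat.Bitwise
import Mathlib.Data.Finset.Card
import Mathlib.Data.Finset.Range
import Cfsg.Agent.StemCert.Bound

/-!
A search certificate bounding the subsets of at most `256` indices closed under a product and
avoiding given ones: sets are bit masks, a node prunes by the closure rules and splits on one index.
-/

set_option autoImplicit false

namespace Cfsg.Agent.Co3TwoM12

open Cfsg.Agent.StemCert

/-- A certificate: at every node a number of pruning passes, then a split or the end. -/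
inductive CTree where
  | leaf (p : ℕ)
  | br (p a : ℕ) (l r : CTree)

/-- The bit of a mask. -/
noncomputable def bitB (cur b : ℕ) : Bool := Nat.beq (Nat.mod (Nat.shiftRight cur b) 2) 1

theorem bitB_iff {cur b : ℕ} : bitB cur b = true ↔ cur.testBit b = true := by
  rw [bitB, Nat.beq_eq, Nat.testBit_eq_decide_div_mod_eq, ← Nat.shiftRight_eq_div_pow, decide_eq_true_eq]
  exact Iff.rfl

/-- Entry of a table of rows of bytes. -/
noncomputable def byteAt (row b : ℕ) : ℕ := Nat.mod (Nat.shiftRight row (Nat.mul 8 b)) 256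

/-- Whether an index survives a pass. -/
noncomputable def keepB (Q : ℕ → ℕ → ℕ) (Cm : ℕ → ℕ → Bool) (gs : List ℕ) (cur b : ℕ) : Bool :=
  bitB cur b && bitB cur (Q b b) && allB (fun g => bitB cur (Q g b) && Cm g b) gs

/-- One pass over the first `n` indices. -/
noncomputable def passN (Q : ℕ → ℕ → ℕ) (Cm : ℕ → ℕ → Bool) (gs : List ℕ) (cur n : ℕ) : ℕ :=
  Nat.rec (motive := fun _ => ℕ) 0
    (fun b r => cond (keepB Q Cm gs cur b) (Nat.add r (Nat.shiftLeft 1 b)) r) n

theorem passN_succ (Q : ℕ → ℕ → ℕ) (Cm : ℕ → ℕ → Bool) (gs : List ℕ) (cur n : ℕ) :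
    passN Q Cm gs cur (n + 1) =
      if keepB Q Cm gs cur n = true then passN Q Cm gs cur n + 2 ^ n else passN Q Cm gs cur n := by
  show cond _ _ _ = _
  cases keepB Q Cm gs cur n
  · simp [passN]
  · simp [passN, Nat.shiftLeft_eq]

theorem passN_lt (Q : ℕ → ℕ → ℕ) (Cm : ℕ → ℕ → Bool) (gs : List ℕ) (cur : ℕ) :
    ∀ n, passN Q Cm gs cur n < 2 ^ n
  | 0 => by simp [passN]
  | n + 1 => by
    have := passN_lt Q Cm gs cur n
    rw [passN_succ, pow_succ]
    split <;> omega

theorem testBit_passN (Q : ℕ → ℕ → ℕ) (Cm : ℕ → ℕ → Bool) (gs : List ℕ) (cur : ℕ) :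
    ∀ {n b : ℕ}, b < n → keepB Q Cm gs cur b = true → (passN Q Cm gs cur n).testBit b = true
  | n + 1, b, hb, hk => by
    have hlt := passN_lt Q Cm gs cur n
    rw [passN_succ]
    rcases Nat.lt_succ_iff_lt_or_eq.mp hb with h | rfl
    · have ih := testBit_passN Q Cm gs cur h hk
      split
      · rw [add_comm, Nat.testBit_two_pow_add_gt h]; exact ih
      · exact ih
    · rw [if_pos hk, add_comm, Nat.testBit_two_pow_add_eq]
      simp [Nat.testBit_lt_two_pow hlt]

/-- Several passes. -/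
noncomputable def passes (Q : ℕ → ℕ → ℕ) (Cm : ℕ → ℕ → Bool) (gs : List ℕ) : ℕ → ℕ → ℕ :=
  fun p => Nat.rec (motive := fun _ => ℕ → ℕ) (fun cur => cur)
    (fun _ rec cur => forceN (passN Q Cm gs cur 256) rec) p

/-- The number of set bits. -/
noncomputable def cntB (cur : ℕ) : ℕ :=
  Nat.rec (motive := fun _ => ℕ) 0 (fun b r => cond (bitB cur b) (Nat.succ r) r) 256

theorem cntB_eq (cur : ℕ) : ∀ n : ℕ,
    (Nat.rec (motive := fun _ => ℕ) 0 (fun b r => cond (bitB cur b) (Nat.succ r) r) n : ℕ) =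
      ((Finset.range n).filter fun b => bitB cur b = true).card
  | 0 => by simp
  | n + 1 => by
    rw [Finset.range_add_one, Finset.filter_insert]
    show cond _ _ _ = _
    rw [cntB_eq cur n]
    cases h : bitB cur n
    · simp
    · simp [Finset.card_insert_of_notMem]

/-- The check of a certificate. -/
noncomputable def checkT (Q : ℕ → ℕ → ℕ) (Cm : ℕ → ℕ → Bool) (k : ℕ) (t : CTree) : List ℕ → ℕ → Bool :=
  CTree.rec (motive := fun _ => List ℕ → ℕ → Bool)
    (fun p gs cur => forceN (passes Q Cm gs p cur) fun c =>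
      Nat.ble (cntB c) k || gs.any fun g => !(bitB c g))
    (fun p a _ _ cl cr gs cur => forceN (passes Q Cm gs p cur) fun c =>
      cl (a :: gs) c && cr gs (Nat.xor c (Nat.shiftLeft 1 a))) t

/-- The sets in question. -/
structure Closed (Q : ℕ → ℕ → ℕ) (Cm : ℕ → ℕ → Bool) (T : Finset ℕ) : Prop where
  lt : ∀ a ∈ T, a < 256
  mul : ∀ a ∈ T, ∀ b ∈ T, Q a b ∈ T
  comm : ∀ a ∈ T, ∀ b ∈ T, Cm a b = true

theorem forceN_eq' {α : Type} (n : ℕ) (k : ℕ → α) : forceN n k = k n := by cases n <;> rfl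

theorem allB_intro {α : Type} {f : α → Bool} : ∀ {l : List α}, (∀ x ∈ l, f x = true) → allB f l = true
  | [], _ => rfl
  | a :: l, h => by
    show (f a && allB f l) = true
    rw [h a (by simp), allB_intro fun x hx => h x (List.mem_cons_of_mem _ hx)]
    rfl

theorem passes_sound {Q : ℕ → ℕ → ℕ} {Cm : ℕ → ℕ → Bool} {T : Finset ℕ} (hT : Closed Q Cm T)
    {gs : List ℕ} (hgs : ∀ g ∈ gs, g ∈ T) : ∀ (p cur : ℕ), (∀ b ∈ T, bitB cur b = true) →
      ∀ b ∈ T, bitB (passes Q Cm gs p cur) b = true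
  | 0, cur, h => h
  | p + 1, cur, h => by
    show ∀ b ∈ T, bitB (forceN (passN Q Cm gs cur 256) (passes Q Cm gs p)) b = true
    rw [forceN_eq']
    refine passes_sound hT hgs p _ fun b hb => bitB_iff.mpr (testBit_passN _ _ _ _ (hT.lt b hb) ?_)
    simp only [keepB, Bool.and_eq_true]
    refine ⟨⟨h b hb, h _ (hT.mul b hb b hb)⟩, allB_intro fun g hg => ?_⟩
    rw [Bool.and_eq_true]
    exact ⟨h _ (hT.mul g (hgs g hg) b hb), hT.comm g (hgs g hg) b hb⟩

/-- A checked certificate bounds the sets. -/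
theorem card_le_of_checkT {Q : ℕ → ℕ → ℕ} {Cm : ℕ → ℕ → Bool} {k : ℕ} {T : Finset ℕ}
    (hT : Closed Q Cm T) : ∀ (t : CTree) (gs : List ℕ) (cur : ℕ), checkT Q Cm k t gs cur = true →
      (∀ g ∈ gs, g ∈ T) → (∀ b ∈ T, bitB cur b = true) → T.card ≤ k
  | .leaf p, gs, cur, h, hgs, hcur => by
    have hc := passes_sound hT hgs p cur hcur
    replace h : forceN (passes Q Cm gs p cur) (fun c =>
      Nat.ble (cntB c) k || gs.any fun g => !(bitB c g)) = true := h
    rw [forceN_eq'] at h
    simp only [Bool.or_eq_true, Nat.ble_eq, List.any_eq_true, Bool.not_eq_true'] at h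
    rcases h with h | ⟨g, hg, hb⟩
    · rw [cntB, cntB_eq] at h
      refine le_trans (Finset.card_le_card fun b hb => ?_) h
      simp only [Finset.mem_filter, Finset.mem_range]
      exact ⟨hT.lt b hb, hc b hb⟩
    · rw [hc g (hgs g hg)] at hb
      exact Bool.noConfusion hb
  | .br p a l r, gs, cur, h, hgs, hcur => by
    have hc := passes_sound hT hgs p cur hcur
    replace h : forceN (passes Q Cm gs p cur) (fun c =>
      checkT Q Cm k l (a :: gs) c && checkT Q Cm k r gs (Nat.xor c (Nat.shiftLeft 1 a))) = true := h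
    rw [forceN_eq', Bool.and_eq_true] at h
    by_cases ha : a ∈ T
    · refine card_le_of_checkT hT l _ _ h.1 (fun g hg => ?_) hc
      rcases List.mem_cons.mp hg with rfl | hg
      exacts [ha, hgs g hg]
    · refine card_le_of_checkT hT r _ _ h.2 hgs fun b hb => bitB_iff.mpr ?_
      have hne : a ≠ b := fun e => ha (e ▸ hb)
      rw [show Nat.xor (passes Q Cm gs p cur) (Nat.shiftLeft 1 a) =
        passes Q Cm gs p cur ^^^ (1 <<< a) from rfl, Nat.testBit_xor, bitB_iff.mp (hc b hb),
        Nat.one_shiftLeft, Nat.testBit_two_pow_of_ne hne]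
      rfl

end Cfsg.Agent.Co3TwoM12
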