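import Cfsg.Agent.Co3Rec.Facts
import Cfsg.Agent.Co3TwoM12.Tree

/-!
The Sylow list of the model modulo a normal subgroup of order four through the central involution:
a product table checked along the four generators, and the bound it gives for subgroups avoiding
given elements.
-/

set_option autoImplicit false
set_option maxRecDepth 100000

namespace Cfsg.Agent.Co3TwoM12

open Cfsg Cfsg.Agent.Compute Cfsg.Agent.StemCert
open Cfsg.Agent.Co3Rec
open Cfsg.Agent.CosetCert (Store)

/-- Tables for the quotient of the list. -/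
structure QTab where
  /-- index of the second generator of the subgroup -/
  x : ℕ
  /-- classes of the generators -/
  gen : List ℕ
  /-- classes free of the avoided elements -/
  mask : ℕ
  /-- representatives -/
  rep : ℕ → ℕ
  /-- class of an element -/
  cls : ℕ → ℕ
  /-- position in the class -/
  rem : ℕ → ℕ
  /-- generator and earlier class -/
  par : ℕ → ℕ
  /-- products -/
  tab : Store
  /-- avoided members -/
  forb : Store

namespace QTab

variable (D : QTab)

/-- The product of classes. -/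
noncomputable abbrev Q (a b : ℕ) : ℕ := byteAt (D.tab.get a) b

/-- The word of a representative. -/
noncomputable abbrev qW (a : ℕ) : List ℕ := pW (D.rep a)

/-- A word of the subgroup. -/
noncomputable def eltW (r : ℕ) : List ℕ :=
  [[], [Co3Rec.Data.tL], pW D.x, pW D.x ++ [Co3Rec.Data.tL]].getD r []

/-- Check of the decomposition. -/
noncomputable def elemB : Bool :=
  allBelow Co3Rec.Data.pN (fun i => Nat.blt (D.cls i) 256 && Nat.blt (D.rem i) 4 &&
      same (pW i) (D.qW (D.cls i) ++ D.eltW (D.rem i))) &&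
    allBelow 256 (fun a => Nat.blt (D.rep a) Co3Rec.Data.pN) && Nat.beq (D.rep 0) 0

/-- Check of the rows of the generators. -/
noncomputable def genB : Bool :=
  allBelow 4 fun g => forceN (D.tab.get (D.gen.getD g 0)) fun row => allBelow 256 fun b =>
    Nat.beq (byteAt row b) (D.cls (Co3Rec.Data.pStep (Nat.add (Nat.mul g Co3Rec.Data.pN) (D.rep b))))

/-- Check of the other rows. -/
noncomputable def parB : Bool :=
  allBelow 256 fun a => forceN (D.tab.get a) fun row =>
    cond (Nat.beq a 0) (allBelow 256 fun b => Nat.beq (byteAt row b) b)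
      (forceN (Nat.div (D.par a) 256) fun g => forceN (Nat.mod (D.par a) 256) fun a' =>
        forceN (D.tab.get (D.gen.getD g 0)) fun rg => forceN (D.tab.get a') fun ra =>
          Nat.blt g 4 && Nat.blt a' a && Nat.beq (byteAt rg a') a &&
            allBelow 256 fun b => Nat.beq (byteAt row b) (byteAt rg (byteAt ra b)))

/-- Check that the second generator is central modulo the involution and squares into it. -/
noncomputable def normB : Bool :=
  Nat.blt D.x Co3Rec.Data.pN && (same (pW D.x ++ pW D.x) [] || same (pW D.x ++ pW D.x) [Co3Rec.Data.tL]) &&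
    Nat.beq (List.length Co3Rec.Data.pGens) 4 &&
    allBelow 4 fun g =>
      same (Co3Rec.Data.pGens.getD g 0 :: pW D.x) (pW D.x ++ [Co3Rec.Data.pGens.getD g 0]) ||
        same (Co3Rec.Data.pGens.getD g 0 :: pW D.x)
          (pW D.x ++ [Co3Rec.Data.tL, Co3Rec.Data.pGens.getD g 0])

/-- Check that every excluded class has an avoided member. -/
noncomputable def maskB (f : ℕ → Bool) : Bool :=
  allBelow 256 fun a => bitB D.mask a || forceN (D.forb.get a) fun i =>
    Nat.blt i Co3Rec.Data.pN && Nat.beq (D.cls i) a && f i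

/-- The value of the second generator. -/
noncomputable def xv : R := ctx.ev (pW D.x)

/-- The value of a representative. -/
noncomputable def qv (a : ℕ) : R := ctx.ev (D.qW a)

/-- What the checks give. -/
structure Ok : Prop where
  elem : D.elemB = true
  gen : D.genB = true
  par : D.parB = true
  norm : D.normB = true

variable {D}

theorem tE_comm_C0 {y : R} (hy : y ∈ C0) : tE * y = y * tE := (tE_central hy).symm

theorem Ok.x_lt (h : D.Ok) : D.x < Co3Rec.Data.pN := by
  have := h.norm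
  simp only [normB, Bool.and_eq_true, Nat.blt_eq] at this
  exact this.1.1.1

theorem Ok.xv_mem (h : D.Ok) : D.xv ∈ C0 := P0_le (pW_mem h.x_lt)

theorem Ok.xv_sq (h : D.Ok) : D.xv * D.xv = 1 ∨ D.xv * D.xv = tE := by
  have := h.norm
  simp only [normB, Bool.and_eq_true, Bool.or_eq_true] at this
  rcases this.1.1.2 with e | e <;> have e' := eq_of_same e <;> rw [Ctx.ev_append] at e'
  · exact Or.inl e'
  · exact Or.inr (e'.trans (ctx.ev_single _))

/-- The subgroup of order at most four. -/
noncomputable def base (h : D.Ok) : Subgroup R where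
  carrier := {y | y = 1 ∨ y = tE ∨ y = D.xv ∨ y = D.xv * tE}
  one_mem' := Or.inl rfl
  mul_mem' := by
    have t2 := tE_sq
    have t2' : ∀ y : R, tE * (tE * y) = y := fun y => by rw [← mul_assoc, t2, one_mul]
    have c := tE_comm_C0 h.xv_mem
    have c' : ∀ y : R, tE * (D.xv * y) = D.xv * (tE * y) := fun y => by rw [← mul_assoc, c, mul_assoc]
    rintro p q (rfl | rfl | rfl | rfl) (rfl | rfl | rfl | rfl) <;> rcases h.xv_sq with e | e <;>
      (have e' : ∀ y : R, D.xv * (D.xv * y) = D.xv * D.xv * y := fun y => (mul_assoc _ _ _).symm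
       simp [mul_assoc, t2, t2', c, c', e, e'])
  inv_mem' := by
    have t2 : tE⁻¹ = tE := inv_eq_of_mul_eq_one_right tE_sq
    have c := tE_comm_C0 h.xv_mem
    rintro p (rfl | rfl | rfl | rfl)
    · exact Or.inl inv_one
    · exact Or.inr (Or.inl t2)
    · rcases h.xv_sq with e | e
      · exact Or.inr (Or.inr (Or.inl (inv_eq_of_mul_eq_one_right e)))
      · exact Or.inr (Or.inr (Or.inr (inv_eq_of_mul_eq_one_right (by
          rw [← mul_assoc, e, tE_sq]))))
    · rcases h.xv_sq with e | e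
      · refine Or.inr (Or.inr (Or.inr (inv_eq_of_mul_eq_one_right ?_)))
        calc D.xv * tE * (D.xv * tE) = D.xv * (tE * D.xv) * tE := by group
          _ = D.xv * D.xv * (tE * tE) := by rw [c]; group
          _ = 1 := by rw [e, tE_sq, one_mul]
      · refine Or.inr (Or.inr (Or.inl (inv_eq_of_mul_eq_one_right ?_)))
        calc D.xv * tE * D.xv = D.xv * (tE * D.xv) := by group
          _ = D.xv * D.xv * tE := by rw [c]; group
          _ = 1 := by rw [e, tE_sq]

theorem mem_base {h : D.Ok} {y : R} :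
    y ∈ base h ↔ y = 1 ∨ y = tE ∨ y = D.xv ∨ y = D.xv * tE := Iff.rfl

theorem card_base (h : D.Ok) : Nat.card (base h) ≤ 4 := by
  classical
  let f : Fin 4 → base h := fun i =>
    ⟨[1, tE, D.xv, D.xv * tE].getD i.1 1, by
      fin_cases i <;> simp [mem_base]⟩
  have hf : Function.Surjective f := by
    rintro ⟨y, rfl | rfl | rfl | rfl⟩
    exacts [⟨0, rfl⟩, ⟨1, rfl⟩, ⟨2, rfl⟩, ⟨3, rfl⟩]
  simpa using Nat.card_le_card_of_surjective f hf

/-- The elements of the list take the second generator to itself times the subgroup. -/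
theorem Ok.xv_conj (h : D.Ok) {y : R} (hy : y ∈ P0) :
    y * D.xv * y⁻¹ = D.xv ∨ y * D.xv * y⁻¹ = D.xv * tE := by
  have hn := h.norm
  simp only [normB, Bool.and_eq_true, Nat.beq_eq, allBelow_eq_true, Bool.or_eq_true] at hn
  induction hy using Subgroup.closure_induction with
  | mem z hz =>
    obtain ⟨s, hs, rfl⟩ := hz
    obtain ⟨g, hg, rfl⟩ := List.getElem_of_mem hs
    have e := hn.2 g (hn.1.2 ▸ hg)
    rw [List.getD_eq_getElem _ _ hg] at e
    rcases e with e | e <;> have e' := eq_of_same e <;>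
      simp only [Ctx.ev_append, Ctx.ev_cons, Ctx.ev_nil, mul_one] at e'
    · left
      rw [xv, mul_inv_eq_iff_eq_mul]
      exact e'
    · right
      rw [xv, mul_inv_eq_iff_eq_mul, mul_assoc]
      exact e'
  | one => left; simp
  | mul a b ha hb iha ihb =>
    have ct := tE_comm_C0 (P0_le ha)
    have : a * b * D.xv * (a * b)⁻¹ = a * (b * D.xv * b⁻¹) * a⁻¹ := by group
    rw [this]
    rcases ihb with e | e <;> rw [e]
    · exact iha
    · have : a * (D.xv * tE) * a⁻¹ = a * D.xv * a⁻¹ * tE := by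
        calc a * (D.xv * tE) * a⁻¹ = a * D.xv * (tE * a⁻¹) := by group
          _ = a * D.xv * (a⁻¹ * tE) := by rw [tE_comm_C0 (P0_le (inv_mem ha))]
          _ = _ := by group
      rw [this]
      rcases iha with e' | e' <;> rw [e']
      · exact Or.inr rfl
      · left; rw [mul_assoc, tE_sq, mul_one]
  | inv a ha iha =>
    have ct := tE_comm_C0 (P0_le ha)
    rcases iha with e | e
    · left
      calc a⁻¹ * D.xv * a⁻¹⁻¹ = a⁻¹ * (a * D.xv * a⁻¹) * a := by rw [e, inv_inv]
        _ = D.xv := by group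
    · right
      calc a⁻¹ * D.xv * a⁻¹⁻¹ = a⁻¹ * (D.xv * tE) * (tE * a) := by
            rw [← mul_assoc _ tE a, mul_assoc a⁻¹ (D.xv * tE) tE, mul_assoc D.xv, tE_sq, mul_one, inv_inv]
        _ = a⁻¹ * (a * D.xv * a⁻¹) * (a * tE) := by rw [e, ct]
        _ = D.xv * tE := by group

theorem Ok.base_normal (h : D.Ok) {y e : R} (hy : y ∈ P0) (he : e ∈ base h) : y * e * y⁻¹ ∈ base h := by
  have ct := tE_comm_C0 (P0_le hy)
  have hx : y * D.xv * y⁻¹ ∈ base h := by
    rcases h.xv_conj hy with e | e <;> rw [e] <;> simp [mem_base]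
  have ht : y * tE * y⁻¹ = tE := by rw [← ct, mul_inv_cancel_right]
  rcases he with rfl | rfl | rfl | rfl
  · simp
  · rw [ht]; simp [mem_base]
  · exact hx
  · rw [show y * (D.xv * tE) * y⁻¹ = (y * D.xv * y⁻¹) * (y * tE * y⁻¹) by group, ht]
    exact mul_mem hx (by simp [mem_base])

theorem Ok.rep_lt (h : D.Ok) {a : ℕ} (ha : a < 256) : D.rep a < Co3Rec.Data.pN := by
  have := h.elem
  simp only [elemB, Bool.and_eq_true, allBelow_eq_true, Nat.blt_eq] at this
  exact this.1.2 a ha

theorem Ok.qv_mem (h : D.Ok) {a : ℕ} (ha : a < 256) : D.qv a ∈ P0 := pW_mem (h.rep_lt ha)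

theorem Ok.qv_zero (h : D.Ok) : D.qv 0 = 1 := by
  have := h.elem
  simp only [elemB, Bool.and_eq_true, Nat.beq_eq] at this
  rw [qv, qW, this.2, show pW 0 = [] by decide +kernel]
  rfl

theorem Ok.decomp (h : D.Ok) {i : ℕ} (hi : i < Co3Rec.Data.pN) :
    D.cls i < 256 ∧ ∃ e ∈ base h, ctx.ev (pW i) = D.qv (D.cls i) * e := by
  have := h.elem
  simp only [elemB, Bool.and_eq_true, allBelow_eq_true, Nat.blt_eq] at this
  obtain ⟨⟨hc, hr⟩, hs⟩ := this.1.1 i hi
  refine ⟨hc, ctx.ev (D.eltW (D.rem i)), ?_, by rw [eq_of_same hs, Ctx.ev_append]; rfl⟩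
  revert hr
  generalize D.rem i = r
  intro hr
  interval_cases r <;> simp [eltW, mem_base, Ctx.ev_append, Ctx.ev_cons, xv, tE]

theorem Q_lt (a b : ℕ) : D.Q a b < 256 := Nat.mod_lt _ (by norm_num)

theorem forceN_spec {α : Type} {n : ℕ} {k : ℕ → α} : forceN n k = k n := forceN_eq' n k

theorem Ok.gen_mul (h : D.Ok) {g b : ℕ} (hg : g < 4) (hb : b < 256) : ∃ e ∈ base h,
    ctx.gen (Co3Rec.Data.pGens.getD g 0) * D.qv b = D.qv (D.Q (D.gen.getD g 0) b) * e := by
  have hG := h.gen
  simp only [genB, allBelow_eq_true, forceN_spec, Nat.beq_eq] at hG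
  have hlen : Co3Rec.Data.pGens.length = 4 := by decide +kernel
  have hs := allBelow_eq_true.mp (allBelow_eq_true.mp pStep_ok _ (h.rep_lt hb)) g (hlen ▸ hg)
  simp only [Bool.and_eq_true, Nat.blt_eq] at hs
  obtain ⟨hj, e⟩ := hs
  obtain ⟨-, e', he', hd⟩ := h.decomp hj
  refine ⟨e', he', ?_⟩
  rw [Q, hG g hg b hb, ← hd, ← eq_of_same e, Ctx.ev_cons]
  rfl

theorem Ok.mul_spec (h : D.Ok) : ∀ (a : ℕ), a < 256 → ∀ b < 256,
    ∃ e ∈ base h, D.qv a * D.qv b = D.qv (D.Q a b) * e := by
  intro a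
  induction a using Nat.strong_induction_on with
  | _ a ih =>
    intro ha b hb
    have hP := h.par
    simp only [parB, allBelow_eq_true, forceN_spec] at hP
    have hp := hP a ha
    rcases Bool.eq_false_or_eq_true (Nat.beq a 0) with h0 | h0 <;> rw [h0] at hp
    · simp only [cond_true, allBelow_eq_true, Nat.beq_eq] at hp
      rw [Nat.eq_of_beq_eq_true h0] at hp ⊢
      exact ⟨1, one_mem _, by rw [h.qv_zero, one_mul, mul_one, Q, hp b hb]⟩
    simp only [cond_false, Bool.and_eq_true, allBelow_eq_true, Nat.beq_eq, Nat.blt_eq] at hp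
    obtain ⟨⟨⟨hg, ha'⟩, hga⟩, hrow⟩ := hp
    set g := Nat.div (D.par a) 256
    set a' := Nat.mod (D.par a) 256
    have ha2 : a' < 256 := ha'.trans ha
    obtain ⟨e1, he1, h1⟩ := h.gen_mul hg ha2
    obtain ⟨e2, he2, h2⟩ := ih a' ha' ha2 b hb
    obtain ⟨e3, he3, h3⟩ := h.gen_mul hg (Q_lt (D := D) a' b)
    rw [show D.Q (D.gen.getD g 0) a' = a from hga] at h1
    rw [show D.Q (D.gen.getD g 0) (D.Q a' b) = D.Q a b from (hrow b hb).symm] at h3
    refine ⟨e3 * e2 * ((D.qv b)⁻¹ * e1 * D.qv b)⁻¹,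
      mul_mem (mul_mem he3 he2) (inv_mem ?_), ?_⟩
    · simpa using h.base_normal (inv_mem (h.qv_mem hb)) he1
    · rw [show D.qv a = ctx.gen (Co3Rec.Data.pGens.getD g 0) * D.qv a' * e1⁻¹ by
        rw [h1, mul_inv_cancel_right]]
      rw [← mul_assoc, ← mul_assoc, ← h3, mul_assoc _ (D.qv (D.Q a' b)) e2, ← h2]
      group

/-- The bound for subgroups of the list through the subgroup avoiding the given elements. -/
theorem Ok.card_le (h : D.Ok) {f : ℕ → Bool} (hm : D.maskB f = true) {S : Subgroup R} (hS : S ≤ P0)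
    (hx : D.xv ∈ S) (ht : tE ∈ S)
    (hf : ∀ i < Co3Rec.Data.pN, f i = true → ctx.ev (pW i) ∉ S) {Cm : ℕ → ℕ → Bool}
    (hC : ∀ a < 256, ∀ b < 256, D.qv a ∈ S → D.qv b ∈ S → Cm a b = true) {k : ℕ} {T : CTree}
    (hchk : checkT D.Q Cm k T [] D.mask = true) : Nat.card S ≤ 4 * k := by
  classical
  let A : Finset ℕ := (Finset.range 256).filter fun a => D.qv a ∈ S
  have memA : ∀ {a}, a ∈ A ↔ a < 256 ∧ D.qv a ∈ S := fun {a} => by simp [A]
  have hB : ∀ e ∈ base h, e ∈ S := by
    rintro e (rfl | rfl | rfl | rfl)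
    exacts [one_mem _, ht, hx, mul_mem hx ht]
  have hA : Closed D.Q Cm A := by
    refine ⟨fun a ha => (memA.mp ha).1, fun a ha b hb => ?_,
      fun a ha b hb => hC a (memA.mp ha).1 b (memA.mp hb).1 (memA.mp ha).2 (memA.mp hb).2⟩
    obtain ⟨e, he, hab⟩ := h.mul_spec a (memA.mp ha).1 b (memA.mp hb).1
    refine memA.mpr ⟨Q_lt a b, ?_⟩
    rw [show D.qv (D.Q a b) = D.qv a * D.qv b * e⁻¹ by rw [hab, mul_inv_cancel_right]]
    exact mul_mem (mul_mem (memA.mp ha).2 (memA.mp hb).2) (inv_mem (hB e he))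
  have hmask : ∀ a ∈ A, bitB D.mask a = true := by
    intro a ha
    have hmm := hm
    simp only [maskB, allBelow_eq_true, forceN_spec, Bool.or_eq_true, Bool.and_eq_true, Nat.beq_eq,
      Nat.blt_eq] at hmm
    refine (hmm a (memA.mp ha).1).resolve_right ?_
    rintro ⟨⟨hi, hc⟩, hfi⟩
    obtain ⟨-, e, he, hd⟩ := h.decomp hi
    exact hf _ hi hfi (by rw [hd, hc]; exact mul_mem (memA.mp ha).2 (hB e he))
  have hk := card_le_of_checkT hA T [] D.mask hchk (by simp) hmask
  have hsur : ∀ y : S, ∃ p : A × base h, (y : R) = D.qv p.1 * (p.2 : R) := by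
    intro y
    obtain ⟨i, hi, e⟩ := P0_listed (hS y.2)
    obtain ⟨hc, e', he', hd⟩ := h.decomp hi
    refine ⟨(⟨D.cls i, memA.mpr ⟨hc, ?_⟩⟩, ⟨e', he'⟩), e.trans hd⟩
    rw [show D.qv (D.cls i) = (y : R) * e'⁻¹ by rw [e, hd, mul_inv_cancel_right]]
    exact mul_mem y.2 (inv_mem (hB e' he'))
  choose p hp using hsur
  have h1 := Nat.card_le_card_of_injective p fun y z e => Subtype.ext (by rw [hp y, hp z, e])
  rw [Nat.card_prod, Nat.card_eq_finsetCard] at h1
  calc Nat.card S ≤ A.card * Nat.card (base h) := h1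
    _ ≤ k * 4 := Nat.mul_le_mul hk (card_base h)
    _ = 4 * k := mul_comm _ _

end QTab

end Cfsg.Agent.Co3TwoM12
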