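import Cfsg.Agent.Co3TwoM12.CentT
import Cfsg.Agent.Co3TwoM12.Quot
import Cfsg.Agent.Co3TwoM12.ListData
import Cfsg.Agent.Co3TwoM12.QuotAData
import Cfsg.Agent.Co3TwoM12.QuotBData
import Cfsg.Agent.Co3TwoM12.QuotCData

/-!
The three classes of the centraliser of the central involution modulo it that lift to no involution
of the third class: orbit lengths, the involutions of the third class in their stabilisers and the
bound for subgroups of the stabilisers avoiding given classes.
-/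

set_option autoImplicit false
set_option maxRecDepth 100000

namespace Cfsg.Agent.Co3TwoM12

open Cfsg Cfsg.Agent.Compute Cfsg.Agent.StemCert
open Cfsg.Agent.Co3Rec
open Cfsg.Agent.CosetCert (Store)

/-- The tables of the first case. -/
noncomputable def qC : QTab where
  x := GData.xC
  gen := GData.genC
  mask := GData.maskC
  rep := GData.repC
  cls := GData.clsC
  rem := GData.remC
  par := GData.parC
  tab := GData.tabC
  forb := GData.forbC

/-- The tables of the second case. -/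
noncomputable def qA : QTab where
  x := GData.xA
  gen := GData.genA
  mask := GData.maskA
  rep := GData.repA
  cls := GData.clsA
  rem := GData.remA
  par := GData.parA
  tab := GData.tabA
  forb := GData.forbA

/-- The tables of the third case. -/
noncomputable def qB : QTab where
  x := GData.xB
  gen := GData.genB
  mask := GData.maskB
  rep := GData.repB
  cls := GData.clsB
  rem := GData.remB
  par := GData.parB
  tab := GData.tabB
  forb := GData.forbB

theorem qC_ok : qC.Ok := by constructor <;> decide +kernel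

theorem qA_ok : qA.Ok := by constructor <;> decide +kernel

theorem qB_ok : qB.Ok := by constructor <;> decide +kernel

/-- The kind of the avoided elements: the third class. -/
noncomputable def fB (i : ℕ) : Bool := Nat.ble 4 (Co3Rec.Data.pType i)

/-- The third class or the first kind of square roots. -/
noncomputable def fBC (i : ℕ) : Bool := fB i || Nat.beq (GData.sqKind i) 1

/-- The third class or any square root. -/
noncomputable def fBS (i : ℕ) : Bool := fB i || !(Nat.beq (GData.sqKind i) 0)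

/-- The commutation table of the third case. -/
noncomputable def cmB (a b : ℕ) : Bool := bitB (GData.commB.get a) b

theorem masks_ok : qC.maskB fB = true ∧ qA.maskB fBC = true ∧ qB.maskB fBS = true := by
  refine ⟨?_, ?_, ?_⟩ <;> decide +kernel

theorem treeC_ok : checkT qC.Q (fun _ _ => true) 16 GData.treeC16 [] qC.mask = true := by decide +kernel

theorem treeA_ok : checkT qA.Q (fun _ _ => true) 1 GData.treeA1 [] qA.mask = true := by decide +kernel

theorem treeB_ok : checkT qB.Q (fun _ _ => true) 16 GData.treeB16 [] qB.mask = true ∧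
    checkT qB.Q cmB 12 GData.treeB12 [] qB.mask = true := by
  constructor <;> decide +kernel

theorem commB_ok : allBelow 256 (fun a => forceN (GData.commB.get a) fun row => allBelow 256 fun b =>
    bitB row b || !(same (qB.qW a ++ qB.qW b) (qB.qW b ++ qB.qW a))) = true := by decide +kernel

theorem cmB_of_comm {a b : ℕ} (ha : a < 256) (hb : b < 256) (h : qB.qv a * qB.qv b = qB.qv b * qB.qv a) :
    cmB a b = true := by
  have hc := allBelow_eq_true.mp commB_ok a ha
  rw [forceN_eq'] at hc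
  have hc' := allBelow_eq_true.mp hc b hb
  simp only [Bool.or_eq_true, Bool.not_eq_true'] at hc'
  refine hc'.resolve_right fun hn => ?_
  have hla := pW_lt (qB_ok.rep_lt ha)
  have hlb := pW_lt (qB_ok.rep_lt hb)
  rw [same_of_eq (fun s hs => by rcases List.mem_append.mp hs with hs | hs <;> [exact hla s hs; exact hlb s hs])
    (fun s hs => by rcases List.mem_append.mp hs with hs | hs <;> [exact hlb s hs; exact hla s hs])
    (by rw [Ctx.ev_append, Ctx.ev_append]; exact h)] at hn
  exact Bool.noConfusion hn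

/-- Conjugate to the involution of the third class. -/
def IsB (x : R) : Prop := ∃ p : R, x = p * bE * p⁻¹

/-- The root of the first kind. -/
noncomputable abbrev xC : R := qC.xv

/-- The root of the second kind. -/
noncomputable abbrev xA : R := qA.xv

/-- The involution of the third case. -/
noncomputable abbrev xB : R := qB.xv

/-- Conjugate in the centraliser. -/
def ConjC0 (x y : R) : Prop := ∃ v ∈ C0, y = v * x * v⁻¹

theorem ConjC0.mul_left {x y g : R} (h : ConjC0 x y) (hg : g ∈ C0) : ConjC0 x (g * y * g⁻¹) := by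
  obtain ⟨v, hv, rfl⟩ := h
  exact ⟨g * v, mul_mem hg hv, by group⟩

theorem IsB.conj {x : R} (h : IsB x) (g : R) : IsB (g * x * g⁻¹) := by
  obtain ⟨p, rfl⟩ := h
  exact ⟨g * p, by group⟩

theorem IsB.sq {x : R} (h : IsB x) : x * x = 1 := by
  obtain ⟨p, rfl⟩ := h
  calc p * bE * p⁻¹ * (p * bE * p⁻¹) = p * (bE * bE) * p⁻¹ := by group
    _ = 1 := by rw [ae_be_sq.2]; group

theorem isB_pW {i : ℕ} (hi : i < Co3Rec.Data.pN) (h : fB i = true) : IsB (ctx.ev (pW i)) := by
  rw [fB, Nat.ble_eq] at h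
  have ht := allBelow_eq_true.mp pType_ok i hi
  rw [show Nat.beq (Co3Rec.Data.pType i) 0 = false by rw [← Bool.not_eq_true, Nat.beq_eq]; omega,
    show Nat.beq (Co3Rec.Data.pType i) 1 = false by rw [← Bool.not_eq_true, Nat.beq_eq]; omega,
    show Nat.beq (Co3Rec.Data.pType i) 2 = false by rw [← Bool.not_eq_true, Nat.beq_eq]; omega,
    show Nat.beq (Co3Rec.Data.pType i) 3 = false by rw [← Bool.not_eq_true, Nat.beq_eq]; omega] at ht
  simp only [cond_false, Bool.and_eq_true] at ht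
  have e := eq_of_same ht.2
  rw [ev_cjW ht.1] at e
  exact ⟨_, e⟩

/-- The word of a conjugate of a listed element. -/
noncomputable abbrev cjX (v : List ℕ) (x : ℕ) : List ℕ := v ++ (pW x ++ ctx.inv v)

theorem ev_cjX {v : List ℕ} (hv : inC v = true) (x : ℕ) :
    ctx.ev (cjX v x) = ctx.ev v * ctx.ev (pW x) * (ctx.ev v)⁻¹ := by
  rw [cjX, Ctx.ev_append, Ctx.ev_append, ctx.ev_inv (lt_of_inC hv), mul_assoc]

theorem sqKind_ok : allBelow Co3Rec.Data.pN (fun i =>
    cond (Nat.beq (GData.sqKind i) 0) (!(same (pW i ++ pW i) [Co3Rec.Data.tL]))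
      ((Nat.beq (GData.sqKind i) 1 || Nat.beq (GData.sqKind i) 2) &&
        inC (unW (GData.sqConj.get i)) && same (pW i) (cjX (unW (GData.sqConj.get i))
          (cond (Nat.beq (GData.sqKind i) 1) GData.xC GData.xA)))) = true := by decide +kernel

theorem sqKind_spec {i : ℕ} (hi : i < Co3Rec.Data.pN) :
    (GData.sqKind i = 0 ∧ ctx.ev (pW i) * ctx.ev (pW i) ≠ tE) ∨
      (GData.sqKind i = 1 ∧ ConjC0 xC (ctx.ev (pW i))) ∨
      (GData.sqKind i = 2 ∧ ConjC0 xA (ctx.ev (pW i))) := by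
  have h := allBelow_eq_true.mp sqKind_ok i hi
  rcases Bool.eq_false_or_eq_true (Nat.beq (GData.sqKind i) 0) with b | b <;> rw [b] at h
  · simp only [cond_true, Bool.not_eq_true'] at h
    refine Or.inl ⟨Nat.eq_of_beq_eq_true b, fun e => ?_⟩
    rw [same_of_eq (fun s hs => by rcases List.mem_append.mp hs with hs | hs <;> exact pW_lt hi s hs)
      tL_ltk' (by rw [Ctx.ev_append, ctx.ev_single]; exact e)] at h
    exact Bool.noConfusion h
  · simp only [cond_false, Bool.and_eq_true, Bool.or_eq_true, Nat.beq_eq] at h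
    obtain ⟨⟨hk, hv⟩, hs⟩ := h
    have e := eq_of_same hs
    rw [ev_cjX hv] at e
    rcases hk with hk | hk <;> rw [hk] at e ⊢
    · exact Or.inr (Or.inl ⟨rfl, _, ev_mem hv, e⟩)
    · exact Or.inr (Or.inr ⟨rfl, _, ev_mem hv, e⟩)

theorem isC_or_B {i : ℕ} (hi : i < Co3Rec.Data.pN) (h : fBC i = true) :
    IsB (ctx.ev (pW i)) ∨ ConjC0 xC (ctx.ev (pW i)) := by
  simp only [fBC, Bool.or_eq_true, Nat.beq_eq] at h
  rcases h with h | h
  · exact Or.inl (isB_pW hi h)
  · rcases sqKind_spec hi with ⟨e, -⟩ | ⟨-, e⟩ | ⟨e, -⟩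
    · rw [e] at h; norm_num at h
    · exact Or.inr e
    · rw [e] at h; norm_num at h

theorem isRoot_or_B {i : ℕ} (hi : i < Co3Rec.Data.pN) (h : fBS i = true) :
    IsB (ctx.ev (pW i)) ∨ ConjC0 xC (ctx.ev (pW i)) ∨ ConjC0 xA (ctx.ev (pW i)) := by
  simp only [fBS, Bool.or_eq_true, Bool.not_eq_true'] at h
  rcases h with h | h
  · exact Or.inl (isB_pW hi h)
  · rcases sqKind_spec hi with ⟨e, -⟩ | ⟨-, e⟩ | ⟨-, e⟩
    · rw [e] at h; simp at h
    · exact Or.inr (Or.inl e)
    · exact Or.inr (Or.inr e)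

/-- The square roots of the central involution in its centraliser. -/
theorem root_C0 {y : R} (hy : y ∈ C0) (h2 : y * y = tE) : ConjC0 xC y ∨ ConjC0 xA y := by
  have hp : IsPGroup 2 (Subgroup.zpowers y) := by
    rintro ⟨z, n, rfl⟩
    refine ⟨2, Subtype.ext ?_⟩
    show (y ^ n) ^ 2 ^ 2 = 1
    have h4 : y ^ 4 = 1 := by
      rw [show y ^ 4 = (y * y) * (y * y) by simp only [pow_succ, pow_zero, one_mul, mul_assoc], h2, tE_sq]
    rw [show (2 : ℕ) ^ 2 = 4 by norm_num, ← zpow_natCast, ← zpow_mul, mul_comm, zpow_mul, zpow_natCast,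
      h4, one_zpow]
  obtain ⟨g, hg, hgP⟩ := conj_into_P0 hp (Subgroup.zpowers_le.mpr hy)
  obtain ⟨i, hi, e⟩ := P0_listed (hgP y (Subgroup.mem_zpowers y))
  have back : ∀ {x : R}, ConjC0 x (ctx.ev (pW i)) → ConjC0 x y := fun h => by
    have := h.mul_left (inv_mem hg)
    rwa [← e, inv_inv, show g⁻¹ * (g * y * g⁻¹) * g = y by group] at this
  rcases sqKind_spec hi with ⟨-, h⟩ | ⟨-, h⟩ | ⟨-, h⟩
  · refine absurd ?_ h
    rw [← e]
    calc g * y * g⁻¹ * (g * y * g⁻¹) = g * (y * y) * g⁻¹ := by group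
      _ = tE := by rw [h2, tE_central hg, mul_inv_cancel_right]
  · exact Or.inl (back h)
  · exact Or.inr (back h)

theorem x_sq : (same (pW GData.xC ++ pW GData.xC) [Co3Rec.Data.tL] &&
    same (pW GData.xA ++ pW GData.xA) [Co3Rec.Data.tL] &&
    same (pW GData.xB ++ pW GData.xB) [] && Nat.beq (Co3Rec.Data.pType GData.xB) 3 &&
    !(same (pW GData.xB) [])) = true := by decide +kernel

theorem xC_sq : xC * xC = tE := by
  have h := x_sq
  simp only [Bool.and_eq_true] at h
  have e := eq_of_same h.1.1.1.1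
  rwa [Ctx.ev_append, ctx.ev_single] at e

theorem xA_sq : xA * xA = tE := by
  have h := x_sq
  simp only [Bool.and_eq_true] at h
  have e := eq_of_same h.1.1.1.2
  rwa [Ctx.ev_append, ctx.ev_single] at e

theorem xB_conj : ConjC0 aE xB := by
  have h := x_sq
  simp only [Bool.and_eq_true, Nat.beq_eq] at h
  have ht := allBelow_eq_true.mp pType_ok GData.xB qB_ok.x_lt
  rw [h.1.2] at ht
  simp only [show Nat.beq 3 0 = false from rfl, show Nat.beq 3 1 = false from rfl,
    show Nat.beq 3 2 = false from rfl, show Nat.beq 3 3 = true from rfl, cond_false, cond_true,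
    Bool.and_eq_true] at ht
  have e := eq_of_same ht.2
  rw [ev_cjW ht.1] at e
  exact ⟨_, ev_mem ht.1, e⟩

/-- The stabiliser of an element modulo the central involution. -/
noncomputable def Stab (D : QTab) (h : D.Ok) : Subgroup R where
  carrier := {y | y ∈ C0 ∧ (y * D.xv * y⁻¹ = D.xv ∨ y * D.xv * y⁻¹ = D.xv * tE)}
  one_mem' := ⟨one_mem _, Or.inl (by simp)⟩
  mul_mem' := by
    rintro a b ⟨ha, ha'⟩ ⟨hb, hb'⟩
    refine ⟨mul_mem ha hb, ?_⟩
    have e : a * b * D.xv * (a * b)⁻¹ = a * (b * D.xv * b⁻¹) * a⁻¹ := by group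
    have e2 : a * (D.xv * tE) * a⁻¹ = a * D.xv * a⁻¹ * tE := by
      calc a * (D.xv * tE) * a⁻¹ = a * D.xv * (tE * a⁻¹) := by group
        _ = a * D.xv * (a⁻¹ * tE) := by rw [tE_central (inv_mem ha)]
        _ = _ := by group
    rw [e]
    rcases hb' with e' | e' <;> rw [e']
    · exact ha'
    · rw [e2]
      rcases ha' with e' | e' <;> rw [e']
      · exact Or.inr rfl
      · left; rw [mul_assoc, tE_sq, mul_one]
  inv_mem' := by
    rintro a ⟨ha, ha'⟩
    refine ⟨inv_mem ha, ?_⟩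
    have ct := tE_central ha
    rcases ha' with e | e
    · left
      calc a⁻¹ * D.xv * a⁻¹⁻¹ = a⁻¹ * (a * D.xv * a⁻¹) * a := by rw [e, inv_inv]
        _ = D.xv := by group
    · right
      calc a⁻¹ * D.xv * a⁻¹⁻¹ = a⁻¹ * (D.xv * tE) * (tE * a) := by
            rw [← mul_assoc _ tE a, mul_assoc a⁻¹ (D.xv * tE) tE, mul_assoc D.xv, tE_sq, mul_one, inv_inv]
        _ = a⁻¹ * (a * D.xv * a⁻¹) * (a * tE) := by rw [e, ct]
        _ = D.xv * tE := by group

theorem mem_Stab {D : QTab} {h : D.Ok} {y : R} :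
    y ∈ Stab D h ↔ y ∈ C0 ∧ (y * D.xv * y⁻¹ = D.xv ∨ y * D.xv * y⁻¹ = D.xv * tE) := Iff.rfl

theorem P0_le_Stab {D : QTab} (h : D.Ok) : P0 ≤ Stab D h := fun _ hy => ⟨P0_le hy, h.xv_conj hy⟩

/-- Check of a list of the orbit modulo the central involution. -/
noncomputable def orbB (D : QTab) (S : Store) (N : ℕ) : Bool :=
  allBelow N fun i => inC (unW (S.get i)) && ltB Co3Rec.Data.k (cjX (unW (S.get i)) D.x) &&
    (Nat.beq (Nat.succ i) N ||
      Nat.blt (Nat.min (keyW Co3Rec.Data.codes (cjX (unW (S.get i)) D.x))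
          (keyW Co3Rec.Data.codes (cjX (unW (S.get i)) D.x ++ [Co3Rec.Data.tL])))
        (Nat.min (keyW Co3Rec.Data.codes (cjX (unW (S.get (Nat.succ i))) D.x))
          (keyW Co3Rec.Data.codes (cjX (unW (S.get (Nat.succ i))) D.x ++ [Co3Rec.Data.tL]))))

theorem strictMono_below {f : ℕ → ℕ} {N : ℕ} (h : ∀ i, i + 1 < N → f i < f (i + 1)) :
    ∀ a b, a < b → b < N → f a < f b := by
  intro a b hab
  induction b with
  | zero => omega
  | succ b ih =>
    intro hb
    rcases Nat.lt_succ_iff_lt_or_eq.mp hab with h1 | h1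
    · exact (ih h1 (by omega)).trans (h b hb)
    · subst h1
      exact h a hb

theorem card_Stab_le {D : QTab} (h : D.Ok) {S : Store} {N : ℕ} (hS : orbB D S N = true) :
    N * Nat.card (Stab D h) ≤ 2903040 := by
  have hS' := allBelow_eq_true.mp hS
  simp only [Bool.and_eq_true, Bool.or_eq_true, Nat.beq_eq, Nat.blt_eq] at hS'
  obtain ⟨mk, hmk⟩ : ∃ f : ℕ → ℕ, ∀ i, f i = Nat.min (keyW Co3Rec.Data.codes (cjX (unW (S.get i)) D.x))
    (keyW Co3Rec.Data.codes (cjX (unW (S.get i)) D.x ++ [Co3Rec.Data.tL])) := ⟨_, fun _ => rfl⟩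
  have hmono : ∀ a b, a < b → b < N → mk a < mk b := strictMono_below fun i hi => by
    rcases (hS' i (Nat.lt_of_succ_lt hi)).2 with h2 | h2
    · exact absurd h2 (Nat.ne_of_lt hi)
    · rw [hmk, hmk]
      exact h2
  have e : N * Nat.card (Stab D h) = Nat.card (Fin N × Stab D h) := by rw [Nat.card_prod, Nat.card_fin]
  refine (e.trans_le ?_).trans card_C0.le
  refine Nat.card_le_card_of_injective (fun p : Fin N × Stab D h =>
    (⟨ctx.ev (unW (S.get p.1)) * (p.2 : R), mul_mem (ev_mem (hS' p.1 p.1.2).1.1) p.2.2.1⟩ : C0))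
    fun p p' e => ?_
  have e1 : ctx.ev (unW (S.get p.1)) * (p.2 : R) = ctx.ev (unW (S.get p'.1)) * (p'.2 : R) :=
    congrArg Subtype.val e
  have key : p.1 = p'.1 := by
    by_contra hne
    set a : ℕ := p.1.1
    set b : ℕ := p'.1.1
    set va := ctx.ev (unW (S.get a))
    set vb := ctx.ev (unW (S.get b))
    have hva : va ∈ C0 := ev_mem (hS' a p.1.2).1.1
    have hvb : vb ∈ C0 := ev_mem (hS' b p'.1.2).1.1
    have hcases : va * D.xv * va⁻¹ = vb * D.xv * vb⁻¹ ∨
        va * D.xv * va⁻¹ = vb * D.xv * vb⁻¹ * tE := by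
      have hq : va⁻¹ * vb ∈ Stab D h := by
        have : va⁻¹ * vb = (p.2 : R) * (p'.2 : R)⁻¹ := by
          rw [inv_mul_eq_iff_eq_mul, ← mul_assoc, e1, mul_inv_cancel_right]
        rw [this]
        exact mul_mem p.2.2 (inv_mem p'.2.2)
      rcases hq.2 with e2 | e2
      · left
        calc va * D.xv * va⁻¹ = va * (va⁻¹ * vb * D.xv * (va⁻¹ * vb)⁻¹) * va⁻¹ := by rw [e2]
          _ = _ := by group
      · right
        have e3 : va * (D.xv * tE) * va⁻¹ = vb * D.xv * vb⁻¹ := by
          rw [← e2]; group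
        rw [← e3]
        calc va * D.xv * va⁻¹ = va * (D.xv * (tE * tE)) * va⁻¹ := by rw [tE_sq, mul_one]
          _ = va * (D.xv * tE) * (tE * va⁻¹) := by group
          _ = va * (D.xv * tE) * (va⁻¹ * tE) := by rw [tE_central (inv_mem hva)]
          _ = _ := by group
    have hev : ∀ n < N, ctx.ev (cjX (unW (S.get n)) D.x) =
        ctx.ev (unW (S.get n)) * D.xv * (ctx.ev (unW (S.get n)))⁻¹ := fun n hn => ev_cjX (hS' n hn).1.1 _
    have hlt : ∀ n < N, ∀ s ∈ cjX (unW (S.get n)) D.x, s < ctx.k := fun n hn => ltB_iff.mp (hS' n hn).1.2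
    have hlt' : ∀ n < N, ∀ s ∈ cjX (unW (S.get n)) D.x ++ [Co3Rec.Data.tL], s < ctx.k := fun n hn s hs => by
      rcases List.mem_append.mp hs with hs | hs
      exacts [hlt n hn s hs, tL_ltk' s hs]
    have happ : ∀ l : List ℕ, ctx.ev (l ++ [Co3Rec.Data.tL]) = ctx.ev l * tE := fun l => by
      rw [Ctx.ev_append, ctx.ev_single]; rfl
    have hab : mk a = mk b := by
      rcases hcases with e2 | e2
      · have k1 := ctx.key_eq (hlt a p.1.2) (hlt b p'.1.2) (by rw [hev a p.1.2, hev b p'.1.2]; exact e2)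
        have k2 := ctx.key_eq (hlt' a p.1.2) (hlt' b p'.1.2)
          (by rw [happ, happ, hev a p.1.2, hev b p'.1.2]; exact congrArg (· * _) e2)
        rw [hmk, hmk, show Co3Rec.Data.codes = ctx.cs from rfl, k1, k2]
      · have k1 := ctx.key_eq (hlt a p.1.2) (hlt' b p'.1.2)
          (by rw [happ, hev a p.1.2, hev b p'.1.2]; exact e2)
        have k2 := ctx.key_eq (hlt' a p.1.2) (hlt b p'.1.2)
          (by
            rw [happ, hev a p.1.2, hev b p'.1.2]
            change va * D.xv * va⁻¹ * tE = vb * D.xv * vb⁻¹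
            rw [e2, mul_assoc, tE_sq, mul_one])
        rw [hmk, hmk, show Co3Rec.Data.codes = ctx.cs from rfl, k1, k2]
        exact min_comm _ _
    rcases Nat.lt_trichotomy a b with h1 | h1 | h1
    · exact absurd hab (hmono _ _ h1 p'.1.2).ne
    · exact hne (Fin.ext h1)
    · exact absurd hab (hmono _ _ h1 p.1.2).ne'
  rw [key] at e1
  exact Prod.ext key (Subtype.ext (mul_left_cancel e1))

/-- Check of a list of involutions of the third class in a stabiliser. -/
noncomputable def uB (D : QTab) (S : Store) (N : ℕ) : Bool :=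
  allBelow N fun i => inC (unW (S.get i)) && ltB Co3Rec.Data.k (cjW (unW (S.get i)) Co3Rec.Data.bL) &&
    (same (cjW (unW (S.get i)) Co3Rec.Data.bL ++ pW D.x) (pW D.x ++ cjW (unW (S.get i)) Co3Rec.Data.bL) ||
      same (cjW (unW (S.get i)) Co3Rec.Data.bL ++ pW D.x)
        (pW D.x ++ Co3Rec.Data.tL :: cjW (unW (S.get i)) Co3Rec.Data.bL)) &&
    (Nat.beq (Nat.succ i) N || Nat.blt (keyW Co3Rec.Data.codes (cjW (unW (S.get i)) Co3Rec.Data.bL))
      (keyW Co3Rec.Data.codes (cjW (unW (S.get (Nat.succ i))) Co3Rec.Data.bL)))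

theorem card_U_ge {D : QTab} (h : D.Ok) {S : Store} {N : ℕ} (hS : uB D S N = true) :
    N ≤ Nat.card {u : R // IsB u ∧ u ∈ Stab D h} := by
  have hS' := allBelow_eq_true.mp hS
  simp only [Bool.and_eq_true] at hS'
  have hkeys : allBelow N (fun i => ltB Co3Rec.Data.k (cjW (unW (S.get i)) Co3Rec.Data.bL) &&
      (Nat.beq (Nat.succ i) N || Nat.blt (keyW Co3Rec.Data.codes (cjW (unW (S.get i)) Co3Rec.Data.bL))
        (keyW Co3Rec.Data.codes (cjW (unW (S.get (Nat.succ i))) Co3Rec.Data.bL)))) = true :=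
    allBelow_eq_true.mpr fun i hi => by
      rw [Bool.and_eq_true]
      exact ⟨(hS' i hi).1.1.2, (hS' i hi).2⟩
  conv_lhs => rw [← Nat.card_fin N]
  refine Nat.card_le_card_of_injective (fun i : Fin N =>
    (⟨ctx.ev (cjW (unW (S.get i)) Co3Rec.Data.bL), ⟨_, ev_cjW (hS' i i.2).1.1.1⟩, ?_⟩ :
      {u : R // IsB u ∧ u ∈ Stab D h})) fun i j e => Fin.ext (index_eq_of_keys _ hkeys i.2 j.2 (congrArg Subtype.val e))
  obtain ⟨⟨⟨hin, -⟩, hcx⟩, -⟩ := hS' i i.2
  have hmem : ctx.ev (cjW (unW (S.get i)) Co3Rec.Data.bL) ∈ C0 := by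
    rw [ev_cjW hin]; exact mul_mem (mul_mem (ev_mem hin) bE_mem) (inv_mem (ev_mem hin))
  refine ⟨hmem, ?_⟩
  simp only [Bool.or_eq_true] at hcx
  have key : ∀ w x : List ℕ, same (w ++ x) (x ++ w) = true ∨
      same (w ++ x) (x ++ Co3Rec.Data.tL :: w) = true →
      ctx.ev w * ctx.ev x * (ctx.ev w)⁻¹ = ctx.ev x ∨
        ctx.ev w * ctx.ev x * (ctx.ev w)⁻¹ = ctx.ev x * tE := by
    intro w x hwx
    rcases hwx with e | e <;> have e' := eq_of_same e <;>
      simp only [Ctx.ev_append, Ctx.ev_cons] at e'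
    · exact Or.inl (mul_inv_eq_iff_eq_mul.mpr e')
    · exact Or.inr (mul_inv_eq_iff_eq_mul.mpr (by rw [mul_assoc]; exact e'))
  exact key _ _ hcx

theorem five_ok : (ltB 3 GData.fiveW &&
    same (GData.fiveW ++ (GData.fiveW ++ (GData.fiveW ++ (GData.fiveW ++ GData.fiveW)))) [] &&
    !(same GData.fiveW []) && same (GData.fiveW ++ pW GData.xA) (pW GData.xA ++ GData.fiveW)) = true := by
  decide +kernel

/-- An element of order five commuting with the root of the second kind. -/
theorem exists_five : ∃ u ∈ C0, u * xA = xA * u ∧ orderOf u = 5 := by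
  have h := five_ok
  simp only [Bool.and_eq_true, Bool.not_eq_true'] at h
  obtain ⟨⟨⟨h3, h5⟩, h1⟩, hc⟩ := h
  have hk : ∀ s ∈ GData.fiveW, s < ctx.k := fun s hs =>
    lt_of_lt_of_le (ltB_iff.mp h3 s hs) three_le
  have : Fact (Nat.Prime 5) := ⟨by norm_num⟩
  refine ⟨ctx.ev GData.fiveW, ev_mem_of_small (ltB_iff.mp h3), ?_, orderOf_eq_prime ?_ fun e => ?_⟩
  · have e := eq_of_same hc
    rwa [Ctx.ev_append, Ctx.ev_append] at e
  · have e := eq_of_same h5
    simp only [Ctx.ev_append, Ctx.ev_nil] at e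
    calc ctx.ev GData.fiveW ^ 5 = _ := by simp only [pow_succ, pow_zero, one_mul, mul_assoc]
      _ = 1 := e
  · rw [same_of_eq (b := []) hk (by simp) (e.trans ctx.ev_nil.symm)] at h1
    exact Bool.noConfusion h1

theorem lists_ok : orbB qC GData.orbC GData.orbCN = true ∧ orbB qA GData.orbA GData.orbAN = true ∧
    orbB qB GData.orbB GData.orbBN = true ∧ uB qC GData.uConjC GData.uConjCN = true ∧
    uB qA GData.uConjA GData.uConjAN = true ∧ uB qB GData.uConjB GData.uConjBN = true ∧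
    GData.orbCN = 570 ∧ GData.orbAN = 63 ∧ GData.orbBN = 315 ∧
    GData.uConjCN = 264 ∧ GData.uConjAN = 200 ∧ GData.uConjBN = 456 := by
  refine ⟨?_, ?_, ?_, ?_, ?_, ?_, ?_, ?_, ?_, ?_, ?_, ?_⟩ <;> decide +kernel

/-- A subgroup of a stabiliser through the four elements avoiding given elements is small. -/
theorem card_le_avoid {D : QTab} (h : D.Ok) {S : Store} {N m : ℕ} (hS : orbB D S N = true)
    (hNm : 2903040 < N * (1024 * (m + 1))) {f : ℕ → Bool} (hm : D.maskB f = true) {F : R → Prop}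
    (hfF : ∀ i < Co3Rec.Data.pN, f i = true → F (ctx.ev (pW i)))
    (hFc : ∀ g ∈ C0, ∀ y, F y → F (g * y * g⁻¹))
    {Cm : ℕ → ℕ → Bool} {k : ℕ} {T : CTree} (hchk : checkT D.Q Cm k T [] D.mask = true)
    {I : Subgroup R} (hI : I ≤ Stab D h) (hx : D.xv ∈ I) (ht : tE ∈ I) (hF : ∀ y ∈ I, ¬ F y)
    (hC : (∀ a b, Cm a b = true) ∨ ((∀ a ∈ I, ∀ b ∈ I, a * b = b * a) ∧
      ∀ a < 256, ∀ b < 256, D.qv a * D.qv b = D.qv b * D.qv a → Cm a b = true)) :
    Nat.card I ≤ 4 * k * m := by
  classical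
  have : Fact (Nat.Prime 2) := ⟨Nat.prime_two⟩
  obtain ⟨m', hm'⟩ := Subgroup.card_dvd_of_le (P0_le_Stab h)
  rw [card_P0] at hm'
  have hmm : m' ≤ m := by
    have h1 := card_Stab_le h hS
    rw [hm'] at h1
    by_contra hlt
    push Not at hlt
    have := Nat.mul_le_mul_left N (Nat.mul_le_mul_left 1024 hlt)
    norm_num at h1 this hNm ⊢
    omega
  have hpos : 0 < m' := by
    rcases Nat.eq_zero_or_pos m' with e | e
    · rw [e, mul_zero] at hm'; exact absurd hm' Nat.card_pos.ne'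
    · exact e
  have hm2 : ¬ 2 ∣ m' := fun hd => by
    have h1 : 2 ^ 10 * m' ∣ 2 ^ 10 * 2835 := by
      rw [← hm', ← card_C0_two]; exact Subgroup.card_dvd_of_le fun y hy => hy.1
    exact absurd (hd.trans (Nat.dvd_of_mul_dvd_mul_left (by norm_num) h1)) (by norm_num)
  let B : Subgroup I := (QTab.base h).subgroupOf I
  have hB : IsPGroup 2 B := by
    intro y
    have hy : ((y : I) : R) ∈ QTab.base h := Subgroup.mem_subgroupOf.mp y.2
    refine ⟨2, Subtype.ext (Subtype.ext ?_)⟩
    show ((y : I) : R) ^ 2 ^ 2 = 1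
    have p4 : ∀ z : R, (z * z = 1 ∨ z * z = tE) → z ^ 2 ^ 2 = 1 := fun z hz => by
      rw [show z ^ 2 ^ 2 = (z * z) * (z * z) by
        rw [show (2 : ℕ) ^ 2 = 4 by norm_num]; simp only [pow_succ, pow_zero, one_mul, mul_assoc]]
      rcases hz with e | e <;> simp [e, tE_sq]
    apply p4
    rcases hy with e | e | e | e <;> rw [e]
    · simp
    · exact Or.inl tE_sq
    · exact h.xv_sq
    · rw [show D.xv * tE * (D.xv * tE) = D.xv * D.xv * (tE * tE) by
        rw [mul_assoc, ← mul_assoc tE, ← tE_central h.xv_mem]; group, tE_sq, mul_one]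
      exact h.xv_sq
  obtain ⟨P, hP⟩ := hB.exists_le_sylow
  have hodd : ¬ 2 ∣ (P : Subgroup I).index := Sylow.not_dvd_index P
  have hdvd : (P : Subgroup I).index ∣ m' := by
    have h1 : (P : Subgroup I).index ∣ 2 ^ 10 * m' := by
      rw [← hm']
      exact (Subgroup.index_dvd_card _).trans (Subgroup.card_dvd_of_le hI)
    exact (Nat.Coprime.dvd_of_dvd_mul_left
      (Nat.Coprime.pow_right _ ((Nat.prime_two.coprime_iff_not_dvd.mpr hodd).symm)) h1)
  let Q : Subgroup (Stab D h) := ((P : Subgroup I).map I.subtype).subgroupOf (Stab D h)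
  have hQ : IsPGroup 2 Q := (P.2.map I.subtype).comap_subtype
  obtain ⟨g, hg⟩ := conj_into (P0.subgroupOf (Stab D h)) (k := 10) (m := m')
    (by rw [Nat.card_congr (Subgroup.subgroupOfEquivOfLe (P0_le_Stab h)).toEquiv, card_P0]) hm' hm2 hQ
  let c : I →* R := (MulAut.conj (g : R)).toMonoidHom.comp I.subtype
  have hcinj : Function.Injective c := fun a b e => Subtype.ext ((MulAut.conj (g : R)).injective e)
  let S' : Subgroup R := (P : Subgroup I).map c
  have hcard : Nat.card S' = Nat.card (P : Subgroup I) :=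
    Nat.card_congr ((P : Subgroup I).equivMapOfInjective c hcinj).toEquiv.symm
  have hS' : S' ≤ P0 := by
    rintro _ ⟨y, hy, rfl⟩
    have := hg ⟨(y : R), hI y.2⟩ (Subgroup.mem_subgroupOf.mpr ⟨y, hy, rfl⟩)
    exact Subgroup.mem_subgroupOf.mp this
  have hgC : (g : R) ∈ C0 := g.2.1
  have hmemB : ∀ e ∈ QTab.base h, ∀ he : e ∈ I, (⟨e, he⟩ : I) ∈ (P : Subgroup I) := fun e he heI =>
    hP (Subgroup.mem_subgroupOf.mpr he)
  have htS : tE ∈ S' := ⟨⟨tE, ht⟩, hmemB _ (Or.inr (Or.inl rfl)) _, by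
    show (g : R) * tE * (g : R)⁻¹ = tE
    rw [tE_central hgC, mul_inv_cancel_right]⟩
  have hxS : D.xv ∈ S' := by
    rcases g.2.2 with e | e
    · exact ⟨⟨D.xv, hx⟩, hmemB _ (Or.inr (Or.inr (Or.inl rfl))) _, e⟩
    · refine ⟨⟨D.xv * tE, mul_mem hx ht⟩, hmemB _ (Or.inr (Or.inr (Or.inr rfl))) _, ?_⟩
      show (g : R) * (D.xv * tE) * (g : R)⁻¹ = D.xv
      rw [show (g : R) * (D.xv * tE) * (g : R)⁻¹ = (g : R) * D.xv * (g : R)⁻¹ * ((g : R) * tE * (g : R)⁻¹)
        by group, e, tE_central hgC, mul_inv_cancel_right, mul_assoc, tE_sq, mul_one]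
  have hk : Nat.card S' ≤ 4 * k := by
    refine h.card_le hm hS' hxS htS (fun i hi hfi hmem => ?_) (fun a ha b hb hSa hSb => ?_) hchk
    · obtain ⟨y, -, hy⟩ := hmem
      have hy' : (g : R) * (y : R) * (g : R)⁻¹ = ctx.ev (pW i) := hy
      have := hFc _ (inv_mem hgC) _ (hfF i hi hfi)
      rw [← hy', inv_inv, show (g : R)⁻¹ * ((g : R) * (y : R) * (g : R)⁻¹) * (g : R) = (y : R) by group]
        at this
      exact hF _ y.2 this
    · rcases hC with hC | ⟨hcomm, hC⟩
      · exact hC a b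
      · refine hC a ha b hb ?_
        obtain ⟨y, -, hy⟩ := hSa
        obtain ⟨z, -, hz⟩ := hSb
        rw [← hy, ← hz, ← map_mul, ← map_mul,
          show y * z = z * y from Subtype.ext (hcomm y y.2 z z.2)]
  calc Nat.card I = Nat.card (P : Subgroup I) * (P : Subgroup I).index :=
        ((P : Subgroup I).card_mul_index).symm
    _ ≤ 4 * k * m := Nat.mul_le_mul (hcard ▸ hk) ((Nat.le_of_dvd hpos hdvd).trans hmm)

end Cfsg.Agent.Co3TwoM12
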