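import Cfsg.Agent.Co3Rec.Classes
import Cfsg.Agent.Co3TwoM12.Avg
import Cfsg.Agent.Co3TwoM12.Lists
import Cfsg.Agent.Invol.SEPairs

/-!
A copy of the third Conway group containing the centraliser of an involution of its third class is
the whole group: the centraliser of the other involution is inside, class by class of its quotient,
and strongly embedded subgroups do the rest.
-/

set_option autoImplicit false
set_option maxRecDepth 100000

namespace Cfsg.Agent.Co3TwoM12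

open Cfsg Cfsg.Agent.Compute Cfsg.Agent.StemCert
open Cfsg.Agent.Co3Rec

variable {G : Type*} [Group G] {θ : R →* G}

/-- The hypothesis on the centraliser. -/
def CentB (θ : R →* G) : Prop := ∀ g : G, g * θ bE = θ bE * g → g ∈ θ.range

theorem aL_ne_tL : same [Co3Rec.Data.aL] [Co3Rec.Data.tL] = false := by decide +kernel

theorem aE_ne_tE : aE ≠ tE := fun e => by
  have h := aL_ne_tL
  rw [same_of_eq (fun s hs => (List.mem_singleton.mp hs) ▸ lt_of_lt_of_le aL_lt.1 kC_le) tL_ltk'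
    (by rw [ctx.ev_single, ctx.ev_single]; exact e)] at h
  exact Bool.noConfusion h

theorem tE_square : ∃ w : R, w * w = tE := ⟨xC, xC_sq⟩

theorem not_conj_T_B (hinj : Function.Injective θ) (hC : CentB θ) (g : G) :
    g * θ tE * g⁻¹ ≠ θ bE := fun e => by
  obtain ⟨w, hw⟩ := tE_square
  set u := g * θ w * g⁻¹ with hu
  have h2 : u * u = θ bE := by
    rw [← e, ← hw, map_mul, hu]; group
  obtain ⟨y, hy⟩ := hC u (by rw [← h2]; exact (mul_assoc u u u).symm)
  exact b_not_square_R (hinj (by rw [map_mul, hy]; exact h2))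

theorem isB_image (hinj : Function.Injective θ) (hC : CentB θ) {x y : R} (hx : IsB x) {g : G}
    (h : g * θ x * g⁻¹ = θ y) : IsB y := by
  have h2 : y * y = 1 := hinj (by
    rw [map_mul, map_one, ← h]
    calc g * θ x * g⁻¹ * (g * θ x * g⁻¹) = g * θ (x * x) * g⁻¹ := by rw [map_mul]; group
      _ = 1 := by rw [hx.sq, map_one]; group)
  obtain ⟨p, rfl⟩ := hx
  have h1 : y ≠ 1 := fun e => bE_ne.1 (hinj (by
    rw [e, map_one] at h
    rw [map_one]
    have := conj_eq_one_iff.mp h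
    rw [map_mul, map_mul, map_inv] at this
    exact conj_eq_one_iff.mp this))
  refine (involution_R h2 h1).resolve_left ?_
  rintro ⟨q, rfl⟩
  refine not_conj_T_B hinj hC ((θ p)⁻¹ * g⁻¹ * θ q) ?_
  simp only [map_mul, map_inv] at h
  calc (θ p)⁻¹ * g⁻¹ * θ q * θ tE * ((θ p)⁻¹ * g⁻¹ * θ q)⁻¹ =
        (θ p)⁻¹ * (g⁻¹ * (θ q * θ tE * (θ q)⁻¹) * g) * θ p := by group
    _ = θ bE := by rw [← h]; group

/-- An element carrying an involution of the third class of the image into it lies in it. -/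
theorem transferB (hinj : Function.Injective θ) (hC : CentB θ) {x : R} (hx : IsB x) {g : G}
    (h : g * θ x * g⁻¹ ∈ θ.range) : g ∈ θ.range := by
  obtain ⟨y, hy⟩ := h
  obtain ⟨q, rfl⟩ := isB_image hinj hC hx hy.symm
  obtain ⟨p, rfl⟩ := hx
  simp only [map_mul, map_inv] at hy
  have h2 : (θ q)⁻¹ * g * θ p ∈ θ.range := hC _ (by
    calc (θ q)⁻¹ * g * θ p * θ bE = (θ q)⁻¹ * (g * (θ p * θ bE * (θ p)⁻¹) * g⁻¹) * g * θ p := by group
      _ = _ := by rw [← hy]; group)
  rw [show g = θ q * ((θ q)⁻¹ * g * θ p) * (θ p)⁻¹ by group]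
  exact mul_mem (mul_mem ⟨q, rfl⟩ h2) (inv_mem ⟨p, rfl⟩)

theorem comm_of_K (hinj : Function.Injective θ) {y : R} (h : θ y * θ tE = θ tE * θ y) : y ∈ C0 :=
  mem_C0_of_comm (hinj (by rw [map_mul, map_mul]; exact h))

theorem image_mem (hinj : Function.Injective θ) {g : G} (hg : g * θ tE = θ tE * g) {y z : R}
    (hy : y ∈ C0) (h : g * θ y * g⁻¹ = θ z) : z ∈ C0 := by
  refine comm_of_K hinj ?_
  have c1 : Commute g (θ tE) := hg
  have c2 : Commute (θ y) (θ tE) := by
    show θ y * θ tE = _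
    rw [← map_mul, tE_central hy, map_mul]
  rw [← h]
  exact (((c1.mul_left c2).mul_left c1.inv_left)).eq

theorem comm_K_inv {g : G} (hg : g * θ tE = θ tE * g) : g⁻¹ * θ tE = θ tE * g⁻¹ :=
  (Commute.inv_left (show Commute g (θ tE) from hg)).eq

/-- The elements centralising the image of the central involution and fixing an element modulo it. -/
noncomputable def LStab (θ : R →* G) (D : QTab) (h : D.Ok) : Subgroup G where
  carrier := {g | g * θ tE = θ tE * g ∧ (g * θ D.xv * g⁻¹ = θ D.xv ∨ g * θ D.xv * g⁻¹ = θ D.xv * θ tE)}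
  one_mem' := ⟨by simp, Or.inl (by simp)⟩
  mul_mem' := by
    rintro a b ⟨ha, ha'⟩ ⟨hb, hb'⟩
    refine ⟨((show Commute a (θ tE) from ha).mul_left hb).eq, ?_⟩
    have e : a * b * θ D.xv * (a * b)⁻¹ = a * (b * θ D.xv * b⁻¹) * a⁻¹ := by group
    have e2 : a * (θ D.xv * θ tE) * a⁻¹ = a * θ D.xv * a⁻¹ * θ tE := by
      calc a * (θ D.xv * θ tE) * a⁻¹ = a * θ D.xv * (θ tE * a⁻¹) := by group
        _ = a * θ D.xv * (a⁻¹ * θ tE) := by rw [comm_K_inv ha]
        _ = _ := by group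
    rw [e]
    rcases hb' with e' | e' <;> rw [e']
    · exact ha'
    · rw [e2]
      rcases ha' with e' | e' <;> rw [e']
      · exact Or.inr rfl
      · left; rw [mul_assoc, ← map_mul, tE_sq, map_one, mul_one]
  inv_mem' := by
    rintro a ⟨ha, ha'⟩
    refine ⟨comm_K_inv ha, ?_⟩
    have t2 : θ tE * θ tE = 1 := by rw [← map_mul, tE_sq, map_one]
    rcases ha' with e | e
    · left
      calc a⁻¹ * θ D.xv * a⁻¹⁻¹ = a⁻¹ * (a * θ D.xv * a⁻¹) * a := by rw [e, inv_inv]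
        _ = θ D.xv := by group
    · right
      calc a⁻¹ * θ D.xv * a⁻¹⁻¹ = a⁻¹ * (θ D.xv * θ tE) * (θ tE * a) := by
            rw [← mul_assoc _ (θ tE) a, mul_assoc a⁻¹ (θ D.xv * θ tE) (θ tE), mul_assoc (θ D.xv), t2,
              mul_one, inv_inv]
        _ = a⁻¹ * (a * θ D.xv * a⁻¹) * (a * θ tE) := by rw [e, ha]
        _ = θ D.xv * θ tE := by group

theorem theta_mem_LStab (hinj : Function.Injective θ) {D : QTab} {h : D.Ok} {y : R} :
    θ y ∈ LStab θ D h ↔ y ∈ Stab D h := by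
  constructor
  · rintro ⟨h1, h2⟩
    refine ⟨comm_of_K hinj h1, ?_⟩
    rw [← map_inv, ← map_mul, ← map_mul, ← map_mul] at h2
    exact h2.imp (fun e => hinj e) fun e => hinj e
  · rintro ⟨h1, h2⟩
    refine ⟨by rw [← map_mul, ← map_mul, tE_central h1], ?_⟩
    rw [← map_inv, ← map_mul, ← map_mul, ← map_mul]
    exact h2.imp (congrArg θ) (congrArg θ)

/-- The stabiliser is inside as soon as the avoiding subgroups are small. -/
theorem LStab_le [Finite G] (hinj : Function.Injective θ) (hC : CentB θ) (D : QTab) (h : D.Ok)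
    {F : R → Prop} (hF : ∀ y, F y → y ∈ C0 → ∀ g : G, g * θ tE = θ tE * g →
      g * θ y * g⁻¹ ∈ θ.range → g ∈ θ.range)
    (hsmall : ∀ I : Subgroup R, I ≤ Stab D h → D.xv ∈ I → tE ∈ I → (∀ y ∈ I, ¬ F y) →
      ∀ v : G, Nat.card {u : R // IsB u ∧ u ∈ Stab D h} ≤
          Nat.card {y : R // y ∈ I ∧ v * θ y * v⁻¹ = (θ y)⁻¹} → False) :
    LStab θ D h ≤ θ.range := by
  classical
  by_contra hnot
  let U : Set G := θ '' {u | IsB u ∧ u ∈ Stab D h}
  have hU : ∀ u ∈ U, u ∈ LStab θ D h ∧ u ∈ θ.range ∧ u * u = 1 := by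
    rintro _ ⟨u, ⟨hu, huS⟩, rfl⟩
    exact ⟨(theta_mem_LStab hinj).mpr huS, ⟨u, rfl⟩, by rw [← map_mul, hu.sq, map_one]⟩
  have htr : ∀ g ∈ LStab θ D h, ∀ u ∈ U, g * u * g⁻¹ ∈ θ.range →
      g ∈ θ.range ∧ g * u * g⁻¹ ∈ U := by
    rintro g hg _ ⟨u, ⟨hu, huS⟩, rfl⟩ hgu
    obtain ⟨y, hy⟩ := hgu
    refine ⟨transferB hinj hC hu ⟨y, hy⟩, y, ⟨isB_image hinj hC hu hy.symm, ?_⟩, hy⟩
    refine (theta_mem_LStab hinj).mp ?_
    rw [hy]
    exact mul_mem (mul_mem hg ((theta_mem_LStab hinj).mpr huS)) (inv_mem hg)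
  obtain ⟨v, hvL, hvM, hcard⟩ := exists_inverting hnot U hU htr
  let I : Subgroup R := Stab D h ⊓ (θ.range.comap ((MulAut.conj v).toMonoidHom.comp θ))
  have memI : ∀ {y : R}, y ∈ I ↔ y ∈ Stab D h ∧ v * θ y * v⁻¹ ∈ θ.range := fun {y} => Iff.rfl
  obtain ⟨hvt, hvx⟩ := hvL
  have hxI : D.xv ∈ I := memI.mpr ⟨⟨h.xv_mem, Or.inl (by group)⟩, by
    rcases hvx with e | e <;> rw [e]
    · exact ⟨_, rfl⟩
    · exact mul_mem ⟨_, rfl⟩ ⟨_, rfl⟩⟩
  have htI : tE ∈ I := by
    refine memI.mpr ⟨⟨tE_mem, Or.inl ?_⟩, ?_⟩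
    · rw [← tE_central h.xv_mem, mul_inv_cancel_right]
    · rw [hvt, mul_inv_cancel_right]; exact ⟨_, rfl⟩
  have hFI : ∀ y ∈ I, ¬ F y := fun y hy hFy =>
    hvM (hF y hFy (memI.mp hy).1.1 v hvt (memI.mp hy).2)
  refine hsmall I inf_le_left hxI htI hFI v ?_
  have hUcard : Nat.card {u : R // IsB u ∧ u ∈ Stab D h} = Nat.card U :=
    (Nat.card_image_of_injective hinj _).symm
  rw [hUcard]
  refine hcard.trans ?_
  have hmem : ∀ y : {y : G // y ∈ LStab θ D h ∧ y ∈ θ.range ∧ v * y * v⁻¹ = y⁻¹},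
      ∃ z : R, θ z = (y : G) := fun y => y.2.2.1
  choose f hf using hmem
  refine Nat.card_le_card_of_injective (fun y => (⟨f y, memI.mpr ⟨(theta_mem_LStab hinj).mp
    ((hf y).symm ▸ y.2.1), ?_⟩, ?_⟩ : {z : R // z ∈ I ∧ v * θ z * v⁻¹ = (θ z)⁻¹})) fun y z e => ?_
  · rw [hf y, y.2.2.2]; exact inv_mem y.2.2.1
  · rw [hf y]; exact y.2.2.2
  · have e' : f y = f z := congrArg Subtype.val e
    exact Subtype.ext (by rw [← hf y, ← hf z, e'])

theorem card_inverted_le {I : Subgroup R} [Finite R] (v : G) :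
    Nat.card {y : R // y ∈ I ∧ v * θ y * v⁻¹ = (θ y)⁻¹} ≤ Nat.card I :=
  Nat.card_le_card_of_injective (fun y => ⟨y.1, y.2.1⟩) fun _ _ e => Subtype.ext (Subtype.mk.inj e)

/-- The stabiliser of the root of the first kind is inside. -/
theorem LC_le [Finite G] (hinj : Function.Injective θ) (hC : CentB θ) :
    LStab θ qC qC_ok ≤ θ.range := by
  obtain ⟨o, -, -, u, -, -, oN, -, -, uN, -, -⟩ := lists_ok
  refine LStab_le hinj hC qC qC_ok (F := IsB) (fun y hy _ g _ hg => transferB hinj hC hy hg)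
    fun I hI hx ht hF v hcard => ?_
  have hb := card_le_avoid qC_ok o (m := 4) (by rw [oN]; norm_num) masks_ok.1 (F := IsB)
    (fun i hi hfi => isB_pW hi hfi) (fun g _ y hy => hy.conj g) treeC_ok hI hx ht hF
    (Or.inl fun _ _ => rfl)
  have hN := card_U_ge qC_ok u
  have := (hN.trans hcard).trans (card_inverted_le v)
  omega

/-- The image of the root of the first kind is of the same kind. -/
theorem conjC_image [Finite G] (hinj : Function.Injective θ) (hC : CentB θ) {y z : R}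
    (hy : ConjC0 xC y) {g : G} (hg : g * θ tE = θ tE * g) (h : g * θ y * g⁻¹ = θ z) :
    ConjC0 xC z := by
  obtain ⟨a, ha, rfl⟩ := hy
  have hz : z ∈ C0 := image_mem hinj hg
    (mul_mem (mul_mem ha qC_ok.xv_mem) (inv_mem ha)) h
  have hz2 : z * z = tE := hinj (by
    rw [map_mul, ← h]
    calc g * θ (a * xC * a⁻¹) * g⁻¹ * (g * θ (a * xC * a⁻¹) * g⁻¹) =
          g * θ (a * (xC * xC) * a⁻¹) * g⁻¹ := by simp only [map_mul, map_inv]; group
      _ = θ tE := by rw [xC_sq, tE_central ha, mul_inv_cancel_right, hg, mul_inv_cancel_right])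
  refine (root_C0 hz hz2).resolve_right ?_
  rintro ⟨b, hb, rfl⟩
  obtain ⟨u, hu, hux, hu5⟩ := exists_five
  set k : G := (θ b)⁻¹ * g * θ a with hk
  have hkt : k * θ tE = θ tE * k := by
    have ca : Commute (θ a) (θ tE) := by show θ a * θ tE = _; rw [← map_mul, tE_central ha, map_mul]
    have cb : Commute (θ b) (θ tE) := by show θ b * θ tE = _; rw [← map_mul, tE_central hb, map_mul]
    exact ((cb.inv_left.mul_left hg).mul_left ca).eq
  have hkx : k * θ xC * k⁻¹ = θ xA := by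
    simp only [map_mul, map_inv] at h
    calc k * θ xC * k⁻¹ = (θ b)⁻¹ * (g * (θ a * θ xC * (θ a)⁻¹) * g⁻¹) * θ b := by rw [hk]; group
      _ = θ xA := by rw [h]; group
  have hut : θ u * θ tE = θ tE * θ u := by rw [← map_mul, tE_central hu, map_mul]
  have hmem : k⁻¹ * θ u * k ∈ LStab θ qC qC_ok := by
    refine ⟨(((show Commute k (θ tE) from hkt).inv_left.mul_left hut).mul_left hkt).eq, Or.inl ?_⟩
    have hx' : θ xC = k⁻¹ * θ xA * k := by rw [← hkx]; group
    rw [hx']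
    calc k⁻¹ * θ u * k * (k⁻¹ * θ xA * k) * (k⁻¹ * θ u * k)⁻¹ =
          k⁻¹ * (θ (u * xA) * (θ u)⁻¹) * k := by rw [map_mul]; group
      _ = _ := by rw [hux, map_mul, mul_inv_cancel_right]
  obtain ⟨w, hw⟩ := LC_le hinj hC hmem
  have hwS : w ∈ Stab qC qC_ok := (theta_mem_LStab hinj).mp (hw ▸ hmem)
  have hw5 : orderOf w = 5 := by
    rw [← orderOf_injective θ hinj w, hw, ← hu5, ← orderOf_injective θ hinj u,
      ← orderOf_injective (MulAut.conj k⁻¹).toMonoidHom (MulAut.conj k⁻¹).injective (θ u)]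
    simp
  obtain ⟨o, -, -, -, -, -, oN, -, -, -, -, -⟩ := lists_ok
  have hdvd : 5 ∣ Nat.card (Stab qC qC_ok) := by
    rw [← hw5, ← Subgroup.orderOf_mk (H := Stab qC qC_ok) w hwS]
    exact orderOf_dvd_natCard _
  obtain ⟨m', hm'⟩ := Subgroup.card_dvd_of_le (P0_le_Stab qC_ok)
  rw [card_P0] at hm'
  have hle := card_Stab_le qC_ok o
  rw [oN] at hle
  rw [hm'] at hle hdvd
  have h5 : 5 ∣ m' := (Nat.Coprime.dvd_of_dvd_mul_left (by norm_num) hdvd)
  have : 0 < m' := by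
    rcases Nat.eq_zero_or_pos m' with e | e
    · rw [e, mul_zero] at hm'; exact absurd hm' Nat.card_pos.ne'
    · exact e
  have := Nat.le_of_dvd this h5
  omega

/-- An element carrying a conjugate of the root of a kind to another one is inside. -/
theorem conj_move (D : QTab) (h : D.Ok) (hL : LStab θ D h ≤ θ.range) {y z : R} (hy : ConjC0 D.xv y)
    (hz : ConjC0 D.xv z) {g : G} (hg : g * θ tE = θ tE * g) (e : g * θ y * g⁻¹ = θ z) :
    g ∈ θ.range := by
  obtain ⟨a, ha, rfl⟩ := hy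
  obtain ⟨b, hb, rfl⟩ := hz
  have ca : Commute (θ a) (θ tE) := by show θ a * θ tE = _; rw [← map_mul, tE_central ha, map_mul]
  have cb : Commute (θ b) (θ tE) := by show θ b * θ tE = _; rw [← map_mul, tE_central hb, map_mul]
  simp only [map_mul, map_inv] at e
  have h1 : (θ b)⁻¹ * g * θ a ∈ LStab θ D h := by
    refine ⟨((cb.inv_left.mul_left hg).mul_left ca).eq, Or.inl ?_⟩
    calc (θ b)⁻¹ * g * θ a * θ D.xv * ((θ b)⁻¹ * g * θ a)⁻¹ =
          (θ b)⁻¹ * (g * (θ a * θ D.xv * (θ a)⁻¹) * g⁻¹) * θ b := by group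
      _ = _ := by rw [e]; group
  rw [show g = θ b * ((θ b)⁻¹ * g * θ a) * (θ a)⁻¹ by group]
  exact mul_mem (mul_mem ⟨b, rfl⟩ (hL h1)) (inv_mem ⟨a, rfl⟩)

theorem transferC [Finite G] (hinj : Function.Injective θ) (hC : CentB θ) {y : R}
    (hy : ConjC0 xC y) {g : G} (hg : g * θ tE = θ tE * g) (h : g * θ y * g⁻¹ ∈ θ.range) :
    g ∈ θ.range := by
  obtain ⟨z, hz⟩ := h
  exact conj_move qC qC_ok (LC_le hinj hC) hy (conjC_image hinj hC hy hg hz.symm) hg hz.symm

/-- The stabiliser of the root of the second kind is inside. -/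
theorem LA_le [Finite G] (hinj : Function.Injective θ) (hC : CentB θ) :
    LStab θ qA qA_ok ≤ θ.range := by
  obtain ⟨-, o, -, -, u, -, -, oN, -, -, uN, -⟩ := lists_ok
  refine LStab_le hinj hC qA qA_ok (F := fun y => IsB y ∨ ConjC0 xC y) ?_
    fun I hI hx ht hF v hcard => ?_
  · rintro y (hy | hy) _ g hg hgy
    exacts [transferB hinj hC hy hgy, transferC hinj hC hy hg hgy]
  have hb := card_le_avoid qA_ok o (m := 45) (by rw [oN]; norm_num) masks_ok.2.1
    (F := fun y => IsB y ∨ ConjC0 xC y) (fun i hi hfi => isC_or_B hi hfi)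
    (fun g hg y hy => hy.imp (fun e => e.conj g) fun e => e.mul_left hg) treeA_ok hI hx ht hF
    (Or.inl fun _ _ => rfl)
  have hN := card_U_ge qA_ok u
  have := (hN.trans hcard).trans (card_inverted_le v)
  omega

theorem transferA [Finite G] (hinj : Function.Injective θ) (hC : CentB θ) {y : R}
    (hy : ConjC0 xA y) {g : G} (hg : g * θ tE = θ tE * g) (h : g * θ y * g⁻¹ ∈ θ.range) :
    g ∈ θ.range := by
  obtain ⟨z, hz⟩ := h
  obtain ⟨a, ha, rfl⟩ := hy
  have hyC : a * xA * a⁻¹ ∈ C0 := mul_mem (mul_mem ha qA_ok.xv_mem) (inv_mem ha)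
  have hzC : z ∈ C0 := image_mem hinj hg hyC hz.symm
  have hz2 : z * z = tE := hinj (by
    rw [map_mul, hz]
    calc g * θ (a * xA * a⁻¹) * g⁻¹ * (g * θ (a * xA * a⁻¹) * g⁻¹) =
          g * θ (a * (xA * xA) * a⁻¹) * g⁻¹ := by simp only [map_mul, map_inv]; group
      _ = θ tE := by rw [xA_sq, tE_central ha, mul_inv_cancel_right, hg, mul_inv_cancel_right])
  rcases root_C0 hzC hz2 with hc | hc
  · refine inv_mem_iff.mp (transferC hinj hC hc (comm_K_inv hg) ⟨a * xA * a⁻¹, ?_⟩)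
    rw [hz]; group
  · exact conj_move qA qA_ok (LA_le hinj hC) ⟨a, ha, rfl⟩ hc hg hz.symm

theorem transferRoot [Finite G] (hinj : Function.Injective θ) (hC : CentB θ) {y : R}
    (hy : IsB y ∨ ConjC0 xC y ∨ ConjC0 xA y) {g : G} (hg : g * θ tE = θ tE * g)
    (h : g * θ y * g⁻¹ ∈ θ.range) : g ∈ θ.range := by
  rcases hy with hy | hy | hy
  exacts [transferB hinj hC hy h, transferC hinj hC hy hg h, transferA hinj hC hy hg h]

/-- The stabiliser of the involution of the third case is inside. -/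
theorem LB_le [Finite G] (hinj : Function.Injective θ) (hC : CentB θ) :
    LStab θ qB qB_ok ≤ θ.range := by
  obtain ⟨-, -, o, -, -, u, -, -, oN, -, -, uN⟩ := lists_ok
  refine LStab_le hinj hC qB qB_ok (F := fun y => IsB y ∨ ConjC0 xC y ∨ ConjC0 xA y)
    (fun y hy _ g hg hgy => transferRoot hinj hC hy hg hgy) fun I hI hx ht hF v hcard => ?_
  have hFc : ∀ g ∈ C0, ∀ y, (IsB y ∨ ConjC0 xC y ∨ ConjC0 xA y) →
      IsB (g * y * g⁻¹) ∨ ConjC0 xC (g * y * g⁻¹) ∨ ConjC0 xA (g * y * g⁻¹) := fun g hg y hy =>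
    hy.imp (fun e => e.conj g) fun e => e.imp (fun e => e.mul_left hg) fun e => e.mul_left hg
  have hb := card_le_avoid qB_ok o (m := 9) (by rw [oN]; norm_num) masks_ok.2.2
    (F := fun y => IsB y ∨ ConjC0 xC y ∨ ConjC0 xA y) (fun i hi hfi => isRoot_or_B hi hfi)
    hFc treeB_ok.1 hI hx ht hF (Or.inl fun _ _ => rfl)
  have hN := card_U_ge qB_ok u
  have hinv : Nat.card {y : R // y ∈ I ∧ v * θ y * v⁻¹ = (θ y)⁻¹} ≤
      Nat.card {z : G // z ∈ I.map θ ∧ v * z * v⁻¹ = z⁻¹} :=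
    Nat.card_le_card_of_injective (fun y => ⟨θ y.1, ⟨y.1, y.2.1, rfl⟩, y.2.2⟩)
      fun y z e => Subtype.ext (hinj (Subtype.mk.inj e))
  have hcardI : Nat.card (I.map θ : Subgroup G) = Nat.card I :=
    Nat.card_congr (I.equivMapOfInjective θ hinj).toEquiv.symm
  have hN' := hN.trans hcard
  have hcomm := comm_of_inverted (I.map θ) v (by omega)
  have hcommI : ∀ a ∈ I, ∀ b ∈ I, a * b = b * a := fun a ha b hb => hinj (by
    rw [map_mul, map_mul]
    exact hcomm _ ⟨a, ha, rfl⟩ _ ⟨b, hb, rfl⟩)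
  have hb2 := card_le_avoid qB_ok o (m := 9) (by rw [oN]; norm_num) masks_ok.2.2
    (F := fun y => IsB y ∨ ConjC0 xC y ∨ ConjC0 xA y) (fun i hi hfi => isRoot_or_B hi hfi)
    hFc treeB_ok.2 hI hx ht hF (Or.inr ⟨hcommI, fun a ha b hb => cmB_of_comm ha hb⟩)
  have := hN'.trans (card_inverted_le v)
  omega

theorem transfer_a [Finite G] (hinj : Function.Injective θ) (hC : CentB θ) {y : R}
    (hy : ConjC0 aE y) {g : G} (hg : g * θ tE = θ tE * g) (h : g * θ y * g⁻¹ ∈ θ.range) :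
    g ∈ θ.range := by
  obtain ⟨z, hz⟩ := h
  obtain ⟨a, ha, rfl⟩ := hy
  have hyC : a * aE * a⁻¹ ∈ C0 := mul_mem (mul_mem ha aE_mem) (inv_mem ha)
  have hzC : z ∈ C0 := image_mem hinj hg hyC hz.symm
  have hz2 : z * z = 1 := hinj (by
    rw [map_mul, map_one, hz]
    calc g * θ (a * aE * a⁻¹) * g⁻¹ * (g * θ (a * aE * a⁻¹) * g⁻¹) =
          g * θ (a * (aE * aE) * a⁻¹) * g⁻¹ := by simp only [map_mul, map_inv]; group
      _ = 1 := by rw [ae_be_sq.1]; simp)
  have back : θ (a * aE * a⁻¹) = g⁻¹ * θ z * g := by rw [hz]; group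
  have hay : a * aE * a⁻¹ ≠ 1 ∧ a * aE * a⁻¹ ≠ tE := by
    refine ⟨fun e => ?_, fun e => ?_⟩
    · have := congrArg fx e
      rw [fx_conj, fx_special.2.1, fx_one] at this
      norm_num at this
    · exact aE_ne_tE (mul_left_cancel (a := a) (mul_right_cancel (b := a⁻¹)
        (by rw [e, tE_central ha, mul_inv_cancel_right])))
  have hz1 : z ≠ 1 := fun e => hay.1 (hinj (by rw [back, e, map_one]; group))
  rcases involution_C0 hzC hz2 hz1 with e | hc | ⟨b, -, e⟩
  · refine absurd (hinj ?_) hay.2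
    rw [back, e]
    calc g⁻¹ * θ tE * g = g⁻¹ * (g * θ tE) := by rw [hg]; group
      _ = θ tE := by group
  · obtain ⟨c, hc', hcx⟩ := xB_conj
    have hconj : ∀ {w : R}, ConjC0 aE w → ConjC0 xB w := by
      rintro w ⟨d, hd, rfl⟩
      exact ⟨d * c⁻¹, mul_mem hd (inv_mem hc'), by rw [hcx]; group⟩
    exact conj_move qB qB_ok (LB_le hinj hC) (hconj ⟨a, ha, rfl⟩) (hconj hc) hg hz.symm
  · exact inv_mem_iff.mp (transferB hinj hC (x := z) ⟨b, e⟩
      ⟨a * aE * a⁻¹, by rw [inv_inv]; exact back⟩)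

/-- The centraliser of the central involution is in the image. -/
theorem centralizer_T_le [Finite G] (hinj : Function.Injective θ) (hC : CentB θ) {g : G}
    (hg : g * θ tE = θ tE * g) : g ∈ θ.range := by
  classical
  let K : Subgroup G := Subgroup.centralizer {θ tE}
  have memK : ∀ {y : G}, y ∈ K ↔ y * θ tE = θ tE * y := fun {y} => Subgroup.mem_centralizer_singleton_iff
  let tK : K := ⟨θ tE, memK.mpr rfl⟩
  let N : Subgroup K := Subgroup.zpowers tK
  have hNn : N.Normal := ⟨fun n hn y => by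
    have hc : Commute y tK := Subtype.ext (memK.mp y.2)
    obtain ⟨m, rfl⟩ := hn
    show y * tK ^ m * y⁻¹ ∈ N
    rw [(hc.zpow_right m).eq, mul_inv_cancel_right]
    exact zpow_mem (Subgroup.mem_zpowers _) m⟩
  let H' : Subgroup K := θ.range.subgroupOf K
  have hNH : N ≤ H' := Subgroup.zpowers_le.mpr ⟨tE, rfl⟩
  let q := QuotientGroup.mk' N
  let H : Subgroup (K ⧸ N) := H'.map q
  have hcomap : ∀ {y : K}, q y ∈ H ↔ y ∈ H' := fun {y} => by
    rw [← Subgroup.mem_comap, Subgroup.comap_map_eq, QuotientGroup.ker_mk', sup_eq_left.mpr hNH]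
  have hN2 : ∀ n ∈ N, n = 1 ∨ n = tK := by
    intro n hn
    obtain ⟨m, rfl⟩ := hn
    have hb2 : tK ^ (2 : ℤ) = 1 := Subtype.ext (by
      show θ tE ^ (2 : ℤ) = 1
      rw [zpow_two, ← map_mul, tE_sq, map_one])
    show tK ^ m = 1 ∨ tK ^ m = tK
    rcases Int.even_or_odd' m with ⟨j, rfl | rfl⟩
    · exact Or.inl (by rw [zpow_mul, hb2, one_zpow])
    · exact Or.inr (by rw [zpow_add, zpow_mul, hb2, one_zpow, one_mul, zpow_one])
  have elemK : ∀ {x : R}, x ∈ C0 → θ x ∈ K := fun {x} h =>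
    memK.mpr (by rw [← map_mul, ← map_mul, tE_central h])
  have ord2 : ∀ {x : R} (hx : x ∈ C0), (x * x = 1 ∨ x * x = tE) → x ≠ 1 → x ≠ tE →
      orderOf (q ⟨θ x, elemK hx⟩) = 2 := by
    intro x hx h2 h1 hb
    refine orderOf_eq_prime ?_ fun h => ?_
    · rw [sq, ← map_mul]
      refine (QuotientGroup.eq_one_iff _).mpr ?_
      rcases h2 with e | e
      · rw [show (⟨θ x, elemK hx⟩ * ⟨θ x, elemK hx⟩ : K) = 1 from
          Subtype.ext (by show θ x * θ x = 1; rw [← map_mul, e, map_one])]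
        exact one_mem _
      · rw [show (⟨θ x, elemK hx⟩ * ⟨θ x, elemK hx⟩ : K) = tK from
          Subtype.ext (by show θ x * θ x = θ tE; rw [← map_mul, e])]
        exact Subgroup.mem_zpowers _
    · rcases hN2 _ ((QuotientGroup.eq_one_iff _).mp h) with h | h
      · exact h1 (hinj ((congrArg Subtype.val h).trans (map_one θ).symm))
      · exact hb (hinj (congrArg Subtype.val h))
  have hxA : xA ≠ 1 ∧ xA ≠ tE := by
    refine ⟨fun e => ?_, fun e => ?_⟩ <;>
      (have h2 := xA_sq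
       rw [e] at h2
       first
         | exact tE_ne_one (by rw [← h2, one_mul])
         | exact tE_ne_one (h2.symm.trans tE_sq))
  have hse : H = ⊤ := by
    by_contra hne
    have hSE : Cfsg.IsStronglyEmbedded H := by
      refine (Invol.se_iff H).mpr ⟨hne, ?_, fun tq gq ht htH htg => ?_⟩
      · refine even_iff_two_dvd.mpr ?_
        rw [← ord2 qA_ok.xv_mem (Or.inr xA_sq) hxA.1 hxA.2,
          ← Subgroup.orderOf_mk (H := H) _ (hcomap.mpr (Subgroup.mem_subgroupOf.mpr ⟨xA, rfl⟩))]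
        exact orderOf_dvd_natCard _
      obtain ⟨X, hX, rfl⟩ := htH
      obtain ⟨g, rfl⟩ := QuotientGroup.mk_surjective gq
      show q g ∈ H
      rw [hcomap]
      have htg' : g⁻¹ * X * g ∈ H' := hcomap.mp (by rw [map_mul, map_mul, map_inv]; exact htg)
      obtain ⟨x, hx⟩ := Subgroup.mem_subgroupOf.mp hX
      have hx' : (g : G)⁻¹ * θ x * (g : G) ∈ θ.range := by
        rw [hx]; exact Subgroup.mem_subgroupOf.mp htg'
      have hxC : x ∈ C0 := comm_of_K hinj (by rw [hx]; exact memK.mp X.2)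
      have hgt : (g : G)⁻¹ * θ tE = θ tE * (g : G)⁻¹ := comm_K_inv (memK.mp g.2)
      have hqX : q X ≠ 1 := fun h => by rw [h, orderOf_one] at ht; norm_num at ht
      have hx1 : x ≠ 1 := fun h => hqX (by
        rw [show X = 1 from Subtype.ext (by rw [← hx, h, map_one]; rfl), map_one])
      have hxt : x ≠ tE := fun h => hqX ((QuotientGroup.eq_one_iff _).mpr (by
        rw [show X = tK from Subtype.ext (by rw [← hx, h])]
        exact Subgroup.mem_zpowers _))
      show (g : G) ∈ θ.range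
      refine inv_mem_iff.mp ?_
      have h2 : X * X ∈ N := (QuotientGroup.eq_one_iff _).mp (by
        show q (X * X) = 1
        rw [map_mul]
        exact Invol.mul_self_eq_one ht)
      have hconj : (g : G)⁻¹ * θ x * (g : G)⁻¹⁻¹ ∈ θ.range := by rwa [inv_inv]
      rcases hN2 _ h2 with h | h
      · have hx2 : x * x = 1 :=
          hinj (by rw [map_mul, map_one, hx]; exact congrArg Subtype.val h)
        rcases involution_C0 hxC hx2 hx1 with e | e | ⟨b, -, e⟩
        · exact absurd e hxt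
        · exact transfer_a hinj hC e hgt hconj
        · exact transferB hinj hC ⟨b, e⟩ hconj
      · have hx2 : x * x = tE := hinj (by rw [map_mul, hx]; exact congrArg Subtype.val h)
        exact transferRoot hinj hC (Or.inr (root_C0 hxC hx2)) hgt hconj
    obtain ⟨cq, hcq⟩ := isConj_iff.mp (Invol.se_isConj_all hSE
      (ord2 bE_mem (Or.inl ae_be_sq.2) bE_ne.1 bE_ne.2)
      (ord2 qA_ok.xv_mem (Or.inr xA_sq) hxA.1 hxA.2))
    obtain ⟨c, rfl⟩ := QuotientGroup.mk_surjective cq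
    have h1 : q (c * ⟨θ bE, elemK bE_mem⟩ * c⁻¹) = q ⟨θ xA, elemK qA_ok.xv_mem⟩ := by
      rw [map_mul, map_mul, map_inv]; exact hcq
    have h2 := hN2 _ (QuotientGroup.eq.mp h1)
    have hl : (c : G) * θ bE * (c : G)⁻¹ * ((c : G) * θ bE * (c : G)⁻¹) = 1 := by
      calc _ = (c : G) * θ (bE * bE) * (c : G)⁻¹ := by rw [map_mul]; group
        _ = 1 := by rw [ae_be_sq.2, map_one]; group
    refine tE_ne_one (hinj ?_)
    rw [map_one, ← xA_sq, map_mul]
    rcases h2 with h | h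
    · have e := congrArg Subtype.val (inv_mul_eq_one.mp h)
      simp only [Subgroup.coe_mul, InvMemClass.coe_inv] at e
      show θ xA * θ xA = 1
      rw [← e]; exact hl
    · have e := congrArg Subtype.val (inv_mul_eq_iff_eq_mul.mp h)
      simp only [Subgroup.coe_mul, InvMemClass.coe_inv] at e
      have ct : θ tE * ((c : G) * θ bE * (c : G)⁻¹) = (c : G) * θ bE * (c : G)⁻¹ * θ tE := by
        have c1 : Commute (c : G) (θ tE) := memK.mp c.2
        have c2 : Commute (θ bE) (θ tE) := memK.mp (elemK bE_mem)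
        exact ((c1.mul_left c2).mul_left c1.inv_left).eq.symm
      show θ xA * θ xA = 1
      rw [show θ xA = (c : G) * θ bE * (c : G)⁻¹ * θ tE from e]
      calc (c : G) * θ bE * (c : G)⁻¹ * θ tE * ((c : G) * θ bE * (c : G)⁻¹ * θ tE) =
            (c : G) * θ bE * (c : G)⁻¹ * (θ tE * ((c : G) * θ bE * (c : G)⁻¹)) * θ tE := by group
        _ = (c : G) * θ bE * (c : G)⁻¹ * ((c : G) * θ bE * (c : G)⁻¹) * (θ tE * θ tE) := by
          rw [ct]; group
        _ = 1 := by rw [hl, ← map_mul, tE_sq, map_one, one_mul]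
  have := (hcomap (y := ⟨g, memK.mpr hg⟩)).mp (hse ▸ Subgroup.mem_top _)
  exact Subgroup.mem_subgroupOf.mp this

/-- The image is everything. -/
theorem range_eq_top [Finite G] (hinj : Function.Injective θ)
    (hC : ∀ g : G, g * θ bE = θ bE * g → g ∈ θ.range) : θ.range = ⊤ := by
  by_contra hne
  have hordT : orderOf (θ tE) = 2 :=
    orderOf_eq_prime (by rw [sq, ← map_mul, tE_sq, map_one])
      fun h => tE_ne_one (hinj (h.trans (map_one θ).symm))
  have hordB : orderOf (θ bE) = 2 :=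
    orderOf_eq_prime (by rw [sq, ← map_mul, ae_be_sq.2, map_one])
      fun h => bE_ne.1 (hinj (h.trans (map_one θ).symm))
  have hSE : Cfsg.IsStronglyEmbedded θ.range := by
    refine (Invol.se_iff _).mpr ⟨hne, ?_, fun t g ht htM htg => ?_⟩
    · refine even_iff_two_dvd.mpr ?_
      rw [← hordT, ← Subgroup.orderOf_mk (H := θ.range) _ ⟨tE, rfl⟩]
      exact orderOf_dvd_natCard _
    obtain ⟨x, rfl⟩ := htM
    refine inv_mem_iff.mp ?_
    have hx2 : x * x = 1 := hinj (by rw [map_mul, map_one]; exact Invol.mul_self_eq_one ht)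
    have hx1 : x ≠ 1 := fun h => by rw [h, map_one, orderOf_one] at ht; norm_num at ht
    rcases involution_R hx2 hx1 with ⟨p, rfl⟩ | hB
    swap
    · exact transferB hinj hC hB (by rw [inv_inv]; exact htg)
    obtain ⟨y, hy⟩ := htg
    have hy2 : y * y = 1 := hinj (by
      rw [map_mul, map_one, hy]
      calc _ = g⁻¹ * (θ (p * tE * p⁻¹) * θ (p * tE * p⁻¹)) * g := by group
        _ = g⁻¹ * θ (p * tE * p⁻¹ * (p * tE * p⁻¹)) * g := by rw [← map_mul]
        _ = 1 := by rw [hx2, map_one]; group)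
    have hy1 : y ≠ 1 := fun h => hx1 (hinj (by
      rw [h, map_one] at hy
      rw [map_one]
      calc θ (p * tE * p⁻¹) = g * (g⁻¹ * θ (p * tE * p⁻¹) * g) * g⁻¹ := by group
        _ = 1 := by rw [← hy]; group))
    simp only [map_mul, map_inv] at hy
    rcases involution_R hy2 hy1 with ⟨r, rfl⟩ | ⟨r, rfl⟩ <;> simp only [map_mul, map_inv] at hy
    · have hc : ((θ r)⁻¹ * g⁻¹ * θ p) * θ tE = θ tE * ((θ r)⁻¹ * g⁻¹ * θ p) := by
        calc (θ r)⁻¹ * g⁻¹ * θ p * θ tE =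
              (θ r)⁻¹ * (g⁻¹ * (θ p * θ tE * (θ p)⁻¹) * g) * g⁻¹ * θ p := by group
          _ = _ := by rw [← hy]; group
      rw [show g⁻¹ = θ r * ((θ r)⁻¹ * g⁻¹ * θ p) * (θ p)⁻¹ by group]
      exact mul_mem (mul_mem ⟨r, rfl⟩ (centralizer_T_le hinj hC hc)) (inv_mem ⟨p, rfl⟩)
    · refine absurd ?_ (not_conj_T_B hinj hC ((θ r)⁻¹ * g⁻¹ * θ p))
      calc (θ r)⁻¹ * g⁻¹ * θ p * θ tE * ((θ r)⁻¹ * g⁻¹ * θ p)⁻¹ =
            (θ r)⁻¹ * (g⁻¹ * (θ p * θ tE * (θ p)⁻¹) * g) * θ r := by group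
        _ = θ bE := by rw [← hy]; group
  obtain ⟨c, hc⟩ := isConj_iff.mp (Invol.se_isConj_all hSE hordT hordB)
  exact not_conj_T_B hinj hC c hc

end Cfsg.Agent.Co3TwoM12
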