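import Cfsg.Agent.Co3TwoM12.Twist
import Cfsg.Agent.Co3TwoM12.Cert.CoB.Cert
import Cfsg.Agent.Co3TwoM12.Global

/-!
A finite group with an involution in its 2-residual centralised by `2 × M12` is the third Conway
group.
-/

set_option autoImplicit false
set_option maxRecDepth 100000

namespace Cfsg.Agent.Co3TwoM12

open Cfsg
open Cfsg.Agent.Co3Rec (R)

variable {G : Type*} [Group G] [Finite G]

/-- The model maps into the group onto the centraliser of the involution. -/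
theorem exists_embedding (Φ : CBs →* G) (hinj : Function.Injective Φ)
    (hrange : ∀ y, y * Φ ⟨_, bE_memC⟩ = Φ ⟨_, bE_memC⟩ * y → y ∈ Φ.range)
    (hO : Φ ⟨_, bE_memC⟩ ∈ Cfsg.pResidual 2 G) :
    ∃ θ : R →* G, Function.Injective θ ∧ ∀ g, g * θ Co3Rec.bE = θ Co3Rec.bE * g → g ∈ θ.range := by
  obtain ⟨φ, hφ⟩ := Cert.exists_proj
  obtain ⟨n, h1, h2⟩ := exists_swap Φ hinj hrange card_CB φ hφ hO
  obtain ⟨x, k, hk, hx2, hx⟩ := exists_normal_swap Φ hinj hrange card_CB h1 h2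
  have hne : ∃ c, Φ c ≠ 1 := ⟨⟨_, bE_memC⟩, fun h =>
    bE_ne_one (congrArg Subtype.val (hinj (h.trans (map_one Φ).symm)))⟩
  have fin : ∀ (θ : R →* G) (j : CBs →* R), j ⟨_, bE_memC⟩ = Co3Rec.bE → (∀ c, θ (j c) = Φ c) →
      ∀ g, g * θ Co3Rec.bE = θ Co3Rec.bE * g → g ∈ θ.range := fun θ j hj hc g hg => by
    rw [← hj, hc] at hg
    obtain ⟨c, rfl⟩ := hrange g hg
    exact ⟨j c, hc c⟩
  rcases normal_swap_class Φ hinj hrange card_CB hk hx2 hx with rfl | rfl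
  · exact (Cert.not_wreath Φ hinj hrange hO (Cert.cases_0 hinj hrange card_CB hx2 hx)).elim
  rcases Cert.cases_2 hinj hrange card_CB hx2 hx with hA | hB
  · obtain ⟨θ, hθi, hθc, -⟩ := hA.exists_iso (by norm_num) Cert.x_ok.2.2.2 Cert.CoA.steps
      Cert.CoA.cover Cert.CoA.steps_ok Cert.CoA.node_src Cert.CoA.valid Cert.CoA.idx_sum Cert.rel_R
      (by simpa using Cert.generated_xE) hne
    exact ⟨θ, hθi, fin θ CBs.subtype rfl hθc⟩
  · obtain ⟨j, xR, hjb, hjB, hgen⟩ := Cert.exists_second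
    obtain ⟨θ, hθi, hθc, -⟩ := hB.exists_iso (by norm_num) Cert.CoB.rels_ok Cert.CoB.steps
      Cert.CoB.cover Cert.CoB.steps_ok Cert.CoB.node_src Cert.CoB.valid Cert.CoB.idx_sum hjB hgen hne
    exact ⟨θ, hθi, fin θ j hjb hθc⟩

/-- The characterisation. -/
theorem iso_co3 (t : G) (ht : orderOf t = 2)
    (hC : Nonempty (↥(Subgroup.centralizer ({t} : Set G)) ≃*
      Multiplicative (ZMod 2) × ↥Cfsg.Spor.M12)) (hO : t ∈ Cfsg.pResidual 2 G) :
    Cfsg.Spor.IsoCo3 G := by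
  obtain ⟨S, hS⟩ := exists_setting t ht hC
  obtain ⟨θ, hθi, hθC⟩ := exists_embedding S.Φ S.inj S.mem_range (by rw [← hS] at hO; exact hO)
  have htop := range_eq_top hθi hθC
  exact ⟨(MulEquiv.ofBijective θ ⟨hθi, MonoidHom.range_eq_top.mp htop⟩).symm⟩

end Cfsg.Agent.Co3TwoM12
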