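import Mathlib
import Cfsg.Prelude.Def_Transfer
import Cfsg.Agent.TwoTransfer.Basic

/-!
Transfer to the group of order two from the centraliser of an involution: the involution of a
2-residual is fused to a second element centralised by a given 2-subgroup.
-/

set_option autoImplicit false

namespace Cfsg.Agent.Co3TwoM12

variable {G : Type*} [Group G]

/-- A homomorphism to a group of order two kills the 2-residual. -/
theorem map_eq_one_of_pResidual [Finite G] (V : G →* Multiplicative (ZMod 2)) {x : G}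
    (hx : x ∈ Cfsg.pResidual 2 G) : V x = 1 := by
  have h : Cfsg.pResidual 2 G ≤ V.ker := by
    refine (Subgroup.closure_le _).mpr fun g hg => ?_
    rw [SetLike.mem_coe, MonoidHom.mem_ker]
    have h2 : V g ^ 2 = 1 := by
      have : ∀ a : Multiplicative (ZMod 2), a ^ 2 = 1 := by decide
      exact this _
    have h3 : V g ^ orderOf g = 1 := by rw [← map_pow, pow_orderOf_eq_one, map_one]
    obtain ⟨k, hk⟩ : Odd (orderOf g) := Nat.coprime_two_right.mp hg
    rwa [hk, pow_succ, pow_mul, h2, one_pow, one_mul] at h3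
  exact h hx

open scoped Classical in
/-- The transfer of an involution counts its fixed cosets with nontrivial value. -/
theorem transfer_involution [Finite G] {C : Subgroup G} (φ : C →* Multiplicative (ZMod 2)) {t : G}
    (ht : t * t = 1) :
    MonoidHom.transfer φ t = Multiplicative.ofAdd ((Nat.card {x : G ⧸ C //
      ∃ h : (x.out : G)⁻¹ * t * x.out ∈ C, φ ⟨_, h⟩ ≠ 1} : ℕ) : ZMod 2) := by
  let : Fintype (Quotient (MulAction.orbitRel (Subgroup.zpowers t) (G ⧸ C))) := Fintype.ofFinite _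
  rw [MonoidHom.transfer_eq_prod_quotient_orbitRel_zpowers_quot]
  let P : G ⧸ C → Prop := fun x => ∃ h : (x.out : G)⁻¹ * t * x.out ∈ C, φ ⟨_, h⟩ ≠ 1
  have hZ : ∀ a : Multiplicative (ZMod 2), a = if a = 1 then 1 else Multiplicative.ofAdd 1 := by decide
  have hfix : ∀ x : G ⧸ C, (x.out : G)⁻¹ * t * x.out ∈ C → t • x = x := fun x h => by
    have ti : t⁻¹ = t := inv_eq_of_mul_eq_one_right ht
    have e : ((t * x.out : G) : G ⧸ C) = (x.out : G ⧸ C) := by
      rw [QuotientGroup.eq, mul_inv_rev, ti]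
      exact h
    calc t • x = t • (x.out : G ⧸ C) := by rw [QuotientGroup.out_eq']
      _ = ((t * x.out : G) : G ⧸ C) := rfl
      _ = _ := e.trans (QuotientGroup.out_eq' x)
  have hval : ∀ q : Quotient (MulAction.orbitRel (Subgroup.zpowers t) (G ⧸ C)),
      φ ⟨_, QuotientGroup.out_conj_pow_minimalPeriod_mem C t q.out⟩ =
        if P q.out then Multiplicative.ofAdd (1 : ZMod 2) else 1 := by
    intro q
    have hd : Function.minimalPeriod (t • ·) q.out ∣ 2 := by
      refine Function.IsPeriodicPt.minimalPeriod_dvd ?_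
      simp [Function.IsPeriodicPt, Function.IsFixedPt, smul_smul, ht]
    set v : C := ⟨_, QuotientGroup.out_conj_pow_minimalPeriod_mem C t q.out⟩ with hv
    rcases (Nat.dvd_prime Nat.prime_two).mp hd with h1 | h1
    · have hv' : (v : G) = (q.out.out : G)⁻¹ * t * q.out.out := by rw [hv]; simp [h1]
      by_cases hp : P q.out
      · obtain ⟨h, hne⟩ := hp
        rw [if_pos ⟨h, hne⟩, show v = ⟨_, h⟩ from Subtype.ext hv']
        exact (hZ _).trans (if_neg hne)
      · rw [if_neg hp]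
        by_contra hne
        exact hp ⟨hv' ▸ v.2, by
          rwa [show v = ⟨_, hv' ▸ v.2⟩ from Subtype.ext hv'] at hne⟩
    · have hv' : v = 1 := Subtype.ext (by rw [hv]; simp [h1, sq, ht])
      rw [hv', map_one, if_neg]
      rintro ⟨h, -⟩
      have : Function.minimalPeriod (t • ·) q.out = 1 :=
        Function.minimalPeriod_eq_one_iff_isFixedPt.mpr (hfix _ h)
      omega
  rw [Finset.prod_congr rfl (fun q _ => hval q), ← Finset.prod_filter, Finset.prod_const,
    ← ofAdd_nsmul, nsmul_one]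
  congr 2
  rw [← Fintype.card_subtype, ← Nat.card_eq_fintype_card]
  refine Nat.card_congr (Equiv.ofBijective (fun q => ⟨q.1.out, q.2⟩) ⟨fun a b h => ?_, fun x => ?_⟩)
  · apply Subtype.ext
    rw [← Quotient.out_eq a.1, ← Quotient.out_eq b.1]
    exact congrArg _ (congrArg Subtype.val h)
  · have he : (Quotient.mk (MulAction.orbitRel (Subgroup.zpowers t) (G ⧸ C)) x.1).out = x.1 := by
      obtain ⟨⟨s, hs⟩, hg⟩ := MulAction.orbitRel_apply.mp
        (Quotient.mk_out (s := MulAction.orbitRel (Subgroup.zpowers t) (G ⧸ C)) x.1)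
      rw [← hg]
      show s • x.1 = x.1
      have : Subgroup.zpowers t ≤ MulAction.stabilizer G x.1 :=
        Subgroup.zpowers_le.mpr (hfix _ x.2.1)
      exact this hs
    exact ⟨⟨Quotient.mk _ x.1, by rw [he]; exact x.2⟩, Subtype.ext he⟩

open scoped Classical in
/-- An involution of the 2-residual is fused to another element of its centraliser, outside a given
subgroup of index two and centralised by a given 2-subgroup. -/
theorem exists_fused [Finite G] {C : Subgroup G} {t : G} (ht : t * t = 1)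
    (hO : t ∈ Cfsg.pResidual 2 G) (hC : ∀ g, g ∈ C ↔ g * t = t * g)
    (φ : C →* Multiplicative (ZMod 2)) (htC : t ∈ C) (hφt : φ ⟨t, htC⟩ ≠ 1)
    (T : Subgroup C) (hT : IsPGroup 2 T) :
    ∃ u : C, (u : G) ≠ t ∧ φ u ≠ 1 ∧ (∀ s ∈ T, s * u = u * s) ∧ ∃ g : G, g * t * g⁻¹ = u := by
  by_contra hno
  push Not at hno
  have h1 := map_eq_one_of_pResidual (MonoidHom.transfer φ) hO
  rw [transfer_involution φ ht] at h1
  set F := {x : G ⧸ C // ∃ h : (x.out : G)⁻¹ * t * x.out ∈ C, φ ⟨_, h⟩ ≠ 1}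
  let X := {u : C // φ u ≠ 1 ∧ ∃ g : G, g⁻¹ * t * g = u}
  have heven : 2 ∣ Nat.card F := by
    have h := congrArg Multiplicative.toAdd h1
    simpa [ZMod.natCast_eq_zero_iff] using h
  -- both sets count the conjugating elements in blocks of the size of the centraliser
  let G' := {g : G // ∃ h : g⁻¹ * t * g ∈ C, φ ⟨_, h⟩ ≠ 1}
  have hcl : ∀ (c u : C), φ (c⁻¹ * u * c) = φ u := fun c u => by
    simp [mul_comm]
  have e1 : Nat.card G' = Nat.card F * Nat.card C := by
    have key : ∀ (g : G) (c : C), (∃ h : g⁻¹ * t * g ∈ C, φ ⟨_, h⟩ ≠ 1) →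
        ∃ h : (g * c)⁻¹ * t * (g * c) ∈ C, φ ⟨_, h⟩ ≠ 1 := by
      rintro g c ⟨h, hne⟩
      have e : (g * c)⁻¹ * t * (g * c) = ((c⁻¹ * ⟨_, h⟩ * c : C) : G) := by simp [mul_assoc]
      refine ⟨e ▸ (c⁻¹ * ⟨_, h⟩ * c : C).2, ?_⟩
      rw [show (⟨_, e ▸ (c⁻¹ * ⟨_, h⟩ * c : C).2⟩ : C) = c⁻¹ * ⟨_, h⟩ * c from Subtype.ext e, hcl]
      exact hne
    rw [← Nat.card_prod]
    refine Nat.card_congr (Equiv.symm (Equiv.ofBijective
      (fun p => ⟨p.1.1.out * p.2, key _ _ p.1.2⟩) ⟨?_, ?_⟩))
    · rintro ⟨x, c⟩ ⟨y, d⟩ h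
      have h' : (x.1.out : G) * c = y.1.out * d := congrArg Subtype.val h
      have hxy : x = y := by
        apply Subtype.ext
        rw [← QuotientGroup.out_eq' x.1, ← QuotientGroup.out_eq' y.1]
        refine QuotientGroup.eq.mpr ?_
        rw [show (x.1.out : G)⁻¹ * y.1.out = c * (d : G)⁻¹ by
          rw [eq_mul_inv_iff_mul_eq, mul_assoc, ← h', inv_mul_cancel_left]]
        exact mul_mem c.2 (inv_mem d.2)
      subst hxy
      exact Prod.ext rfl (Subtype.ext (mul_left_cancel h'))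
    · rintro ⟨g, hg⟩
      have hc : ((g : G ⧸ C).out)⁻¹ * g ∈ C := QuotientGroup.eq.mp (QuotientGroup.out_eq' _)
      refine ⟨(⟨(g : G ⧸ C), ?_⟩, ⟨_, hc⟩), Subtype.ext (by simp)⟩
      have := key g ⟨_, inv_mem hc⟩ hg
      simpa using this
  have e2 : Nat.card G' = Nat.card X * Nat.card C := by
    rw [← Nat.card_prod]
    have pick : ∀ u : X, ∃ g : G, g⁻¹ * t * g = (u.1 : G) := fun u => u.2.2
    choose γ hγ using pick
    refine Nat.card_congr (Equiv.symm (Equiv.ofBijective (fun p => ⟨p.2 * γ p.1, ?_⟩) ⟨?_, ?_⟩))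
    · have e : ((p.2 : G) * γ p.1)⁻¹ * t * (p.2 * γ p.1) = (p.1.1 : G) := by
        rw [← hγ p.1]
        calc ((p.2 : G) * γ p.1)⁻¹ * t * (p.2 * γ p.1)
            = (γ p.1)⁻¹ * ((p.2 : G)⁻¹ * (t * p.2)) * γ p.1 := by group
          _ = (γ p.1)⁻¹ * ((p.2 : G)⁻¹ * (p.2 * t)) * γ p.1 := by rw [(hC _).mp p.2.2]
          _ = _ := by group
      exact ⟨e ▸ p.1.1.2, by
        rw [show (⟨_, e ▸ p.1.1.2⟩ : C) = p.1.1 from Subtype.ext e]; exact p.1.2.1⟩
    · rintro ⟨u, c⟩ ⟨v, d⟩ h
      have h' : (c : G) * γ u = d * γ v := congrArg Subtype.val h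
      have hu : u = v := by
        apply Subtype.ext; apply Subtype.ext
        rw [← hγ u, ← hγ v]
        have hd : ((c : G)⁻¹ * d)⁻¹ * t * ((c : G)⁻¹ * d) = t := by
          rw [mul_assoc, ← (hC _).mp (mul_mem (inv_mem c.2) d.2), inv_mul_cancel_left]
        rw [show γ u = (c : G)⁻¹ * d * γ v by rw [mul_assoc, ← h', inv_mul_cancel_left]]
        calc _ = (γ v)⁻¹ * (((c : G)⁻¹ * d)⁻¹ * t * ((c : G)⁻¹ * d)) * γ v := by group
          _ = _ := by rw [hd]
      subst hu
      exact Prod.ext rfl (Subtype.ext (mul_right_cancel h'))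
    · rintro ⟨g, h, hne⟩
      let u : X := ⟨⟨_, h⟩, hne, g, rfl⟩
      have hc : g * (γ u)⁻¹ ∈ C := by
        rw [hC]
        have := hγ u
        change (γ u)⁻¹ * t * γ u = g⁻¹ * t * g at this
        calc g * (γ u)⁻¹ * t = g * ((γ u)⁻¹ * t * γ u) * (γ u)⁻¹ := by group
          _ = g * (g⁻¹ * t * g) * (γ u)⁻¹ := by rw [this]
          _ = _ := by group
      exact ⟨(u, ⟨_, hc⟩), Subtype.ext (by simp)⟩
  have hcard : Nat.card F = Nat.card X :=
    Nat.eq_of_mul_eq_mul_right Nat.card_pos (e1.symm.trans e2)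
  let : MulAction T X :=
    { smul := fun s u => ⟨s.1 * u.1 * s.1⁻¹, by
        refine ⟨by simpa [mul_comm] using u.2.1, ?_⟩
        obtain ⟨g, hg⟩ := u.2.2
        exact ⟨g * ((s : C) : G)⁻¹, by
          rw [Subgroup.coe_mul, Subgroup.coe_mul, InvMemClass.coe_inv, ← hg]; group⟩⟩
      one_smul := fun u => Subtype.ext (by show (1 : C) * u.1 * (1 : C)⁻¹ = _; group)
      mul_smul := fun a b u => Subtype.ext (by
        show ((a * b : T) : C) * u.1 * ((a * b : T) : C)⁻¹ = a.1 * (b.1 * u.1 * b.1⁻¹) * a.1⁻¹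
        simp [mul_assoc]) }
  have := hT.card_modEq_card_fixedPoints X
  have hone : Nat.card (MulAction.fixedPoints T X) = 1 := by
    let ut : X := ⟨⟨t, htC⟩, hφt, 1, by simp⟩
    have hfp : MulAction.fixedPoints T X = {ut} := by
      ext u
      simp only [MulAction.mem_fixedPoints, Set.mem_singleton_iff]
      constructor
      · intro hu
        refine Subtype.ext (Subtype.ext ?_)
        show (u.1 : G) = t
        by_contra hne
        obtain ⟨g, hg⟩ := u.2.2
        refine hno u.1 hne u.2.1 (fun s hs => ?_) g⁻¹ (by rw [inv_inv]; exact hg)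
        have := congrArg Subtype.val (hu ⟨s, hs⟩)
        change s * u.1 * s⁻¹ = u.1 at this
        exact mul_inv_eq_iff_eq_mul.mp this
      · rintro rfl s
        refine Subtype.ext (Subtype.ext ?_)
        show ((s : C) : G) * t * ((s : C) : G)⁻¹ = t
        rw [(hC _).mp (s : C).2, mul_inv_cancel_right]
    rw [hfp]
    simp
  rw [hone, ← hcard, Nat.ModEq] at this
  omega

end Cfsg.Agent.Co3TwoM12
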