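import Cfsg.Agent.Co3TwoM12.Sylow
import Cfsg.Agent.Co3TwoM12.Transfer

/-!
An involution of the 2-residual with centraliser `2 × M12` is interchanged with its product by a
square involution of its centraliser.
-/

set_option autoImplicit false
set_option maxRecDepth 100000

namespace Cfsg.Agent.Co3TwoM12

open Cfsg Cfsg.Agent.Compute Cfsg.Agent.StemCert
open Cfsg.Agent.Co3Rec (R Ctx)

/-- The centraliser of the first involution. -/
noncomputable abbrev CBs : Subgroup R := Subgroup.centralizer ({Co3Rec.bE} : Set R)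

theorem bE_memC : Co3Rec.bE ∈ CBs := Subgroup.mem_centralizer_singleton_iff.mpr rfl

theorem tE_memC : Co3Rec.tE ∈ CBs :=
  Subgroup.mem_centralizer_singleton_iff.mpr (T0_comm tE_mem_T0).1

theorem sq_root_ok : (List.range 384).any (fun i => Nat.beq (dMul i i) 2) = true := by decide +kernel

/-- The second involution is a square in the centraliser. -/
theorem exists_root : ∃ s : R, s * Co3Rec.bE = Co3Rec.bE * s ∧ s * Co3Rec.tE = Co3Rec.tE * s ∧
    s * s = Co3Rec.tE := by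
  have h := sq_root_ok
  simp only [List.any_eq_true, List.mem_range, Nat.beq_eq] at h
  obtain ⟨i, hi, e⟩ := h
  exact ⟨dEl i, (dEl_comm hi).1, (dEl_comm hi).2, by rw [(dMul_spec hi hi).2, e, dEl_two]⟩

theorem bE_sq : Co3Rec.bE * Co3Rec.bE = 1 := Co3Rec.ae_be_sq.2

theorem dEl_ne {i j : ℕ} (hi : i < 384) (hj : j < 384) (h : i ≠ j) : dEl i ≠ dEl j :=
  fun e => h (dEl_inj hi hj e)

theorem tE_ne : Co3Rec.tE ≠ 1 ∧ Co3Rec.tE * Co3Rec.tE = 1 ∧ Co3Rec.bE * Co3Rec.tE ≠ 1 := by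
  have h : Nat.beq (dMul 2 2) 0 = true := by decide +kernel
  refine ⟨?_, ?_, ?_⟩
  · rw [← dEl_two, ← dEl_zero]; exact dEl_ne (by norm_num) (by norm_num) (by norm_num)
  · rw [← dEl_two, (dMul_spec (by norm_num) (by norm_num)).2, Nat.eq_of_beq_eq_true h, dEl_zero]
  · rw [← dEl_seven, ← dEl_zero]; exact dEl_ne (by norm_num) (by norm_num) (by norm_num)

variable {G : Type*} [Group G] (Φ : CBs →* G)

open scoped _root_.Classical in
/-- The involution of the 2-residual is interchanged with its product by the second one. -/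
theorem exists_swap [Finite G] (hinj : Function.Injective Φ)
    (hrange : ∀ y, y * Φ ⟨_, bE_memC⟩ = Φ ⟨_, bE_memC⟩ * y → y ∈ Φ.range)
    (hcard : Nat.card CBs = 190080) (φ : CBs →* Multiplicative (ZMod 2))
    (hφ : φ ⟨_, bE_memC⟩ ≠ 1) (hO : Φ ⟨_, bE_memC⟩ ∈ Cfsg.pResidual 2 G) :
    ∃ n : G, n * Φ ⟨_, bE_memC⟩ * n⁻¹ = Φ (⟨_, bE_memC⟩ * ⟨_, tE_memC⟩) ∧
      n * Φ (⟨_, bE_memC⟩ * ⟨_, tE_memC⟩) * n⁻¹ = Φ ⟨_, bE_memC⟩ := by
  set bC : CBs := ⟨_, bE_memC⟩ with hbC
  set zC : CBs := ⟨_, tE_memC⟩ with hzC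
  have hsq2 : ∀ a : Multiplicative (ZMod 2), a * a = 1 := by decide
  obtain ⟨r, hrb, hrz, hrr⟩ := exists_root
  let rC : CBs := ⟨r, Subgroup.mem_centralizer_singleton_iff.mpr hrb⟩
  have hrC : rC * rC = zC := Subtype.ext hrr
  have hφz : φ zC = 1 := by rw [← hrC, map_mul, hsq2]
  have hb2 : bC * bC = 1 := Subtype.ext bE_sq
  have hbz : bC * zC = zC * bC := Subtype.ext (T0_comm tE_mem_T0).1.symm
  set t := Φ bC with ht
  have ht2 : t * t = 1 := by rw [ht, ← map_mul, hb2, map_one]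
  have hcomm : ∀ c : CBs, Φ c * t = t * Φ c := fun c => by
    rw [ht, ← map_mul, ← map_mul, show c * bC = bC * c from
      Subtype.ext (Subgroup.mem_centralizer_singleton_iff.mp c.2)]
  let e : CBs ≃* Φ.range := MonoidHom.ofInjective hinj
  let T : Subgroup Φ.range := (T0.subgroupOf CBs).map e.toMonoidHom
  have hT : IsPGroup 2 T := by
    refine IsPGroup.map ?_ _
    refine IsPGroup.of_card (n := 7) ?_
    rw [Nat.card_congr (Subgroup.subgroupOfEquivOfLe (fun x hx =>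
      Subgroup.mem_centralizer_singleton_iff.mpr (T0_comm hx).1)).toEquiv, card_T0]
  obtain ⟨u, hu, huφ, huT, g, hg⟩ := exists_fused ht2 hO
    (C := Φ.range) (fun y => ⟨by rintro ⟨c, rfl⟩; exact hcomm c, hrange y⟩)
    (φ.comp e.symm.toMonoidHom) ⟨bC, rfl⟩
    (by
      show φ (e.symm ⟨t, _⟩) ≠ 1
      rw [show e.symm ⟨t, _⟩ = bC from e.symm_apply_eq.mpr rfl]
      exact hφ) T hT
  set u0 : CBs := e.symm u with hu0
  have hue : Φ u0 = (u : G) := congrArg Subtype.val (e.apply_symm_apply u)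
  have hu0b : u0 ≠ bC := fun h => hu (by rw [← hue, h])
  have hu0φ : φ u0 ≠ 1 := huφ
  have huz : u0 = bC * zC := by
    have hc : ∀ s ∈ T0, s * (u0 : R) = (u0 : R) * s := by
      intro s hs
      let sC : CBs := ⟨s, Subgroup.mem_centralizer_singleton_iff.mpr (T0_comm hs).1⟩
      have hk := huT (e sC) (Subgroup.mem_map.mpr ⟨sC, hs, rfl⟩)
      have hk2 := congrArg e.symm hk
      simp only [map_mul, MulEquiv.symm_apply_apply] at hk2
      exact congrArg Subtype.val hk2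
    rcases centralizer_T0 hcard (Subgroup.mem_centralizer_singleton_iff.mp u0.2) hc with h | h | h | h
    · exact absurd (by rw [show u0 = 1 from Subtype.ext h, map_one]) hu0φ
    · exact absurd (Subtype.ext h) hu0b
    · exact absurd (by rw [show u0 = zC from Subtype.ext h, hφz]) hu0φ
    · exact Subtype.ext h
  rw [← hue, huz] at hg
  have ht2' : t⁻¹ = t := inv_eq_of_mul_eq_one_right ht2
  have hbzr : Commute (Φ rC) (Φ (bC * zC)) := by
    refine (Commute.map ?_ Φ)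
    exact Subtype.ext ((Commute.mul_right hrb hrz).eq)
  have hgr : (g⁻¹ * Φ rC * g) * t = t * (g⁻¹ * Φ rC * g) := by
    calc g⁻¹ * Φ rC * g * t = g⁻¹ * (Φ rC * (g * t * g⁻¹)) * g := by group
      _ = g⁻¹ * ((g * t * g⁻¹) * Φ rC) * g := by rw [hg, hbzr.eq]
      _ = _ := by group
  obtain ⟨s, hs⟩ := hrange _ hgr
  have hss : Φ (s * s) = g⁻¹ * Φ zC * g := by rw [map_mul, hs, ← hrC, map_mul]; group
  have hzne : zC ≠ 1 := fun h => tE_ne.1 (congrArg Subtype.val h)
  have hs1 : (s : R) * (s : R) ≠ 1 := fun h => hzne (hinj (by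
    have h' : Φ (s * s) = 1 := by rw [show s * s = 1 from Subtype.ext h, map_one]
    rw [hss] at h'
    rw [map_one]
    calc Φ zC = g * (g⁻¹ * Φ zC * g) * g⁻¹ := by group
      _ = 1 := by rw [h']; group))
  have hs4 : (s : R) * s * ((s : R) * s) = 1 := by
    have h' : Φ (s * s * (s * s)) = Φ 1 := by
      rw [map_mul, hss, map_one]
      calc g⁻¹ * Φ zC * g * (g⁻¹ * Φ zC * g) = g⁻¹ * Φ (zC * zC) * g := by rw [map_mul]; group
        _ = 1 := by rw [show zC * zC = 1 from Subtype.ext tE_ne.2.1, map_one]; group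
    exact congrArg Subtype.val (hinj h')
  obtain ⟨c, hc, hcs⟩ := exists_sq_conj hcard (Subgroup.mem_centralizer_singleton_iff.mp s.2) hs1 hs4
  let cC : CBs := ⟨c, Subgroup.mem_centralizer_singleton_iff.mpr hc⟩
  have hcc : Φ cC * Φ zC * (Φ cC)⁻¹ = g⁻¹ * Φ zC * g := by
    rw [← hss, show s * s = cC * zC * cC⁻¹ from Subtype.ext hcs, map_mul, map_mul, map_inv]
  refine ⟨g * Φ cC, ?_, ?_⟩
  · calc g * Φ cC * t * (g * Φ cC)⁻¹ = g * (Φ cC * t) * (Φ cC)⁻¹ * g⁻¹ := by group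
      _ = g * (t * Φ cC) * (Φ cC)⁻¹ * g⁻¹ := by rw [hcomm]
      _ = g * t * g⁻¹ := by group
      _ = _ := hg
  · calc g * Φ cC * Φ (bC * zC) * (g * Φ cC)⁻¹
        = g * ((Φ cC * t) * Φ zC * (Φ cC)⁻¹) * g⁻¹ := by rw [map_mul, ← ht]; group
      _ = g * ((t * Φ cC) * Φ zC * (Φ cC)⁻¹) * g⁻¹ := by rw [hcomm]
      _ = g * t * g⁻¹ * Φ zC := by
        rw [mul_assoc t (Φ cC), mul_assoc t _ (Φ cC)⁻¹, hcc]; group
      _ = t := by rw [hg, ← map_mul, mul_assoc bC zC, show zC * zC = 1 from Subtype.ext tE_ne.2.1, mul_one]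

end Cfsg.Agent.Co3TwoM12
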