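import Cfsg.Agent.Co3TwoM12.Alpha
import Cfsg.Agent.Co3TwoM12.Data.Rels

/-!
The value of a triangle of interchanging elements is one of a short list, and two of the four
automorphisms admit none.
-/

set_option autoImplicit false
set_option maxRecDepth 100000

namespace Cfsg.Agent.Co3TwoM12

open Cfsg Cfsg.Agent.Compute Cfsg.Agent.StemCert
open Cfsg.Agent.Co3Rec (R Ctx ltB ltB_iff)

/-- The automorphism of a case. -/
noncomputable abbrev rK (c : ℕ) : ℕ := Data.relK.getD c 0

/-- The first word of a case. -/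
noncomputable abbrev rG (c : ℕ) : List ℕ := Data.relG.getD c []

/-- The second word of a case. -/
noncomputable abbrev rH (c : ℕ) : List ℕ := Data.relH.getD c []

/-- The word of a value of a case, up to the common centraliser. -/
noncomputable abbrev rY (c : ℕ) : List ℕ := Data.relY0.getD c []

/-- An entry of the list of test elements. -/
noncomputable abbrev rSel (c i m : ℕ) : ℕ := ((Data.relSel.getD c []).getD i []).getD m 0

theorem rel_words_ok : allBelow 6 (fun c => Nat.blt (rK c) 4 && ltB 9 (rG c) && ltB 9 (rH c) &&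
    ltB 9 (rY c) && Nat.beq (rSel c 0 0) 1 && Nat.beq (aMap (rK c) (rSel c 0 2)) 1 &&
    Nat.beq (rSel c 1 0) 2 &&
    same (dW (aMap (rK c) (rSel c 1 2)) ++ rY c) (rY c ++ [1]) &&
    allBelow (Data.relSel.getD c []).length (fun i => allBelow 3 (fun m => Nat.blt (rSel c i m) 384) &&
      same (rH c ++ dW (aMap (rK c) (rSel c i 0))) (dW (rSel c i 1) ++ rH c) &&
      same (rG c ++ dW (aMap (rK c) (rSel c i 1))) (dW (rSel c i 2) ++ rG c)) &&
    Nat.ble 2 (Data.relSel.getD c []).length) = true := by decide +kernel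

theorem rel_filter_ok : allBelow 6 (fun c => allBelow 384 fun d =>
    (Data.relYs.getD c []).any (Nat.beq d) ||
      (List.range (Data.relSel.getD c []).length).any (fun i => !(same
        (rY c ++ dW d ++ dW (rSel c i 0)) (dW (aMap (rK c) (rSel c i 2)) ++ rY c ++ dW d)))) = true := by
  decide +kernel

theorem rel_empty : (Data.relYs.getD 2 []) = [] ∧ (Data.relYs.getD 5 []) = [] ∧ rK 2 = 1 ∧ rK 5 = 3 ∧
    rK 0 = 0 ∧ rK 1 = 0 ∧ rK 3 = 2 ∧ rK 4 = 2 := by decide +kernel

theorem aMap_lt {k i : ℕ} (hk : k < 4) (hi : i < 384) : aMap k i < 384 ∧ aMap k (aMap k i) = i := by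
  have h := allBelow_eq_true.mp (allBelow_eq_true.mp aMap_ok k hk) i hi
  simp only [Bool.and_eq_true, Nat.blt_eq, Nat.beq_eq] at h
  exact ⟨h.1.1, h.2⟩

/-- An element given by a word in the letters of the centraliser. -/
noncomputable def wC (l : List ℕ) : CBs :=
  if h : ∀ s ∈ l, s < 9 then ⟨ctx.ev l, Subgroup.mem_centralizer_singleton_iff.mpr (ev_comm_b h)⟩ else 1

theorem wC_coe {l : List ℕ} (h : ∀ s ∈ l, s < 9) : (wC l : R) = ctx.ev l := by rw [wC, dif_pos h]

variable {G : Type*} [Group G] (Φ : CBs →* G)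

/-- The triangle value. -/
noncomputable def triV (x : G) (c : ℕ) : G := x * (Φ (wC (rG c)) * x * (Φ (wC (rH c)) * x))

/-- The triangle value is in the list. -/
theorem triV_mem (hinj : Function.Injective Φ)
    (hrange : ∀ y, y * Φ ⟨_, bE_memC⟩ = Φ ⟨_, bE_memC⟩ * y → y ∈ Φ.range)
    (hcard : Nat.card CBs = 190080) {x : G} {c : ℕ} (hc : c < 6) (hx2 : x * x = 1)
    (hx : ∀ i < 384, x * Φ (dC i) * x⁻¹ = Φ (dC (aMap (rK c) i))) :
    ∃ d ∈ Data.relYs.getD c [], d < 384 ∧ triV Φ x c = Φ (wC (rY c) * dC d) := by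
  rw [← dC_one] at hrange
  have hC := allBelow_eq_true.mp rel_words_ok c hc
  simp only [Bool.and_eq_true, Nat.beq_eq, Nat.blt_eq, Nat.ble_eq, allBelow_eq_true] at hC
  obtain ⟨⟨⟨⟨⟨⟨⟨⟨⟨hk, hg⟩, hh⟩, hy⟩, hs0⟩, hb0⟩, hs1⟩, hz1⟩, hsel⟩, hlen⟩ := hC
  have hg' := ltB_iff.mp hg
  have hh' := ltB_iff.mp hh
  have hy' := ltB_iff.mp hy
  set g := wC (rG c) with hgdef
  set h := wC (rH c) with hhdef
  set y : G := triV Φ x c with hyd
  have xi : x⁻¹ = x := inv_eq_of_mul_eq_one_right hx2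
  have key : ∀ i < (Data.relSel.getD c []).length,
      y * Φ (dC (rSel c i 0)) * y⁻¹ = Φ (dC (aMap (rK c) (rSel c i 2))) := by
    intro i hi
    obtain ⟨⟨hlt, e1⟩, e2⟩ := hsel i hi
    have l0 := hlt 0 (by norm_num)
    have l1 := hlt 1 (by norm_num)
    have l2 := hlt 2 (by norm_num)
    have c1 : h * dC (aMap (rK c) (rSel c i 0)) = dC (rSel c i 1) * h := Subtype.ext (by
      have := eq_of_same e1
      rw [Ctx.ev_append, Ctx.ev_append] at this
      rw [Subgroup.coe_mul, Subgroup.coe_mul, hhdef, wC_coe hh', dC_coe (aMap_lt hk l0).1, dC_coe l1]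
      exact this)
    have c2 : g * dC (aMap (rK c) (rSel c i 1)) = dC (rSel c i 2) * g := Subtype.ext (by
      have := eq_of_same e2
      rw [Ctx.ev_append, Ctx.ev_append] at this
      rw [Subgroup.coe_mul, Subgroup.coe_mul, hgdef, wC_coe hg', dC_coe (aMap_lt hk l1).1, dC_coe l2]
      exact this)
    have d1 : Φ h * Φ (dC (aMap (rK c) (rSel c i 0))) * (Φ h)⁻¹ = Φ (dC (rSel c i 1)) := by
      rw [← map_inv, ← map_mul, ← map_mul, c1, mul_inv_cancel_right]
    have d2 : Φ g * Φ (dC (aMap (rK c) (rSel c i 1))) * (Φ g)⁻¹ = Φ (dC (rSel c i 2)) := by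
      rw [← map_inv, ← map_mul, ← map_mul, c2, mul_inv_cancel_right]
    calc y * Φ (dC (rSel c i 0)) * y⁻¹
        = x * (Φ g * (x * (Φ h * (x * Φ (dC (rSel c i 0)) * x⁻¹) * (Φ h)⁻¹) * x⁻¹) * (Φ g)⁻¹) * x⁻¹ := by
          rw [hyd, triV, hgdef, hhdef]; group
      _ = x * (Φ g * (x * Φ (dC (rSel c i 1)) * x⁻¹) * (Φ g)⁻¹) * x⁻¹ := by rw [hx _ l0, d1]
      _ = x * Φ (dC (rSel c i 2)) * x⁻¹ := by rw [hx _ l1, d2]
      _ = _ := hx _ l2
  have k0 := key 0 (by omega)
  rw [hs0, hb0] at k0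
  obtain ⟨yc, hyc⟩ := hrange y (mul_inv_eq_iff_eq_mul.mp k0)
  have key' : ∀ i < (Data.relSel.getD c []).length,
      yc * dC (rSel c i 0) = dC (aMap (rK c) (rSel c i 2)) * yc := by
    intro i hi
    refine hinj ?_
    rw [map_mul, map_mul, hyc]
    exact mul_inv_eq_iff_eq_mul.mp (key i hi)
  have hcomm : ((wC (rY c))⁻¹ * yc : CBs) * dC 2 = dC 2 * ((wC (rY c))⁻¹ * yc) := by
    have k1 := key' 1 (by omega)
    have l2 := (hsel 1 (by omega)).1.1 2 (by norm_num)
    rw [hs1] at k1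
    have e : dC (aMap (rK c) (rSel c 1 2)) * wC (rY c) = wC (rY c) * dC 2 := Subtype.ext (by
      have := eq_of_same hz1
      rw [Ctx.ev_append, Ctx.ev_append, ctx.ev_single, gen_one, ← dEl_two] at this
      rw [Subgroup.coe_mul, Subgroup.coe_mul, wC_coe hy', dC_coe (aMap_lt hk l2).1, dC_coe (by norm_num)]
      exact this)
    calc (wC (rY c))⁻¹ * yc * dC 2 = (wC (rY c))⁻¹ * (yc * dC 2) := mul_assoc _ _ _
      _ = (wC (rY c))⁻¹ * (dC (aMap (rK c) (rSel c 1 2)) * wC (rY c)) * ((wC (rY c))⁻¹ * yc) := by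
        rw [k1]; group
      _ = _ := by rw [e]; group
  obtain ⟨d, hd, hde⟩ := exists_dEl hcard
    (Subgroup.mem_centralizer_singleton_iff.mp ((wC (rY c))⁻¹ * yc : CBs).2) (by
      have := congrArg Subtype.val hcomm
      simpa [dC_coe (show 2 < 384 by norm_num), dEl_two] using this)
  have hyd' : yc = wC (rY c) * dC d := by
    rw [show dC d = (wC (rY c))⁻¹ * yc from Subtype.ext (by rw [dC_coe hd, ← hde]), mul_inv_cancel_left]
  refine ⟨d, ?_, hd, by rw [← hyd', hyc]⟩
  have hf := allBelow_eq_true.mp (allBelow_eq_true.mp rel_filter_ok c hc) d hd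
  simp only [Bool.or_eq_true, List.any_eq_true, List.mem_range, Bool.not_eq_true'] at hf
  rcases hf with ⟨a, ha, hae⟩ | ⟨i, hi, hne⟩
  · exact (Nat.eq_of_beq_eq_true hae) ▸ ha
  · exfalso
    have l0 := (hsel i hi).1.1 0 (by norm_num)
    have l2 := (hsel i hi).1.1 2 (by norm_num)
    have e := key' i hi
    rw [hyd'] at e
    have e' := congrArg Subtype.val e
    simp only [Subgroup.coe_mul, wC_coe hy', dC_coe hd, dC_coe l0, dC_coe (aMap_lt hk l2).1] at e'
    have h9 : ∀ {l : List ℕ}, (∀ s ∈ l, s < 9) → ∀ s ∈ l, s < ctx.k := fun hl s hs =>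
      lt_of_lt_of_le (hl s hs) (show 9 ≤ Data.k by decide +kernel)
    have hw : ∀ {j}, j < 384 → ∀ s ∈ dW j, s < ctx.k := fun hj => dW_ltk hj
    have := same_of_eq (a := rY c ++ dW d ++ dW (rSel c i 0))
      (b := dW (aMap (rK c) (rSel c i 2)) ++ rY c ++ dW d)
      (fun s hs => by
        simp only [List.mem_append] at hs
        rcases hs with (hs | hs) | hs
        exacts [h9 hy' s hs, hw hd s hs, hw l0 s hs])
      (fun s hs => by
        simp only [List.mem_append] at hs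
        rcases hs with (hs | hs) | hs
        exacts [hw (aMap_lt hk l2).1 s hs, h9 hy' s hs, hw hd s hs])
      (by
        simp only [Ctx.ev_append]
        show ctx.ev (rY c) * dEl d * dEl (rSel c i 0) =
          dEl (aMap (rK c) (rSel c i 2)) * ctx.ev (rY c) * dEl d
        rw [mul_assoc (dEl _) (ctx.ev _)]
        exact e')
    rw [hne] at this
    exact Bool.noConfusion this

/-- Only two of the four automorphisms occur. -/
theorem normal_swap_class [Finite G] (hinj : Function.Injective Φ)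
    (hrange : ∀ y, y * Φ ⟨_, bE_memC⟩ = Φ ⟨_, bE_memC⟩ * y → y ∈ Φ.range)
    (hcard : Nat.card CBs = 190080) {x : G} {k : ℕ} (hk : k < 4) (hx2 : x * x = 1)
    (hx : ∀ i < 384, x * Φ (dC i) * x⁻¹ = Φ (dC (aMap k i))) : k = 0 ∨ k = 2 := by
  obtain ⟨e2, e5, k2, k5, -⟩ := rel_empty
  rcases (show k = 0 ∨ k = 1 ∨ k = 2 ∨ k = 3 by omega) with h | rfl | h | rfl
  · exact Or.inl h
  · obtain ⟨d, hd, -⟩ := triV_mem Φ hinj hrange hcard (c := 2) (by norm_num) hx2 (by rw [k2]; exact hx)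
    rw [e2] at hd
    simp at hd
  · exact Or.inr h
  · obtain ⟨d, hd, -⟩ := triV_mem Φ hinj hrange hcard (c := 5) (by norm_num) hx2 (by rw [k5]; exact hx)
    rw [e5] at hd
    simp at hd

end Cfsg.Agent.Co3TwoM12
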