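import Mathlib
import Cfsg.Prelude.Def_Transfer

/-!
A nonabelian finite simple group is its own 2-residual.
-/

set_option autoImplicit false

namespace Cfsg.Agent.Co3TwoM12

/-- A nonabelian finite simple group is its own 2-residual. -/
theorem pResidual_simple {G : Type*} [Group G] [Finite G] [IsSimpleGroup G] (hG : ¬ IsMulCommutative G) :
    Cfsg.pResidual 2 G = ⊤ := by
  have hn : (Cfsg.pResidual 2 G).Normal := by
    refine ⟨fun n hn g => ?_⟩
    induction hn using Subgroup.closure_induction with
    | mem y hy =>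
      refine Subgroup.subset_closure ?_
      show Nat.Coprime (orderOf (g * y * g⁻¹)) 2
      rw [← MulAut.conj_apply, MulEquiv.orderOf_eq]
      exact hy
    | one => simp [one_mem]
    | mul a b _ _ ha hb =>
      rw [show g * (a * b) * g⁻¹ = g * a * g⁻¹ * (g * b * g⁻¹) by group]
      exact mul_mem ha hb
    | inv a _ ha =>
      rw [show g * a⁻¹ * g⁻¹ = (g * a * g⁻¹)⁻¹ by group]
      exact inv_mem ha
  refine hn.eq_bot_or_eq_top.resolve_left fun hbot => hG ?_
  have : Fact (Nat.Prime 2) := ⟨Nat.prime_two⟩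
  have hp : IsPGroup 2 G := by
    refine IsPGroup.iff_card.mpr ⟨_, Nat.eq_prime_pow_of_unique_prime_dvd Nat.card_pos.ne' ?_⟩
    intro q hq hdvd
    by_contra hne
    have : Fact q.Prime := ⟨hq⟩
    obtain ⟨g, hg⟩ := exists_prime_orderOf_dvd_card' q hdvd
    have hmem : g ∈ Cfsg.pResidual 2 G := Subgroup.subset_closure (by
      show Nat.Coprime (orderOf g) 2
      rw [hg]
      exact (Nat.coprime_primes hq Nat.prime_two).mpr hne)
    rw [hbot, Subgroup.mem_bot] at hmem
    rw [hmem, orderOf_one] at hg
    exact hq.ne_one hg.symm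
  have : Nontrivial G := IsSimpleGroup.toNontrivial
  have hc : Subgroup.center G = ⊤ :=
    (Subgroup.Normal.eq_bot_or_eq_top inferInstance).resolve_left (hp.center_nontrivial |> fun h => by
      intro he
      have := he ▸ h
      exact not_nontrivial (⊥ : Subgroup G) this)
  exact ⟨⟨fun a b => (Subgroup.mem_center_iff.mp (hc ▸ Subgroup.mem_top b) a)⟩⟩

end Cfsg.Agent.Co3TwoM12
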