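import Cfsg.Agent.Co3TwoM12.DList

/-!
A Sylow 2-subgroup of the centraliser inside the common centraliser: its centre and the squares of
its elements.
-/

set_option autoImplicit false
set_option maxRecDepth 100000

namespace Cfsg.Agent.Co3TwoM12

open Cfsg Cfsg.Agent.Compute Cfsg.Agent.StemCert
open Cfsg.Agent.Co3Rec (R Ctx ltB ltB_iff unW conj_into isPGroup_zpowers)

theorem special_idx : Nat.beq (dMul 1 2) 7 = true ∧ same (dW 1) [0] = true ∧ same (dW 2) [1] = true ∧
    same (dW 0) [] = true := by decide +kernel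

theorem dEl_one : dEl 1 = Co3Rec.bE := by
  rw [dEl, eq_of_same special_idx.2.1, ctx.ev_single, gen_zero]

theorem dEl_two : dEl 2 = Co3Rec.tE := by
  rw [dEl, eq_of_same special_idx.2.2.1, ctx.ev_single, gen_one]

theorem dEl_seven : dEl 7 = Co3Rec.bE * Co3Rec.tE := by
  rw [← dEl_one, ← dEl_two, (dMul_spec (by norm_num) (by norm_num)).2,
    Nat.eq_of_beq_eq_true special_idx.1]

theorem tEls_ok : allBelow 128 (fun i => Nat.blt (Data.tEls i) 384 &&
    allBelow 128 (fun j => Nat.beq i j || !(Nat.beq (Data.tEls i) (Data.tEls j))) &&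
    allBelow 128 (fun j => (List.range 128).any fun l =>
      Nat.beq (dMul (Data.tEls i) (Data.tEls j)) (Data.tEls l))) = true := by decide +kernel

theorem tEls_zero : Nat.beq (Data.tEls 0) 0 = true := by decide +kernel

theorem tEls_lt {i : ℕ} (hi : i < 128) : Data.tEls i < 384 := by
  have h := allBelow_eq_true.mp tEls_ok i hi
  simp only [Bool.and_eq_true, Nat.blt_eq] at h
  exact h.1.1

/-- The elements of the Sylow subgroup, as a submonoid. -/
noncomputable def T0M : Submonoid R where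
  carrier := {x | ∃ i < 128, x = dEl (Data.tEls i)}
  one_mem' := ⟨0, by norm_num, by rw [Nat.eq_of_beq_eq_true tEls_zero, dEl_zero]⟩
  mul_mem' := by
    rintro _ _ ⟨i, hi, rfl⟩ ⟨j, hj, rfl⟩
    have h := allBelow_eq_true.mp tEls_ok i hi
    simp only [Bool.and_eq_true] at h
    have h2 := allBelow_eq_true.mp h.2 j hj
    simp only [List.any_eq_true, List.mem_range, Nat.beq_eq] at h2
    obtain ⟨l, hl, e⟩ := h2
    exact ⟨l, hl, by rw [(dMul_spec (tEls_lt hi) (tEls_lt hj)).2, e]⟩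

/-- The Sylow subgroup. -/
noncomputable def T0 : Subgroup R :=
  { T0M with
    inv_mem' := fun {x} hx => by
      have e : x⁻¹ = x ^ (orderOf x - 1) := by
        refine (eq_inv_of_mul_eq_one_left ?_).symm
        rw [← pow_succ, Nat.sub_add_cancel (orderOf_pos x), pow_orderOf_eq_one]
      rw [e]
      exact pow_mem (show x ∈ T0M from hx) _ }

theorem mem_T0 {x : R} : x ∈ T0 ↔ ∃ i < 128, x = dEl (Data.tEls i) := Iff.rfl

theorem card_T0 : Nat.card T0 = 2 ^ 7 := by
  let f : Fin 128 → T0 := fun i => ⟨dEl (Data.tEls i), mem_T0.mpr ⟨i, i.2, rfl⟩⟩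
  have hf : Function.Bijective f := by
    refine ⟨fun i j e => ?_, fun x => ?_⟩
    · have e' := dEl_inj (tEls_lt i.2) (tEls_lt j.2) (congrArg Subtype.val e)
      have h := allBelow_eq_true.mp tEls_ok i i.2
      simp only [Bool.and_eq_true] at h
      have h2 := allBelow_eq_true.mp h.1.2 j j.2
      simp only [Bool.or_eq_true, Nat.beq_eq, e'] at h2
      exact Fin.ext (h2.resolve_right (by simp))
    · obtain ⟨i, hi, e⟩ := mem_T0.mp x.2
      exact ⟨⟨i, hi⟩, Subtype.ext e.symm⟩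
  rw [← Nat.card_eq_of_bijective f hf, Nat.card_fin]
  norm_num

theorem T0_comm {x : R} (hx : x ∈ T0) : x * Co3Rec.bE = Co3Rec.bE * x ∧
    x * Co3Rec.tE = Co3Rec.tE * x := by
  obtain ⟨i, hi, rfl⟩ := mem_T0.mp hx
  exact dEl_comm (tEls_lt hi)

theorem centre_ok : allBelow 384 (fun i => Nat.beq i 0 || Nat.beq i 1 || Nat.beq i 2 || Nat.beq i 7 ||
    (List.range 128).any (fun j => !(Nat.beq (dMul i (Data.tEls j)) (dMul (Data.tEls j) i)))) = true := by
  decide +kernel

theorem T0_has_tE : (List.range 128).any (fun j => Nat.beq (Data.tEls j) 2) = true := by decide +kernel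

theorem tE_mem_T0 : Co3Rec.tE ∈ T0 := by
  have h := T0_has_tE
  simp only [List.any_eq_true, List.mem_range, Nat.beq_eq] at h
  obtain ⟨j, hj, e⟩ := h
  exact mem_T0.mpr ⟨j, hj, by rw [e, dEl_two]⟩

/-- The elements of the centraliser commuting with the Sylow subgroup. -/
theorem centralizer_T0 (hcard : Nat.card (Subgroup.centralizer ({Co3Rec.bE} : Set R)) = 190080) {x : R}
    (h1 : x * Co3Rec.bE = Co3Rec.bE * x) (h2 : ∀ s ∈ T0, s * x = x * s) :
    x = 1 ∨ x = Co3Rec.bE ∨ x = Co3Rec.tE ∨ x = Co3Rec.bE * Co3Rec.tE := by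
  obtain ⟨i, hi, rfl⟩ := exists_dEl hcard h1 (h2 _ tE_mem_T0).symm
  have h := allBelow_eq_true.mp centre_ok i hi
  simp only [Bool.or_eq_true, Nat.beq_eq, List.any_eq_true, List.mem_range, Bool.not_eq_true'] at h
  rcases h with (((rfl | rfl) | rfl) | rfl) | ⟨j, hj, hne⟩
  · exact Or.inl dEl_zero
  · exact Or.inr (Or.inl dEl_one)
  · exact Or.inr (Or.inr (Or.inl dEl_two))
  · exact Or.inr (Or.inr (Or.inr dEl_seven))
  · exfalso
    obtain ⟨a1, a2⟩ := dMul_spec hi (tEls_lt hj)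
    obtain ⟨b1, b2⟩ := dMul_spec (tEls_lt hj) hi
    have := dEl_inj a1 b1 (by rw [← a2, ← b2]; exact (h2 _ (mem_T0.mpr ⟨j, hj, rfl⟩)).symm)
    rw [this] at hne
    simp at hne

theorem sq_ok : allBelow 128 (fun i => Nat.blt (Data.tSq i) 384 &&
    Nat.beq (dMul (Data.tEls i) (Data.tEls i)) (Data.tSq i) &&
    (Nat.beq (Data.tSq i) 0 || !(Nat.beq (dMul (Data.tSq i) (Data.tSq i)) 0) ||
      (Nat.blt (Data.tSqWit i) 495 && ltB 9 (unW (Data.zW.get (Data.tSqWit i))) &&
        same (dW (Data.tSq i))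
          (unW (Data.zW.get (Data.tSqWit i)) ++ 1 :: ctx.inv (unW (Data.zW.get (Data.tSqWit i))))))) = true := by
  decide +kernel

/-- An involution of the centraliser that is a square is a conjugate of the second involution. -/
theorem exists_sq_conj (hcard : Nat.card (Subgroup.centralizer ({Co3Rec.bE} : Set R)) = 190080) {s : R}
    (hs : s * Co3Rec.bE = Co3Rec.bE * s) (h1 : s * s ≠ 1) (h4 : s * s * (s * s) = 1) :
    ∃ c : R, c * Co3Rec.bE = Co3Rec.bE * c ∧ s * s = c * Co3Rec.tE * c⁻¹ := by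
  classical
  set C := Subgroup.centralizer ({Co3Rec.bE} : Set R)
  have memC : ∀ {x : R}, x ∈ C ↔ x * Co3Rec.bE = Co3Rec.bE * x := fun {x} =>
    Subgroup.mem_centralizer_singleton_iff
  have hle : T0 ≤ C := fun x hx => memC.mpr (T0_comm hx).1
  let sC : C := ⟨s, memC.mpr hs⟩
  have hp : IsPGroup 2 (Subgroup.zpowers sC) := by
    rintro ⟨y, n, rfl⟩
    refine ⟨2, Subtype.ext ?_⟩
    show (sC ^ n) ^ (2 ^ 2) = 1
    have e : sC ^ (2 ^ 2 : ℕ) = 1 := Subtype.ext (by
      show s ^ (2 ^ 2) = 1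
      rw [show s ^ (2 ^ 2) = s * s * (s * s) by norm_num [pow_succ, mul_assoc], h4])
    rw [← zpow_natCast, ← zpow_mul, mul_comm, zpow_mul, zpow_natCast, e, one_zpow]
  obtain ⟨g, hg⟩ := conj_into (T0.subgroupOf C) (k := 7) (m := 1485)
    (by rw [Nat.card_congr (Subgroup.subgroupOfEquivOfLe hle).toEquiv, card_T0])
    (hcard.trans (by norm_num)) (by norm_num) hp
  obtain ⟨i, hi, e⟩ := mem_T0.mp (hg sC (Subgroup.mem_zpowers _))
  change (g : R) * s * (g : R)⁻¹ = dEl (Data.tEls i) at e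
  have h := allBelow_eq_true.mp sq_ok i hi
  simp only [Bool.and_eq_true, Nat.blt_eq, Nat.beq_eq, Bool.or_eq_true, Bool.not_eq_true'] at h
  obtain ⟨⟨hlt, hsq⟩, hc⟩ := h
  have e2 : dEl (Data.tSq i) = (g : R) * (s * s) * (g : R)⁻¹ := by
    rw [← hsq, ← (dMul_spec (tEls_lt hi) (tEls_lt hi)).2, ← e]; group
  rcases hc with (hc | hc) | ⟨⟨-, hl⟩, hsame⟩
  · rw [hc, dEl_zero] at e2
    exact absurd (conj_eq_one_iff.mp e2.symm) h1
  · exfalso
    obtain ⟨a1, a2⟩ := dMul_spec hlt hlt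
    have : dMul (Data.tSq i) (Data.tSq i) = 0 := dEl_inj a1 (by norm_num) (by
      rw [← a2, e2, dEl_zero]
      calc _ = (g : R) * (s * s * (s * s)) * (g : R)⁻¹ := by group
        _ = 1 := by rw [h4]; group)
    rw [this] at hc
    simp at hc
  · have hl' := ltB_iff.mp hl
    have e3 : dEl (Data.tSq i) = _ := eq_of_same hsame
    rw [Ctx.ev_append, Ctx.ev_cons, gen_one, ctx.ev_inv (fun x hx => lt_of_lt_of_le (hl' x hx)
      (show 9 ≤ Data.k by decide +kernel)), e2] at e3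
    refine ⟨(g : R)⁻¹ * ctx.ev (unW (Data.zW.get (Data.tSqWit i))),
      (Commute.mul_left (Commute.inv_left (memC.mp g.2)) (ev_comm_b hl')).eq, ?_⟩
    calc s * s = (g : R)⁻¹ * ((g : R) * (s * s) * (g : R)⁻¹) * g := by group
      _ = _ := by rw [e3]; group

end Cfsg.Agent.Co3TwoM12
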