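import Cfsg.Agent.Co3TwoM12.WreathModel
import Cfsg.Agent.Co3TwoM12.Cert.Wreath.Cert
import Cfsg.Agent.Co3TwoM12.Transfer
import Cfsg.Agent.Compute.Mathieu

/-!
The first automorphism with the first choice of relators gives the wreathed product of two copies
of the Mathieu group, and then the involution is outside the 2-residual.
-/

set_option autoImplicit false
set_option maxRecDepth 100000

namespace Cfsg.Agent.Co3TwoM12.WreathModel

open Cfsg Cfsg.Agent.Compute Cfsg.Agent.StemCert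
open Cfsg.Agent.Co3Rec (R Ctx ltB ltB_iff)
open SemidirectProduct

theorem card_Mg : Nat.card Mg = 95040 := by
  rw [Nat.card_congr CentCert.M_iso.some.toEquiv, Compute.card_m12]

instance finite_Mg : Finite Mg := Nat.finite_of_card_ne_zero (by rw [card_Mg]; norm_num)

instance simple_Mg : IsSimpleGroup Mg :=
  haveI := Compute.isSimpleGroup_m12
  MulEquiv.isSimpleGroup CentCert.M_iso.some

theorem center_Mg {a : Mg} (h : ∀ m : Mg, m * a = a * m) : a = 1 := by
  obtain ⟨e⟩ := CentCert.M_iso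
  have hc : e a ∈ Subgroup.center ↥Cfsg.Spor.M12 := Subgroup.mem_center_iff.mpr fun g => by
    rw [← e.apply_symm_apply g, ← map_mul, ← map_mul, h]
  rw [center_m12, Subgroup.mem_bot] at hc
  exact e.map_eq_one_iff.mp hc

theorem card_W : Nat.card W = 95040 * 95040 * 2 := by
  rw [SemidirectProduct.card, Nat.card_prod, card_Mg]
  simp [Nat.card_eq_fintype_card]

instance finite_W : Finite W := Nat.finite_of_card_ne_zero (by rw [card_W]; norm_num)

/-- The central involution in the model. -/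
noncomputable def t0 : W := Φ0 ⟨_, bE_memC⟩

theorem E_bC : E ⟨_, bE_memC⟩ = (Multiplicative.ofAdd 1, 1) := by
  refine (MulEquiv.symm_apply_eq _).mpr ?_
  show bC = twoHom (Multiplicative.ofAdd 1) * compHom 1
  rw [map_one compHom, mul_one, twoHom_of_ne (a := Multiplicative.ofAdd 1) (by decide)]

theorem t0_eq : t0 = inr (Multiplicative.ofAdd 1) := by
  rw [t0, Φ0_eq, E_bC]
  rfl

theorem diag_mem (n : Mg) : Φ0 (E.symm (1, n)) = inl (n, n) := by
  rw [Φ0_eq, show E (E.symm (1, n)) = (1, n) from E.apply_symm_apply _]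
  rfl

theorem swap_inl (a b : Mg) : t0 * (inl (a, b) : W) * t0⁻¹ = inl (b, a) := by
  rw [t0_eq, ← map_inv inr, ← inl_aut, act_swap_apply]

theorem z_ok : same (muW (dWord ++ [1] ++ dWord)) [] = false ∧
    teq (tmul xT (trip dWord)) (dWord ++ [1] ++ dWord, [], false) = true ∧
    ltB 9 (dWord ++ [1] ++ dWord) = true ∧ ltB 9 dWord = true := by
  refine ⟨?_, ?_, ?_, ?_⟩ <;> decide +kernel

/-- The model is generated. -/
theorem generated : Subgroup.closure (Set.range Φ0 ∪ {x0}) = ⊤ := by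
  set Δ := Subgroup.closure (Set.range Φ0 ∪ {x0}) with hΔ
  have hΦ : ∀ c, Φ0 c ∈ Δ := fun c => Subgroup.subset_closure (Or.inl ⟨c, rfl⟩)
  have hd : ∀ n : Mg, (inl (n, n) : W) ∈ Δ := fun n => diag_mem n ▸ hΦ _
  have ht : t0 ∈ Δ := hΦ _
  let K : Subgroup Mg := Δ.comap ((inl : MM →* W).comp (MonoidHom.inl Mg Mg))
  have hK : K.Normal := ⟨fun a ha n => by
    show (inl (n * a * n⁻¹, (1 : Mg)) : W) ∈ Δ
    have := mul_mem (mul_mem (hd n) (show (inl (a, (1 : Mg)) : W) ∈ Δ from ha)) (inv_mem (hd n))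
    rw [← map_mul, ← map_inv, ← map_mul] at this
    simpa using this⟩
  have hne : K ≠ ⊥ := fun hbot => by
    obtain ⟨h1, h2, h3, h4⟩ := z_ok
    have hm : tv (dWord ++ [1] ++ dWord, [], false) ∈ Δ := by
      rw [← eq_of_teq h2, tv_mul, ← Φ0_word (ltB_iff.mp h4)]
      exact mul_mem (Subgroup.subset_closure (Or.inr rfl)) (hΦ _)
    have hzK : mw (dWord ++ [1] ++ dWord) ∈ K := hm
    rw [hbot, Subgroup.mem_bot] at hzK
    have h' := congrArg Subtype.val hzK
    rw [mw_coe (ltB_iff.mp h3)] at h'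
    rw [same_of_eq (muW_lt (ltB_iff.mp h3)) (by simp) (by rw [h', Ctx.ev_nil]; rfl)] at h1
    simp at h1
  have htop : K = ⊤ := hK.eq_bot_or_eq_top.resolve_left hne
  have hl : ∀ a : Mg, (inl (a, (1 : Mg)) : W) ∈ Δ := fun a =>
    show a ∈ K by rw [htop]; exact Subgroup.mem_top a
  rw [eq_top_iff]
  rintro ⟨⟨a, b⟩, e⟩ -
  have e1 : (⟨(a, b), e⟩ : W) = inl (a, (1 : Mg)) * inl ((1 : Mg), b) * inr e := by
    rw [← map_mul, ← mk_eq_inl_mul_inr]
    simp
  rw [e1]
  refine mul_mem (mul_mem (hl a) ?_) ?_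
  · rw [← swap_inl b 1]
    exact mul_mem (mul_mem ht (hl b)) (inv_mem ht)
  · rcases z2_cases e with rfl | rfl
    · rw [map_one]; exact one_mem _
    · rw [← t0_eq]; exact ht

/-- Involutions outside the pairs are conjugate to the exchange. -/
theorem conj_swap {w : W} (h2 : w * w = 1) (h : w.right ≠ 1) : ∃ c : W, w = c * t0 * c⁻¹ := by
  obtain ⟨⟨a, b⟩, e⟩ := w
  obtain rfl : e = Multiplicative.ofAdd 1 := (z2_cases e).resolve_left h
  have hab : a * b = 1 := by
    have h' := congrArg (fun w : W => w.left.1) h2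
    simp only [mul_left, one_left, act_swap_apply, Prod.fst_mul, Prod.fst_one] at h'
    exact h'
  refine ⟨inl (a, 1), ?_⟩
  rw [mk_eq_inl_mul_inr, ← t0_eq]
  have h1 : t0 * (inl (a, (1 : Mg)) : W)⁻¹ = inl ((1 : Mg), a⁻¹) * t0 := by
    rw [← swap_inl a⁻¹ 1, ← map_inv]
    rw [show ((a, (1 : Mg))⁻¹ : MM) = (a⁻¹, 1) from Prod.ext rfl inv_one]
    group
  rw [mul_assoc (inl (a, (1 : Mg))) t0, h1, ← mul_assoc, ← map_mul]
  congr 2
  exact Prod.ext (mul_one a).symm (by rw [Prod.snd_mul, one_mul]; exact eq_inv_of_mul_eq_one_right hab)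

end Cfsg.Agent.Co3TwoM12.WreathModel

namespace Cfsg.Agent.Co3TwoM12.Cert

open Cfsg Cfsg.Agent.Compute
open Cfsg.Agent.Co3Rec (R)
open WreathModel SemidirectProduct

theorem cq_generate : Subgroup.closure {y | ∃ g, g < P.nL ∧ y = P.q g} = (⊤ : Subgroup CBs) := by
  apply Subgroup.map_injective CBs.subtype_injective
  rw [MonoidHom.map_closure, ← MonoidHom.range_eq_map, Subgroup.range_subtype]
  refine le_antisymm ?_ ?_
  · rw [Subgroup.closure_le]
    rintro _ ⟨y, -, rfl⟩
    exact y.2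
  · show CB ≤ _
    rw [CB_eq_closure]
    refine Subgroup.closure_mono ?_
    rintro _ (rfl | rfl)
    · exact ⟨cq 6, ⟨6, (by decide : 6 < 9), rfl⟩, cq_coe (by norm_num)⟩
    · exact ⟨cq 7, ⟨7, (by decide : 7 < 9), rfl⟩, cq_coe (by norm_num)⟩

theorem card_CBs : Nat.card CBs = 190080 := card_CB

instance wreath_finite_CBs : Finite CBs := Nat.finite_of_card_ne_zero (by rw [card_CBs]; norm_num)

/-- The bound of the certificate. -/
theorem Rel.card_le_wreath {H : Type*} [Group H] [Finite H] {Φ : CBs →* H} {x : H}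
    (h : Rel Φ x 0 Wreath.rels) (hgen : Subgroup.closure (Set.range Φ ∪ {x}) = ⊤) :
    Nat.card H ≤ 95040 * 95040 * 2 := by
  have hgenG : Subgroup.closure (Set.range Φ ∪ {y | ∃ t, t < Wreath.rules.nT ∧ y = Tfun x t}) = ⊤ := by
    rw [eq_top_iff, ← hgen]
    refine Subgroup.closure_mono (Set.union_subset_union_right _ ?_)
    rintro y rfl
    exact ⟨1, (by decide : 1 < 2), by simp [Tfun]⟩
  have hs := h.sound (by norm_num) Wreath.rels_ok
  have hF := DCoset.Steps.holds (D := Wreath.steps) (Hs := Φ.range) hs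
    (fun g _ => ⟨P.q g, rfl⟩) Wreath.node_src (by show 0 < 2; norm_num) Wreath.steps_ok
  obtain ⟨-, hle⟩ := DCoset.Cover.index_le (C := Wreath.cover) (P := P) Φ (Tfun x) card_CBs.le
    cq_generate hgenG hs Wreath.valid hF
  rw [Wreath.idx_sum] at hle
  have h1 : Nat.card Φ.range ≤ 190080 :=
    card_CBs ▸ Nat.card_le_card_of_surjective _ (MonoidHom.rangeRestrict_surjective Φ)
  rw [← Subgroup.card_mul_index Φ.range]
  calc Nat.card Φ.range * Φ.range.index ≤ 190080 * 95040 := Nat.mul_le_mul h1 hle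
    _ = 95040 * 95040 * 2 := by norm_num

variable {G : Type*} [Group G] [Finite G]

/-- The relations give an image of the wreathed product. -/
theorem Rel.exists_wreath {Φ : CBs →* G} {x : G} (hinj : Function.Injective Φ)
    (h : Rel Φ x 0 Wreath.rels) :
    ∃ θ : W →* G, Function.Injective θ ∧ ∀ c, θ (Φ0 c) = Φ c := by
  classical
  let Ψ : CBs →* G × W := Φ.prod Φ0
  let Δ : Subgroup (G × W) := Subgroup.closure (Set.range Ψ ∪ {(x, x0)})
  have hΨ : ∀ c, Ψ c ∈ Δ := fun c => Subgroup.subset_closure (Or.inl ⟨c, rfl⟩)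
  let Ψ' : CBs →* Δ := Ψ.codRestrict Δ hΨ
  let x' : Δ := ⟨(x, x0), Subgroup.subset_closure (Or.inr rfl)⟩
  have hW := WreathModel.rel
  have hrel : Rel Ψ' x' 0 Wreath.rels :=
    ⟨Subtype.ext (Prod.ext h.sq hW.sq), fun i hi => Subtype.ext (Prod.ext (h.conj i hi) (by simpa [Ψ', Ψ, x'] using hW.conj i hi)),
      fun e he => Subtype.ext (Prod.ext (h.rel e he) (hW.rel e he))⟩
  have hgen : Subgroup.closure (Set.range Ψ' ∪ {x'}) = ⊤ := by
    apply Subgroup.map_injective Δ.subtype_injective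
    rw [MonoidHom.map_closure, ← MonoidHom.range_eq_map, Subgroup.range_subtype, Set.image_union,
      Set.image_singleton, ← Set.range_comp]
    rfl
  have hle := hrel.card_le_wreath hgen
  let π₂ : Δ →* W := (MonoidHom.snd G W).comp Δ.subtype
  have h2s : Function.Surjective π₂ := by
    rw [← MonoidHom.range_eq_top, eq_top_iff, ← generated, Subgroup.closure_le]
    rintro y (⟨c, rfl⟩ | rfl)
    · exact ⟨Ψ' c, rfl⟩
    · exact ⟨x', rfl⟩
  have hb : Function.Bijective π₂ := by
    refine (Nat.bijective_iff_surjective_and_card _).mpr ⟨h2s, ?_⟩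
    have h3 := Nat.card_le_card_of_surjective _ h2s
    have h4 := card_W
    omega
  let e : Δ ≃* W := MulEquiv.ofBijective π₂ hb
  let θ : W →* G := ((MonoidHom.fst G W).comp Δ.subtype).comp e.symm.toMonoidHom
  have hc : ∀ c, θ (Φ0 c) = Φ c := fun c => by
    show (e.symm (Φ0 c)).1.1 = _
    rw [show e.symm (Φ0 c) = Ψ' c from e.symm_apply_eq.mpr rfl]
    rfl
  refine ⟨θ, (injective_iff_map_eq_one θ).mpr fun k hk => ?_, hc⟩
  have hdiag : ∀ n : Mg, θ (inl (n, n)) = 1 → n = 1 := fun n hn => by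
    rw [← diag_mem, hc, ← map_one Φ] at hn
    have := congrArg E (hinj hn)
    rw [show E (E.symm (1, n)) = (1, n) from E.apply_symm_apply _, show E (1 : CBs) = 1 from map_one E] at this
    exact congrArg Prod.snd this
  have hpair : ∀ a b : Mg, θ (inl (a, b)) = 1 → a = 1 ∧ b = 1 := by
    have hfst : ∀ a b : Mg, θ (inl (a, b)) = 1 → a = 1 := fun a b hab => center_Mg fun m => by
      have h1 : θ (inl (m * a * m⁻¹ * a⁻¹, 1)) = 1 := by
        rw [show ((m * a * m⁻¹ * a⁻¹, 1) : MM) = (m, 1) * (a, b) * (m, 1)⁻¹ * (a, b)⁻¹ by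
          simp]
        simp only [map_mul, map_inv, hab]
        group
      have h2 : θ (inl ((1 : Mg), m * a * m⁻¹ * a⁻¹)) = 1 := by
        rw [← swap_inl, map_mul, map_mul, h1, map_inv]
        group
      have h3 := hdiag (m * a * m⁻¹ * a⁻¹) (by
        rw [show ((m * a * m⁻¹ * a⁻¹, m * a * m⁻¹ * a⁻¹) : MM) =
          (m * a * m⁻¹ * a⁻¹, 1) * ((1 : Mg), m * a * m⁻¹ * a⁻¹) by simp, map_mul, map_mul, h1, h2,
          one_mul])
      rwa [mul_inv_eq_one, mul_inv_eq_iff_eq_mul] at h3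
    intro a b hab
    refine ⟨hfst a b hab, hfst b a ?_⟩
    rw [← swap_inl, map_mul, map_mul, hab, map_inv]
    group
  obtain ⟨⟨a, b⟩, d⟩ := k
  rcases z2_cases d with rfl | rfl
  · have hk' : θ (inl (a, b)) = 1 := by
      rw [mk_eq_inl_mul_inr, map_one, mul_one] at hk; exact hk
    obtain ⟨rfl, rfl⟩ := hpair a b hk'
    rfl
  · exfalso
    obtain ⟨m, hm⟩ := exists_ne (1 : Mg)
    let g : W := inl (m, 1)
    let k : W := ⟨(a, b), Multiplicative.ofAdd 1⟩
    let c : W := g * k * g⁻¹ * k⁻¹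
    have hc1 : θ c = 1 := by
      simp only [c, map_mul, map_inv, show θ k = 1 from hk]
      group
    have hr : c.right = 1 := by
      simp only [c, g, k, mul_right, inv_right, right_inl]
      group
    obtain ⟨c', hcd⟩ : ∃ c' : W, c = c' := ⟨_, rfl⟩
    rw [hcd] at hc1 hr
    obtain ⟨⟨p, q⟩, r⟩ := c'
    have hr' : r = 1 := hr
    subst hr'
    rw [mk_eq_inl_mul_inr, map_one, mul_one] at hc1
    obtain ⟨rfl, rfl⟩ := hpair p q hc1
    have hgk : g * k = k * g := by
      have h1 : c = 1 := hcd.trans rfl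
      calc g * k = c * k * g := by simp only [c]; group
        _ = k * g := by rw [h1, one_mul]
    have h5 := congrArg (fun w : W => w.left.1) hgk
    simp only [g, k, mul_left, left_inl, right_inl, act_one_apply, act_swap_apply, Prod.fst_mul,
      mul_one] at h5
    exact hm (by simpa using h5)

open scoped _root_.Classical in
/-- The first choice of relators puts the involution outside the 2-residual. -/
theorem not_wreath (Φ : CBs →* G) (hinj : Function.Injective Φ)
    (hrange : ∀ y, y * Φ ⟨_, bE_memC⟩ = Φ ⟨_, bE_memC⟩ * y → y ∈ Φ.range)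
    (hO : Φ ⟨_, bE_memC⟩ ∈ Cfsg.pResidual 2 G) {x : G} (h : Rel Φ x 0 Wreath.rels) : False := by
  obtain ⟨θ, hθ, hc⟩ := h.exists_wreath hinj
  set t := Φ ⟨_, bE_memC⟩ with htdef
  have htθ : θ t0 = t := hc _
  have ht2 : t * t = 1 := by
    rw [htdef, ← map_mul, show (⟨_, bE_memC⟩ : CBs) * ⟨_, bE_memC⟩ = 1 from Subtype.ext bE_sq, map_one]
  let f : W ≃* θ.range := MonoidHom.ofInjective hθ
  let φ : θ.range →* Multiplicative (ZMod 2) := rightHom.comp f.symm.toMonoidHom
  have hval : ∀ (w : W) (hw : θ w ∈ θ.range), φ ⟨θ w, hw⟩ = w.right := fun w hw => by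
    show (f.symm ⟨θ w, hw⟩).right = _
    rw [show f.symm ⟨θ w, hw⟩ = w from f.symm_apply_eq.mpr rfl]
  have hV := map_eq_one_of_pResidual (MonoidHom.transfer φ) hO
  rw [transfer_involution φ ht2] at hV
  have hone : Nat.card {y : G ⧸ θ.range //
      ∃ hy : (y.out : G)⁻¹ * t * y.out ∈ θ.range, φ ⟨_, hy⟩ ≠ 1} = 1 := by
    rw [Nat.card_eq_one_iff_unique]
    refine ⟨⟨fun y z => ?_⟩, ⟨⟨((1 : G) : G ⧸ θ.range), ?_⟩⟩⟩
    · have key : ∀ y : G ⧸ θ.range,
          (∃ hy : (y.out : G)⁻¹ * t * y.out ∈ θ.range, φ ⟨_, hy⟩ ≠ 1) → (y.out : G) ∈ θ.range := by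
        rintro y ⟨hy, hne⟩
        obtain ⟨w, hw⟩ := hy
        have hw1 : w.right ≠ 1 := fun e => hne (by
          have := hval w ⟨w, rfl⟩
          simp only [hw] at this
          rw [this, e])
        have hw2 : w * w = 1 := hθ (by
          rw [map_mul, hw, map_one]
          calc (y.out : G)⁻¹ * t * y.out * ((y.out : G)⁻¹ * t * y.out)
              = (y.out : G)⁻¹ * (t * t) * y.out := by group
            _ = 1 := by rw [ht2]; group)
        obtain ⟨c, rfl⟩ := conj_swap hw2 hw1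
        rw [map_mul, map_mul, htθ, map_inv] at hw
        obtain ⟨s, hs⟩ := hrange ((y.out : G) * θ c) (by
          calc (y.out : G) * θ c * t = (y.out : G) * (θ c * t * (θ c)⁻¹) * θ c := by group
            _ = (y.out : G) * ((y.out : G)⁻¹ * t * y.out) * θ c := by rw [hw]
            _ = _ := by group)
        rw [show (y.out : G) = Φ s * (θ c)⁻¹ by rw [hs]; group, ← hc s]
        exact mul_mem ⟨_, rfl⟩ (inv_mem ⟨_, rfl⟩)
      refine Subtype.ext ?_
      rw [← QuotientGroup.out_eq' y.1, ← QuotientGroup.out_eq' z.1]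
      exact QuotientGroup.eq.mpr (mul_mem (inv_mem (key _ y.2)) (key _ z.2))
    · obtain ⟨c, hco⟩ : (((1 : G) : G ⧸ θ.range).out : G) ∈ θ.range := by
        have := QuotientGroup.eq.mp (QuotientGroup.out_eq' ((1 : G) : G ⧸ θ.range)).symm
        simpa using this
      have e : θ (c⁻¹ * t0 * c) = (((1 : G) : G ⧸ θ.range).out : G)⁻¹ * t * ((1 : G) : G ⧸ θ.range).out := by
        rw [map_mul, map_mul, map_inv, htθ, hco]
      refine ⟨⟨_, e⟩, ?_⟩
      have := hval (c⁻¹ * t0 * c) ⟨_, rfl⟩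
      simp only [e] at this
      rw [this, mul_right, mul_right, inv_right, t0_eq, right_inr, mul_right_comm, inv_mul_cancel, one_mul]
      decide
  rw [hone] at hV
  exact absurd hV (by decide)

end Cfsg.Agent.Co3TwoM12.Cert
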