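import Cfsg.Agent.Co3TwoM12.Cases
import Cfsg.Agent.Co3TwoM12.Wreath
import Cfsg.Agent.Co3TwoM12.Residual
import Cfsg.Agent.Co3TwoM12.Cert.CoA.Cert
import Cfsg.Agent.Co3Out.Out
import Cfsg.Agent.S2061

/-!
The model twisted by an outer automorphism of the centraliser satisfies the second choice of
relators.
-/

set_option autoImplicit false
set_option maxRecDepth 100000

namespace Cfsg.Agent.Co3TwoM12.Cert

open Cfsg Cfsg.Agent.Compute Cfsg.Agent.StemCert
open Cfsg.Agent.Co3Rec (R)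

theorem co3_not_comm : ¬ IsMulCommutative R := by
  intro h
  have htop : CB = ⊤ := eq_top_iff.mpr fun y _ => mem_CB.mpr (h.is_comm.comm _ _)
  have h1 := card_CB
  rw [htop, Subgroup.card_top] at h1
  have h2 := Co3Out.card_co3
  change Nat.card R = _ at h2
  omega

/-- The projection on the factor of order two. -/
theorem exists_proj : ∃ φ : CBs →* Multiplicative (ZMod 2), φ ⟨_, bE_memC⟩ ≠ 1 := by
  obtain ⟨f⟩ := cb_iso
  let f' : CBs ≃* Multiplicative (ZMod 2) × ↥Cfsg.Spor.M12 := f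
  refine ⟨(MonoidHom.fst _ _).comp f'.toMonoidHom, fun h => bE_ne_one ?_⟩
  have h2 : (f' ⟨_, bE_memC⟩).2 ∈ Subgroup.center ↥Cfsg.Spor.M12 := Subgroup.mem_center_iff.mpr fun g => by
    obtain ⟨y, hy⟩ := f'.surjective (1, g)
    have h' : y * (⟨_, bE_memC⟩ : CBs) = ⟨_, bE_memC⟩ * y :=
      Subtype.ext (Subgroup.mem_centralizer_singleton_iff.mp y.2)
    have h'' := congrArg Prod.snd (congrArg f' h')
    rw [map_mul, map_mul, hy] at h''
    exact h''
  rw [center_m12, Subgroup.mem_bot] at h2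
  have : f' ⟨_, bE_memC⟩ = 1 := Prod.ext h h2
  exact congrArg Subtype.val (f'.map_eq_one_iff.mp this)

/-- An automorphism of the centraliser fixing the involution that is not inner. -/
theorem exists_twist : ∃ σ : CBs ≃* CBs, σ ⟨_, bE_memC⟩ = ⟨_, bE_memC⟩ ∧
    ∀ c, ¬ ∀ y, σ y = c * y * c⁻¹ := by
  obtain ⟨f⟩ := cb_iso
  let f' : CBs ≃* Multiplicative (ZMod 2) × ↥Cfsg.Spor.M12 := f
  obtain ⟨τ, hτ⟩ : ∃ τ : MulAut ↥Cfsg.Spor.M12, τ ∉ Cfsg.Inn ↥Cfsg.Spor.M12 := by
    by_contra! h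
    have h2 := S2061.result
    have : Subsingleton (Cfsg.Out ↥Cfsg.Spor.M12) := by
      refine ⟨fun a b => ?_⟩
      induction a using QuotientGroup.induction_on with
      | H a =>
        induction b using QuotientGroup.induction_on with
        | H b => exact QuotientGroup.eq.mpr (h _)
    rw [Nat.card_of_subsingleton (1 : Cfsg.Out ↥Cfsg.Spor.M12)] at h2
    norm_num at h2
  let σ : CBs ≃* CBs := (f'.trans ((MulEquiv.refl _).prodCongr τ)).trans f'.symm
  refine ⟨σ, ?_, fun c hc => hτ ⟨(f' c).2, ?_⟩⟩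
  · have h2 : (f' ⟨_, bE_memC⟩).2 ∈ Subgroup.center ↥Cfsg.Spor.M12 :=
      Subgroup.mem_center_iff.mpr fun g => by
        obtain ⟨y, hy⟩ := f'.surjective (1, g)
        have h' : y * (⟨_, bE_memC⟩ : CBs) = ⟨_, bE_memC⟩ * y :=
          Subtype.ext (Subgroup.mem_centralizer_singleton_iff.mp y.2)
        have h'' := congrArg Prod.snd (congrArg f' h')
        rw [map_mul, map_mul, hy] at h''
        exact h''
    rw [center_m12, Subgroup.mem_bot] at h2
    refine f'.symm_apply_eq.mpr (Prod.ext rfl ?_)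
    show τ (f' ⟨_, bE_memC⟩).2 = _
    rw [h2, map_one]
  · refine MulEquiv.ext fun g => ?_
    have e := congrArg f' (hc (f'.symm (1, g)))
    simp only [σ, MulEquiv.trans_apply, MulEquiv.apply_symm_apply, map_mul, map_inv] at e
    have e2 : τ g = (f' c).2 * g * (f' c).2⁻¹ := congrArg Prod.snd e
    rw [MulAut.conj_apply, e2]

/-- A second solution in the model. -/
theorem exists_second : ∃ (j : CBs →* R) (xR : R), j ⟨_, bE_memC⟩ = Co3Rec.bE ∧
    Rel j xR 2 relsB ∧ Subgroup.closure (Set.range j ∪ {xR}) = ⊤ := by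
  obtain ⟨σ, hσb, hσ⟩ := exists_twist
  let j : CBs →* R := CBs.subtype.comp σ.toMonoidHom
  have hinj : Function.Injective j := CBs.subtype_injective.comp σ.injective
  have hjb : j ⟨_, bE_memC⟩ = Co3Rec.bE := congrArg Subtype.val hσb
  have hjr : Set.range j = (CBs : Set R) := by
    ext y
    exact ⟨fun ⟨c, hc⟩ => hc ▸ (σ c).2, fun hy => ⟨σ.symm ⟨y, hy⟩, by simp [j]⟩⟩
  have hrange : ∀ y, y * j ⟨_, bE_memC⟩ = j ⟨_, bE_memC⟩ * y → y ∈ j.range := fun y hy => by
    rw [hjb] at hy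
    show y ∈ Set.range j
    rw [hjr]
    exact Subgroup.mem_centralizer_singleton_iff.mpr hy
  have hO : j ⟨_, bE_memC⟩ ∈ Cfsg.pResidual 2 R := by
    rw [pResidual_simple co3_not_comm]
    trivial
  obtain ⟨φ, hφ⟩ := exists_proj
  obtain ⟨n, h1, h2⟩ := exists_swap j hinj hrange card_CB φ hφ hO
  obtain ⟨xR, k, hk, hx2, hx⟩ := exists_normal_swap j hinj hrange card_CB h1 h2
  rcases normal_swap_class j hinj hrange card_CB hk hx2 hx with rfl | rfl
  · exact (not_wreath j hinj hrange hO (cases_0 hinj hrange card_CB hx2 hx)).elim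
  rcases cases_2 hinj hrange card_CB hx2 hx with hA | hB
  · exfalso
    obtain ⟨θ, hθi, hθc, -⟩ := hA.exists_iso (by norm_num) x_ok.2.2.2 CoA.steps CoA.cover CoA.steps_ok
      CoA.node_src CoA.valid CoA.idx_sum rel_R (by simpa using generated_xE)
      ⟨⟨_, bE_memC⟩, by rw [hjb]; exact bE_ne_one⟩
    let A : MulAut R := MulEquiv.ofBijective θ (Finite.injective_iff_bijective.mp hθi)
    have hsub : Subsingleton (Cfsg.Out R) := (Nat.card_eq_one_iff_unique.mp Co3Out.card_out).1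
    obtain ⟨g, hg⟩ : A ∈ Cfsg.Inn R :=
      (QuotientGroup.eq_one_iff A).mp (hsub.elim (A : Cfsg.Out R) 1)
    have hθ : ∀ y, θ y = g * y * g⁻¹ := fun y => by
      have e := DFunLike.congr_fun hg y
      simpa [A] using e.symm
    have hgb : g * Co3Rec.bE = Co3Rec.bE * g := by
      have e := hθc ⟨_, bE_memC⟩
      rw [hjb, hθ] at e
      exact mul_inv_eq_iff_eq_mul.mp e
    exact hσ ⟨g, Subgroup.mem_centralizer_singleton_iff.mpr hgb⟩ fun y => Subtype.ext (by
      have e := hθc y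
      rw [hθ] at e
      exact e.symm)
  refine ⟨j, xR, hjb, hB, ?_⟩
  rw [hjr]
  obtain ⟨r, hrb, -, hrr⟩ := exists_root
  let rC : CBs := ⟨r, Subgroup.mem_centralizer_singleton_iff.mpr hrb⟩
  let zC : CBs := ⟨_, tE_memC⟩
  have hrC : rC * rC = zC := Subtype.ext hrr
  have hzz : j zC * j zC = 1 := by
    rw [← map_mul, show zC * zC = 1 from Subtype.ext tE_ne.2.1, map_one]
  have hzne : j zC ≠ 1 := fun h => tE_ne.1 (congrArg Subtype.val (hinj (h.trans (map_one j).symm)))
  obtain ⟨c, hc, hce⟩ := exists_sq_conj card_CB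
    (Subgroup.mem_centralizer_singleton_iff.mp (σ rC).2)
    (by show j rC * j rC ≠ 1; rw [← map_mul, hrC]; exact hzne)
    (by show j rC * j rC * (j rC * j rC) = 1; rw [← map_mul, hrC]; exact hzz)
  refine generated_of_swap hc ?_
  have h := hx 1 (by norm_num)
  have h17 : aMap 2 1 = 7 := by decide +kernel
  rw [h17, dC_one, dC_seven, map_mul, hjb] at h
  rw [h, ← hce]
  show Co3Rec.bE * j zC = Co3Rec.bE * (j rC * j rC)
  rw [← map_mul, hrC]

end Cfsg.Agent.Co3TwoM12.Cert
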