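import Cfsg.Agent.Co3TwoM12.Cert.Model
import Cfsg.Agent.Co3TwoM12.Cert.Wreath.RuleData

/-!
The wreathed product of two copies of the Mathieu group satisfies the relations of the first
automorphism: the model for the exceptional case.
-/

set_option autoImplicit false
set_option maxRecDepth 100000

namespace Cfsg.Agent.Co3TwoM12.WreathModel

open Cfsg Cfsg.Agent.Compute Cfsg.Agent.StemCert
open Cfsg.Agent.Co3Rec (R Ctx ltB ltB_iff)

/-- A factor. -/
abbrev Mg : Type := ↥CentCert.M

/-- The pairs. -/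
abbrev MM : Type := Mg × Mg

/-- The group of order two. -/
abbrev Z2 : Type := Multiplicative (ZMod 2)

/-- The exchange of the factors. -/
noncomputable def swapAut : MulAut MM := MulEquiv.prodComm

theorem z2_cases : ∀ x : Z2, x = 1 ∨ x = Multiplicative.ofAdd 1 := by decide

/-- The action. -/
noncomputable def act : Z2 →* MulAut MM :=
  MonoidHom.mk' (fun a => if a = 1 then 1 else swapAut) fun a b => by
    have h : swapAut * swapAut = 1 := MulEquiv.ext fun p => rfl
    rcases z2_cases a with rfl | rfl <;> rcases z2_cases b with rfl | rfl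
    all_goals simp [h, ← ofAdd_add, show (1 : ZMod 2) + 1 = 0 by decide]

/-- The wreathed product. -/
abbrev W : Type := MM ⋊[act] Z2

theorem act_one_apply (p : MM) : act 1 p = p := by rw [map_one]; rfl

theorem act_swap_apply (p : MM) : act (Multiplicative.ofAdd 1) p = (p.2, p.1) := by
  show (if Multiplicative.ofAdd (1 : ZMod 2) = 1 then 1 else swapAut) p = _
  rw [if_neg (show ¬ Multiplicative.ofAdd (1 : ZMod 2) = 1 by decide)]
  rfl

theorem act_diag (e : Z2) (m : Mg) : act e (m, m) = (m, m) := by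
  rcases z2_cases e with rfl | rfl
  exacts [act_one_apply _, act_swap_apply _]

/-- The centraliser as a product. -/
noncomputable def E : CBs ≃* Z2 × Mg := (MulEquiv.ofBijective prodHom prodHom_bijective).symm

/-- The map of the centraliser. -/
noncomputable def Φ0 : CBs →* W :=
  MonoidHom.mk' (fun c => ⟨((E c).2, (E c).2), (E c).1⟩) fun c d => by
    have h : E (c * d) = E c * E d := map_mul E c d
    apply SemidirectProduct.ext
    · rw [SemidirectProduct.mul_left, act_diag, h]; rfl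
    · rw [SemidirectProduct.mul_right, h]; rfl

theorem Φ0_eq (c : CBs) : Φ0 c = ⟨((E c).2, (E c).2), (E c).1⟩ := rfl

/-- The generators of the complement, by number. -/
noncomputable def tokW (i : ℕ) : List ℕ := cond (Nat.beq i 0) [6] [7, 0]

/-- The words of the parts in the complement of the letters. -/
def muTok : List (List ℕ) := [[],
  [1, 1, 0, 1, 0, 1, 1, 0, 1, 0, 1, 1, 1, 0, 1, 1, 1],
  [1, 0, 1, 1, 1, 1, 1, 0, 1, 0, 1, 0, 1, 1, 1, 0, 1, 0, 1, 1, 0, 1, 1, 1, 1],
  [1, 1, 0, 1, 0, 1, 1, 0, 1, 1, 0, 1, 1, 1, 1, 1, 0, 1, 0, 1, 0, 1, 1, 1, 0, 1],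
  [1, 1, 1, 1, 0, 1, 0, 1, 0, 1, 1, 1, 0, 1, 0, 1, 1, 0, 1, 1, 1, 0, 1],
  [1, 1, 0, 1, 1, 1, 0, 1, 0, 1, 1, 0, 1, 1, 1, 1, 1, 0, 1, 1, 1, 1, 1, 0, 1, 1],
  [0],
  [1],
  [1, 1, 1, 1, 1]]

/-- The central parts of the letters. -/
noncomputable def eL (s : ℕ) : Bool := Nat.beq s 0 || Nat.beq s 7 || Nat.beq s 8

/-- The part in the complement of a letter, as a word. -/
noncomputable def muL (s : ℕ) : List ℕ :=
  cond (Nat.beq s 0) [] (cond (Nat.beq s 7 || Nat.beq s 8) [s, 0] [s])

/-- The part in the complement of a word. -/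
noncomputable def muW (l : List ℕ) : List ℕ := l.flatMap muL

theorem muL_ok : allBelow 9 (fun s =>
    same (muL s) ((muTok.getD s []).flatMap tokW) && ltB Data.k (muL s) &&
      ltB 2 (muTok.getD s []) &&
      same [s] (cond (eL s) (0 :: muL s) (muL s))) = true := by decide +kernel

theorem tok_mem {i : ℕ} (hi : i < 2) : ctx.ev (tokW i) ∈ CentCert.M := by
  interval_cases i
  · show ctx.ev [6] ∈ _
    rw [ctx.ev_single, ← CentCert.gen_c0]
    exact Subgroup.subset_closure (by simp)
  · show ctx.ev [7, 0] ∈ _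
    have h := CentCert.eq_of_same CentCert.bWords_ok.2.2
    simp only [Ctx.ev_cons, Ctx.ev_nil, mul_one, CentCert.gen_b, CentCert.gen_c1] at h
    simp only [Ctx.ev_cons, Ctx.ev_nil, mul_one, gen_zero]
    rw [← h]
    exact Subgroup.subset_closure (by simp)

theorem ev_flatMap (f : ℕ → List ℕ) : ∀ l : List ℕ,
    ctx.ev (l.flatMap f) = (l.map fun s => ctx.ev (f s)).prod
  | [] => by simp
  | s :: l => by rw [List.flatMap_cons, Ctx.ev_append, ev_flatMap f l, List.map_cons, List.prod_cons]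

theorem muL_mem {s : ℕ} (hs : s < 9) : ctx.ev (muL s) ∈ CentCert.M := by
  have h := allBelow_eq_true.mp muL_ok s hs
  simp only [Bool.and_eq_true] at h
  rw [eq_of_same h.1.1.1, ev_flatMap]
  refine list_prod_mem fun y hy => ?_
  obtain ⟨i, hi, rfl⟩ := List.mem_map.mp hy
  exact tok_mem (ltB_iff.mp h.1.2 i hi)

open scoped _root_.Classical in
/-- The part in the complement of a letter. -/
noncomputable def mgen (s : ℕ) : Mg := if h : ctx.ev (muL s) ∈ CentCert.M then ⟨_, h⟩ else 1

/-- The value of a word of parts. -/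
noncomputable def mw (l : List ℕ) : Mg := (l.map mgen).prod

theorem mw_append (a b : List ℕ) : mw (a ++ b) = mw a * mw b := by simp [mw]

theorem mw_coe : ∀ {l : List ℕ}, (∀ s ∈ l, s < 9) → (mw l : R) = ctx.ev (muW l)
  | [], _ => by simp [mw, muW]
  | s :: l, h => by
    rw [show mw (s :: l) = mgen s * mw l from rfl, muW, List.flatMap_cons, Ctx.ev_append, Subgroup.coe_mul,
      mw_coe (fun r hr => h r (List.mem_cons_of_mem _ hr)), mgen, dif_pos (muL_mem (h s (by simp)))]
    rfl

theorem muW_lt {l : List ℕ} (h : ∀ s ∈ l, s < 9) : ∀ r ∈ muW l, r < ctx.k := fun r hr => by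
  obtain ⟨s, hs, hr'⟩ := List.mem_flatMap.mp hr
  have h' := allBelow_eq_true.mp muL_ok s (h s hs)
  simp only [Bool.and_eq_true] at h'
  exact ltB_iff.mp h'.1.1.2 r hr'

/-- An element of order dividing two, by a bit. -/
def bz (e : Bool) : Z2 := if e then Multiplicative.ofAdd 1 else 1

theorem bz_xor : ∀ e f : Bool, bz (Bool.xor e f) = bz e * bz f := by decide

theorem bz_injective : ∀ e f : Bool, bz e = bz f → e = f := by decide

/-- A word for an element of the wreathed product. -/
abbrev T3 : Type := List ℕ × List ℕ × Bool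

/-- The value. -/
noncomputable def tv (p : T3) : W := ⟨(mw p.1, mw p.2.1), bz p.2.2⟩

/-- The product of words. -/
noncomputable def tmul (p q : T3) : T3 :=
  (p.1 ++ cond p.2.2 q.2.1 q.1, p.2.1 ++ cond p.2.2 q.1 q.2.1, Bool.xor p.2.2 q.2.2)

theorem tv_mul (p q : T3) : tv (tmul p q) = tv p * tv q := by
  obtain ⟨a, b, e⟩ := p
  obtain ⟨c, d, f⟩ := q
  apply SemidirectProduct.ext
  · rw [SemidirectProduct.mul_left]
    cases e
    · show (mw (a ++ c), mw (b ++ d)) = (mw a, mw b) * act 1 (mw c, mw d)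
      rw [act_one_apply, mw_append, mw_append]; rfl
    · show (mw (a ++ d), mw (b ++ c)) = (mw a, mw b) * act (Multiplicative.ofAdd 1) (mw c, mw d)
      rw [act_swap_apply, mw_append, mw_append]; rfl
  · exact bz_xor e f

/-- Equality of words. -/
noncomputable def teq (p q : T3) : Bool :=
  ltB 9 p.1 && ltB 9 p.2.1 && ltB 9 q.1 && ltB 9 q.2.1 && same (muW p.1) (muW q.1) &&
    same (muW p.2.1) (muW q.2.1) && (p.2.2 == q.2.2)

theorem eq_of_teq {p q : T3} (h : teq p q = true) : tv p = tv q := by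
  simp only [teq, Bool.and_eq_true, beq_iff_eq] at h
  obtain ⟨⟨⟨⟨⟨⟨ha, hb⟩, hc⟩, hd⟩, h1⟩, h2⟩, h3⟩ := h
  apply SemidirectProduct.ext
  · exact Prod.ext (Subtype.ext (by rw [show ((tv p).left.1 : R) = (mw p.1 : R) from rfl,
      mw_coe (ltB_iff.mp ha), eq_of_same h1, ← mw_coe (ltB_iff.mp hc)]; rfl))
      (Subtype.ext (by rw [show ((tv p).left.2 : R) = (mw p.2.1 : R) from rfl,
      mw_coe (ltB_iff.mp hb), eq_of_same h2, ← mw_coe (ltB_iff.mp hd)]; rfl))
  · exact congrArg bz h3

/-- The word of an element of the centraliser. -/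
noncomputable def trip : List ℕ → T3
  | [] => ([], [], false)
  | s :: l => tmul ([s], [s], eL s) (trip l)

theorem E_letter {s : ℕ} (hs : s < 9) : E (wC [s]) = (bz (eL s), mw [s]) := by
  refine (MulEquiv.symm_apply_eq _).mpr (Subtype.ext ?_)
  show (wC [s] : R) = (prodHom (bz (eL s), mw [s]) : R)
  rw [wC_coe (by simpa using hs), prodHom, MonoidHom.noncommCoprod_apply, Subgroup.coe_mul]
  show _ = _ * (mw [s] : R)
  rw [mw_coe (by simpa using hs)]
  have h := allBelow_eq_true.mp muL_ok s hs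
  simp only [Bool.and_eq_true] at h
  rw [eq_of_same h.2, show muW [s] = muL s by simp [muW]]
  cases eL s
  · rw [show twoHom (bz false) = 1 from map_one _, OneMemClass.coe_one, one_mul]; rfl
  · rw [twoHom_of_ne (show bz true ≠ 1 by decide)]
    show ctx.ev (0 :: muL s) = Co3Rec.bE * _
    rw [Ctx.ev_cons, gen_zero]

theorem Φ0_word : ∀ {l : List ℕ}, (∀ s ∈ l, s < 9) → Φ0 (wC l) = tv (trip l)
  | [], _ => by
    rw [show wC [] = 1 from Subtype.ext (by rw [wC_coe (by simp), Ctx.ev_nil]; rfl), map_one]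
    rfl
  | s :: l, h => by
    have hs := h s (by simp)
    have hl : ∀ r ∈ l, r < 9 := fun r hr => h r (List.mem_cons_of_mem _ hr)
    have e : wC (s :: l) = wC [s] * wC l := Subtype.ext (by
      rw [Subgroup.coe_mul, wC_coe h, wC_coe hl, wC_coe (by simpa using hs), Ctx.ev_single, Ctx.ev_cons])
    rw [e, map_mul, Φ0_word hl, trip, tv_mul, Φ0_eq, E_letter hs]
    rfl

theorem dC_eq {i : ℕ} (hi : i < 384) : dC i = wC (dW i) := Subtype.ext (by
  rw [dC_coe hi, wC_coe (fun s hs => by have := dW_lt hi s hs; omega)]; rfl)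

/-- The first part of the interchanging element. -/
noncomputable def dWord : List ℕ := dW 251

/-- The interchanging element. -/
noncomputable def xT : T3 := (dWord ++ [1], dWord, false)

/-- The interchanging element in the group. -/
noncomputable def x0 : W := tv xT

theorem conj_ok : allBelow 6 (fun s => Nat.blt (dLet s) 384 &&
    teq (tmul xT (trip (dW (dLet s)))) (tmul (trip (dW (aImg 0 s))) xT)) = true := by decide +kernel

theorem sq_ok : teq (tmul xT xT) ([], [], false) = true := by decide +kernel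

theorem rel_ok : Cert.Wreath.rels.all (fun e =>
    teq (tmul xT (tmul (tmul (trip (rG e.1)) xT) (tmul (trip (rH e.1)) xT)))
      (trip (Cert.tlW e.1 e.2)) && Nat.blt e.1 6 && Nat.blt (Cert.relYd e.1 e.2) 384) = true := by
  decide +kernel

theorem x0_sq : x0 * x0 = 1 := by
  rw [x0, ← tv_mul, eq_of_teq sq_ok]; rfl

theorem aImg_lt {s : ℕ} (hs : s < 6) : aImg 0 s < 384 := by
  have h := allBelow_eq_true.mp aImg_ok 0 (by norm_num)
  simp only [Bool.and_eq_true] at h
  exact Nat.blt_eq.mp (allBelow_eq_true.mp h.1.1.1.1 s hs)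

/-- The model satisfies the relations. -/
theorem rel : Cert.Rel Φ0 x0 0 Cert.Wreath.rels := by
  have xi : x0⁻¹ = x0 := inv_eq_of_mul_eq_one_right x0_sq
  refine ⟨x0_sq, fun i hi => ?_, fun e he => ?_⟩
  · have hg : ∀ s < 6, x0 * Φ0 (dC (dLet s)) * x0⁻¹ = Φ0 (dC (aImg 0 s)) := by
      intro s hs
      have h := allBelow_eq_true.mp conj_ok s hs
      simp only [Bool.and_eq_true, Nat.blt_eq] at h
      rw [dC_eq h.1, dC_eq (aImg_lt hs), Φ0_word (fun r hr => by have := dW_lt h.1 r hr; omega),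
        Φ0_word (fun r hr => by have := dW_lt (aImg_lt hs) r hr; omega), mul_inv_eq_iff_eq_mul, x0,
        ← tv_mul, ← tv_mul]
      exact eq_of_teq h.2
    have h := conj_word Φ0 (k := 0) (by norm_num) hg (dW i) (dW_lt hi)
    obtain ⟨a1, a2⟩ := dApp_spec (dW i) (dW_lt hi) 0 (by norm_num)
    have h0 : dApp 0 (dW i) = i := dEl_inj a1 hi (by rw [← a2, dEl_zero, one_mul]; rfl)
    have h1 := allBelow_eq_true.mp (allBelow_eq_true.mp aMap_ok 0 (by norm_num)) i hi
    simp only [Bool.and_eq_true, Nat.beq_eq] at h1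
    rwa [h0, h1.1.2] at h
  · have h := List.all_eq_true.mp rel_ok e he
    simp only [Bool.and_eq_true, Nat.blt_eq] at h
    obtain ⟨⟨ht, hc⟩, hd⟩ := h
    obtain ⟨hg, hh, hy⟩ := Cert.rG_lt hc
    have hl : ∀ r ∈ Cert.tlW e.1 e.2, r < 9 := fun r hr => by
      rcases List.mem_append.mp hr with hr | hr
      · exact hy r hr
      · have := dW_lt hd r hr; omega
    have ey : wC (rY e.1) * dC (Cert.relYd e.1 e.2) = wC (Cert.tlW e.1 e.2) := Subtype.ext (by
      rw [Subgroup.coe_mul, wC_coe hy, dC_coe hd, wC_coe hl, Ctx.ev_append]; rfl)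
    rw [ey, triV, Φ0_word hg, Φ0_word hh, Φ0_word hl, x0, ← tv_mul, ← tv_mul, ← tv_mul, ← tv_mul]
    exact eq_of_teq ht

end Cfsg.Agent.Co3TwoM12.WreathModel
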